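import Groth.Agent.Lib.Ample.CocPullback
import Groth.Agent.Lib.Ample.Calculus
import Mathlib.AlgebraicGeometry.Morphisms.Flat
import Mathlib.AlgebraicGeometry.Morphisms.ClosedImmersion

/-!
# Functions modulo a parameter of the base, and trivial cocycles
-/

universe u

open CategoryTheory CategoryTheory.Limits Opposite TopologicalSpace AlgebraicGeometry
open GrothLib.Ample

set_option backward.isDefEq.respectTransparency false

noncomputable section

namespace GrothLib.Cube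

variable {R : Type u} [CommRing R]

/-- A constant from the base as a function. -/
def cst {Y : Scheme.{u}} (g : Y ⟶ Spec (CommRingCat.of R)) (V : Y.Opens) : R →+* Γ(Y, V) :=
  (g.appLE ⊤ V le_top).hom.comp (Scheme.ΓSpecIso (CommRingCat.of R)).inv.hom

theorem res_cst {Y : Scheme.{u}} (g : Y ⟶ Spec (CommRingCat.of R)) {V W : Y.Opens} (h : W ≤ V) (r : R) :
    res h (cst g V r) = cst g W r := by
  show res h ((g.appLE ⊤ V le_top).hom _) = (g.appLE ⊤ W le_top).hom _
  exact res_appLE g h _ _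

theorem appLE_cst {Y Z : Scheme.{u}} (j : Z ⟶ Y) (g : Y ⟶ Spec (CommRingCat.of R)) {V : Y.Opens} {W : Z.Opens}
    (e : W ≤ j ⁻¹ᵁ V) (r : R) : (j.appLE V W e).hom (cst g V r) = cst (j ≫ g) W r := by
  show ((g.appLE ⊤ V le_top ≫ j.appLE V W e).hom) _ = _
  rw [Scheme.Hom.appLE_comp_appLE]
  rfl

variable {L : Type u} [CommRing L] (φ : R →+* L)

/-- Functions on an affine open which vanish on the fibre are multiples of the parameter. -/
theorem exists_eq_mul {Y Y₀ : Scheme.{u}} {g : Y ⟶ Spec (CommRingCat.of R)} {j : Y₀ ⟶ Y}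
    {p : Y₀ ⟶ Spec (CommRingCat.of L)} (H : IsPullback j p g (Spec.map (CommRingCat.ofHom φ)))
    (hφ : Function.Surjective φ) {π : R} (hker : RingHom.ker φ = Ideal.span {π})
    {V : Y.Opens} (hV : IsAffineOpen V) (x : Γ(Y, V)) (hx : (j.app V).hom x = 0) :
    ∃ y, x = cst g V π * y := by
  let I : Ideal Γ(Y, V) := Ideal.span {cst g V π}
  let mkI : Γ(Y, V) →+* Γ(Y, V) ⧸ I := Ideal.Quotient.mk I
  have hkI : RingHom.ker φ ≤ RingHom.ker (mkI.comp (cst g V)) := by
    rw [hker, Ideal.span_singleton_le_iff_mem, RingHom.mem_ker]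
    exact Ideal.Quotient.eq_zero_iff_mem.2 (Ideal.mem_span_singleton_self _)
  let ψ : L →+* Γ(Y, V) ⧸ I := RingHom.liftOfSurjective φ hφ ⟨mkI.comp (cst g V), hkI⟩
  have hψ : ψ.comp φ = mkI.comp (cst g V) := RingHom.liftOfRightInverse_comp _ _ _ _
  have hP : IsPushout (g.appLE ⊤ V le_top) ((Spec.map (CommRingCat.ofHom φ)).appLE ⊤ ⊤ le_top)
      (j.appLE V (j ⁻¹ᵁ V) le_rfl) (p.appLE ⊤ (j ⁻¹ᵁ V) le_top) :=
    (AlgebraicGeometry.isIso_pushoutSection_iff H (US := ⊤) (UT := ⊤) (UX := V) (UY := j ⁻¹ᵁ V) le_top le_top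
      (by simp)).1 (AlgebraicGeometry.isIso_pushoutSection_of_isAffineOpen H le_top le_top (by simp)
        (isAffineOpen_top _) (isAffineOpen_top _) hV)
  let right : Γ(Spec (CommRingCat.of L), ⊤) ⟶ CommRingCat.of (Γ(Y, V) ⧸ I) :=
    (Scheme.ΓSpecIso (CommRingCat.of L)).hom ≫ CommRingCat.ofHom ψ
  have hw : g.appLE ⊤ V le_top ≫ CommRingCat.ofHom mkI =
      (Spec.map (CommRingCat.ofHom φ)).appLE ⊤ ⊤ le_top ≫ right := by
    rw [← cancel_epi (Scheme.ΓSpecIso (CommRingCat.of R)).inv]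
    have e1 : (Spec.map (CommRingCat.ofHom φ)).appLE ⊤ ⊤ le_top = (Spec.map (CommRingCat.ofHom φ)).appTop :=
      Scheme.Hom.appLE_eq_app _
    rw [e1, ← Scheme.ΓSpecIso_inv_naturality_assoc, Iso.inv_hom_id_assoc]
    exact CommRingCat.hom_ext hψ.symm
  let d := hP.desc (CommRingCat.ofHom mkI) right hw
  have hd : mkI x = 0 := by
    have h1 := congrArg (fun f => (CommRingCat.Hom.hom f) x) (hP.inl_desc (CommRingCat.ofHom mkI) right hw)
    refine h1.symm.trans ?_
    show d.hom ((j.appLE V (j ⁻¹ᵁ V) le_rfl).hom x) = 0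
    rw [← Scheme.Hom.app_eq_appLE, hx, map_zero]
  obtain ⟨y, hy⟩ := Ideal.mem_span_singleton.1 (Ideal.Quotient.eq_zero_iff_mem.1 hd)
  exact ⟨y, hy⟩

/-- A constant which is regular on the base is regular on a flat scheme over it. -/
theorem cst_mul_injective {Y : Scheme.{u}} (g : Y ⟶ Spec (CommRingCat.of R)) [Flat g] {π : R}
    (hπ : IsRightRegular π) (V : Y.Opens) {x : Γ(Y, V)} (hx : cst g V π * x = 0) : x = 0 := by
  refine eq_of_cover (fun W : {W : Y.affineOpens // W.1 ≤ V} => W.1.1) (fun W => W.2) (fun y hy => ?_) fun W => ?_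
  · obtain ⟨W, hW, hyW, hWV⟩ := exists_isAffineOpen_mem_and_subset hy
    exact Opens.mem_iSup.2 ⟨⟨⟨W, hW⟩, hWV⟩, hyW⟩
  · rw [map_zero]
    have hf := g.flat_appLE (isAffineOpen_top _) W.1.2 le_top
    algebraize [(g.appLE ⊤ W.1.1 le_top).hom]
    set a := (Scheme.ΓSpecIso (CommRingCat.of R)).inv.hom π
    have ha : IsSMulRegular Γ(Spec (CommRingCat.of R), ⊤) a := by
      intro s t hst
      let e := (Scheme.ΓSpecIso (CommRingCat.of R)).commRingCatIsoToRingEquiv
      have := congrArg e hst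
      simp only [smul_eq_mul, map_mul] at this
      have ea : e a = π := (Scheme.ΓSpecIso (CommRingCat.of R)).commRingCatIsoToRingEquiv.apply_symm_apply π
      rw [ea, mul_comm, mul_comm π] at this
      exact e.injective (hπ this)
    have := ha.of_flat (S := Γ(Y, W.1.1))
    refine this ?_
    show algebraMap _ _ a * res W.2 x = algebraMap _ _ a * 0
    rw [mul_zero]
    have h2 := congrArg (res W.2) hx
    rw [map_mul, res_cst, map_zero] at h2
    exact h2

variable {X Y : Scheme.{u}}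

/-- A cocycle is trivial. -/
def Triv (c : Cocycle X) : Prop := ∃ a : c.sect 1 ⊤, c.locus a = ⊤

theorem triv_iff (c : Cocycle X) : Triv c ↔ Nonempty (c.twist 1 ≅ Coh.structureModule X) := by
  constructor
  · rintro ⟨a, ha⟩
    haveI := c.isIso_hom_of_locus_eq_top a ha
    exact ⟨(asIso (c.hom a)).symm⟩
  · rintro ⟨e⟩
    obtain ⟨a, ha⟩ := c.exists_hom_eq e.inv
    refine ⟨a, ?_⟩
    rw [← c.genLocus_hom, ha]
    refine top_le_iff.1 (le_sSup ?_)
    show IsIso ((Scheme.Modules.restrictFunctor _).map e.inv)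
    infer_instance

theorem isUnit_component {c : Cocycle X} {a : c.sect 1 ⊤} (ha : c.locus a = ⊤) (i : c.ι) {W : X.Opens}
    (hW : W ≤ c.D i) : IsUnit (res (le_inf le_top hW) (a.1 i)) := by
  have h : W ≤ X.basicOpen (a.1 i) := by
    rw [← c.locus_inf_D a i, ha]; exact le_inf le_top hW
  rw [← res_res (c.basicOpen_le_D a i) h]
  exact (RingedSpace.isUnit_res_basicOpen X.toRingedSpace (a.1 i)).map _

theorem triv_comap {c : Cocycle X} (j : Y ⟶ X) (h : Triv c) : Triv (c.comap j) := by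
  obtain ⟨a, ha⟩ := h
  refine ⟨c.pullSect j (le_top : (⊤ : Y.Opens) ≤ j ⁻¹ᵁ ⊤) a, top_le_iff.1 fun y _ => ?_⟩
  obtain ⟨i, hi⟩ := (c.comap j).exists_mem y
  rw [(c.comap j).mem_locus_iff _ hi]
  have hu : IsUnit (res (le_inf le_top le_rfl) (a.1 i) : Γ(X, c.D i)) := isUnit_component ha i le_rfl
  have hu2 : IsUnit (res (inf_le_right : ⊤ ⊓ c.D i ≤ c.D i) (res (le_inf le_top le_rfl) (a.1 i))) := hu.map _
  rw [res_res, res_self] at hu2
  rw [c.pullSect_apply]
  exact (Scheme.basicOpen_of_isUnit Y (hu2.map (j.appLE _ _ _).hom)).ge ⟨trivial, hi⟩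

end GrothLib.Cube
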