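import Groth.Agent.Lib.Cube.Mod
import Groth.Agent.Lib.Ample.Functorial

/-!
# The group of invertible modules up to isomorphism

Presented by cocycles; pullback is a homomorphism, and the class of a tensor product is the product.
-/

universe u

open CategoryTheory CategoryTheory.Limits Opposite TopologicalSpace AlgebraicGeometry
open GrothLib.Ample
open GrothLib.InvExt (mres mres_smul IsGen)

set_option backward.isDefEq.respectTransparency false

noncomputable section

namespace GrothLib.Cube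

variable {X Y Z : Scheme.{u}}

/-- Two cocycles define isomorphic modules. -/
def Eqv (c c' : Cocycle X) : Prop := Nonempty (c.twist 1 ≅ c'.twist 1)

instance picSetoid (X : Scheme.{u}) : Setoid (Cocycle X) where
  r := Eqv
  iseqv := ⟨fun _ => ⟨Iso.refl _⟩, fun ⟨e⟩ => ⟨e.symm⟩, fun ⟨e⟩ ⟨f⟩ => ⟨e ≪≫ f⟩⟩

theorem Eqv.refl (c : Cocycle X) : Eqv c c := ⟨Iso.refl _⟩

theorem Eqv.symm {c d : Cocycle X} : Eqv c d → Eqv d c := fun ⟨e⟩ => ⟨e.symm⟩

theorem Eqv.trans {c d e : Cocycle X} : Eqv c d → Eqv d e → Eqv c e := fun ⟨f⟩ ⟨g⟩ => ⟨f ≪≫ g⟩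

theorem triv_G (i k : (Cocycle.triv X).ι) {O : X.Opens} (hi : O ≤ (Cocycle.triv X).D i)
    (hk : O ≤ (Cocycle.triv X).D k) : (Cocycle.triv X).G i k hi hk = 1 := map_one _

/-- A map of covers matching the transition functions up to units identifies the modules. -/
theorem eqv_of_map {c c' : Cocycle X} (φ : c.ι → c'.ι) (hle : ∀ i, c.D i ≤ c'.D (φ i))
    (l : ∀ i, Γ(X, c.D i)) (hl : ∀ i, IsUnit (l i))
    (h : ∀ (i k : c.ι) (O : X.Opens) (hi : O ≤ c.D i) (hk : O ≤ c.D k),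
      res hk (l k) * c'.G (φ i) (φ k) (hi.trans (hle i)) (hk.trans (hle k)) = c.G i k hi hk * res hi (l i)) :
    Eqv c c' := by
  let m : ∀ i, Γ(c'.twist 1, c.D i) := fun i => l i • c'.base 1 (φ i) (hle i)
  have hres : ∀ (i : c'.ι) {V V' : X.Opens} (h : V' ≤ V) (hV : V ≤ c'.D i),
      mres (c'.twist 1) h (c'.base 1 i hV) = c'.base 1 i (h.trans hV) := fun i V V' h hV => c'.sectRes_base 1 i _ h
  have hm : c.IsFamily 1 m := by
    intro i k O hi hk
    show mres (c'.twist 1) hk (l k • c'.base 1 (φ k) (hle k)) =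
      c.G i k hi hk ^ 1 • mres (c'.twist 1) hi (l i • c'.base 1 (φ i) (hle i))
    rw [mres_smul, mres_smul, hres, hres, pow_one, smul_smul]
    have hb : c'.base 1 (φ k) (hk.trans (hle k)) =
        c'.G (φ i) (φ k) (hi.trans (hle i)) (hk.trans (hle k)) • c'.base 1 (φ i) (hi.trans (hle i)) := by
      have := c'.base_eq_smul_base 1 (φ i) (φ k) (hi.trans (hle i)) (hk.trans (hle k))
      rwa [pow_one] at this
    show (res hk (l k)) • _ = (c.G i k hi hk * res hi (l i)) • _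
    rw [hb, smul_smul, h i k O hi hk]
  have hg : ∀ i, IsGen (c'.twist 1) (c.D i) (m i) := by
    intro i V hV
    have hb := c'.isGen_base 1 (φ i) (hle i) V hV
    have e : mres (c'.twist 1) hV (m i) = res hV (l i) • mres (c'.twist 1) hV (c'.base 1 (φ i) (hle i)) :=
      mres_smul (c'.twist 1) hV (l i) _
    obtain ⟨v, hv⟩ := ((hl i).map (res hV))
    refine ⟨fun a b hab => ?_, fun y => ?_⟩
    · simp only [e, smul_smul] at hab
      exact (Units.mul_left_inj v).1 (hv ▸ hb.1 hab)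
    · obtain ⟨r, hr⟩ := hb.2 y
      refine ⟨r * ↑v⁻¹, ?_⟩
      simp only [e, smul_smul]
      rw [mul_assoc, ← hv, Units.inv_mul, mul_one]
      exact hr
  haveI := c.isIso_homOfFamily hm hg
  exact ⟨asIso (c.homOfFamily hm)⟩

/-- The inverse cocycle. -/
def inv (c : Cocycle X) : Cocycle X where
  ι := c.ι
  D := c.D
  g i k := c.G k i (inf_le_right : c.D i ⊓ c.D k ≤ c.D k) (inf_le_left : c.D i ⊓ c.D k ≤ c.D i)
  cover := c.cover
  self i W h := by rw [Cocycle.res_G]; exact c.G_self i _ _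
  change i k l W hi hk hl := by
    simp only [Cocycle.res_G]
    rw [mul_comm]
    exact c.G_trans l k i hl hk hi

theorem inv_G (c : Cocycle X) (i k : c.ι) {W : X.Opens} (hi : W ≤ c.D i) (hk : W ≤ c.D k) :
    (inv c).G i k hi hk = c.G k i hk hi :=
  c.res_G k i (inf_le_right : c.D i ⊓ c.D k ≤ c.D k) (inf_le_left : c.D i ⊓ c.D k ≤ c.D i) _

theorem triv_triv (X : Scheme.{u}) : Triv (Cocycle.triv X) := by
  refine ⟨⟨fun _ => 1, fun i j W hi hj => ?_⟩, Cocycle.locus_eq_top_of_isUnit _ _ fun _ => isUnit_one⟩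
  show res hi 1 = res _ (1 : Γ(X, _)) ^ 1 * res hj 1
  simp

/-- The group of invertible modules up to isomorphism. -/
def Pic (X : Scheme.{u}) : Type (u + 1) := Quotient (picSetoid X)

/-- The class of a cocycle. -/
def cls (c : Cocycle X) : Pic X := Quotient.mk _ c

theorem cls_eq_iff {c c' : Cocycle X} : cls c = cls c' ↔ Nonempty (c.twist 1 ≅ c'.twist 1) :=
  ⟨fun h => Quotient.exact h, fun h => Quotient.sound h⟩

theorem eqv_prod {c₁ c₂ d₁ d₂ : Cocycle X} (h₁ : Eqv c₁ d₁) (h₂ : Eqv c₂ d₂) : Eqv (c₁.prod c₂) (d₁.prod d₂) := by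
  obtain ⟨e₁⟩ := h₁
  obtain ⟨e₂⟩ := h₂
  obtain ⟨f⟩ := c₁.nonempty_tensorMod_iso_prod c₂ (Iso.refl _) (Iso.refl _)
  obtain ⟨g⟩ := d₁.nonempty_tensorMod_iso_prod d₂ e₁ e₂
  exact ⟨f.symm ≪≫ g⟩

theorem eqv_prod_comm (c d : Cocycle X) : Eqv (c.prod d) (d.prod c) :=
  eqv_of_map (fun p => (p.2, p.1)) (fun _ => le_inf inf_le_right inf_le_left) (fun _ => 1) (fun _ => isUnit_one)
    fun p q O hp hq => by rw [map_one, map_one, one_mul, mul_one, Cocycle.prod_G, Cocycle.prod_G, mul_comm]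

theorem eqv_prod_inv (c : Cocycle X) : Eqv ((inv c).prod c) (Cocycle.triv X) :=
  eqv_of_map (fun _ => PUnit.unit) (fun _ => le_top) (fun p => c.G p.1 p.2 inf_le_left inf_le_right)
    (fun p => c.isUnit_G p.1 p.2 inf_le_left inf_le_right) fun p q O hp hq => by
      have e : (Cocycle.triv X).G (W := O) PUnit.unit PUnit.unit le_top le_top = 1 :=
        (Cocycle.triv X).G_self _ _ _
      simp only [Cocycle.res_G]
      rw [e, mul_one, Cocycle.prod_G, inv_G, mul_assoc, mul_comm (c.G p.2 q.2 _ _),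
        ← c.G_trans p.1 p.2 q.2 (hp.trans inf_le_left) (hp.trans inf_le_right) (hq.trans inf_le_right)]
      exact c.G_trans q.1 p.1 q.2 (hq.trans inf_le_left) (hp.trans inf_le_left) (hq.trans inf_le_right)

instance : CommGroup (Pic X) where
  mul := Quotient.map₂ Cocycle.prod fun _ _ h₁ _ _ h₂ => eqv_prod h₁ h₂
  one := cls (Cocycle.triv X)
  inv := Quotient.map inv fun c d h => by
    have h1 : Eqv ((inv c).prod d) (Cocycle.triv X) :=
      (eqv_prod (Eqv.refl _) (Eqv.symm h)).trans (eqv_prod_inv c)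
    have one_prod : ∀ e : Cocycle X, Eqv ((Cocycle.triv X).prod e) e := fun e =>
      eqv_of_map (fun p => p.2) (fun _ => inf_le_right) (fun _ => 1) (fun _ => isUnit_one) fun p q O hp hq => by
        rw [map_one, map_one, one_mul, mul_one, Cocycle.prod_G, triv_G, one_mul]
    have assoc : ∀ a b e : Cocycle X, Eqv ((a.prod b).prod e) (a.prod (b.prod e)) := fun a b e =>
      eqv_of_map (fun p => (p.1.1, p.1.2, p.2))
        (fun _ => le_inf (inf_le_left.trans inf_le_left) (inf_le_inf_right _ inf_le_right)) (fun _ => 1)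
        (fun _ => isUnit_one) fun p q O hp hq => by
          rw [map_one, map_one, one_mul, mul_one]
          simp only [Cocycle.prod_G, mul_assoc]
    -- inv c ≅ inv c · (d · inv d) ≅ (inv c · d) · inv d ≅ inv d
    have h2 : Eqv ((inv c).prod (Cocycle.triv X)) (inv c) := (eqv_prod_comm _ _).trans (one_prod _)
    have h3 : Eqv (d.prod (inv d)) (Cocycle.triv X) := (eqv_prod_comm _ _).trans (eqv_prod_inv d)
    exact h2.symm.trans ((eqv_prod (Eqv.refl _) h3.symm).trans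
      ((assoc _ _ _).symm.trans ((eqv_prod h1 (Eqv.refl _)).trans (one_prod _))))
  mul_assoc := by
    rintro ⟨a⟩ ⟨b⟩ ⟨c⟩
    exact Quotient.sound (eqv_of_map (fun p => (p.1.1, p.1.2, p.2))
      (fun _ => le_inf (inf_le_left.trans inf_le_left) (inf_le_inf_right _ inf_le_right)) (fun _ => 1)
      (fun _ => isUnit_one) fun p q O hp hq => by
        rw [map_one, map_one, one_mul, mul_one]
        simp only [Cocycle.prod_G, mul_assoc])
  one_mul := by
    rintro ⟨a⟩
    exact Quotient.sound (eqv_of_map (fun p => p.2) (fun _ => inf_le_right) (fun _ => 1) (fun _ => isUnit_one)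
      fun p q O hp hq => by rw [map_one, map_one, one_mul, mul_one, Cocycle.prod_G, triv_G, one_mul])
  mul_one := by
    rintro ⟨a⟩
    exact Quotient.sound (eqv_of_map (fun p => p.1) (fun _ => inf_le_left) (fun _ => 1) (fun _ => isUnit_one)
      fun p q O hp hq => by rw [map_one, map_one, one_mul, mul_one, Cocycle.prod_G, triv_G, mul_one])
  inv_mul_cancel := by
    rintro ⟨a⟩
    exact Quotient.sound (eqv_prod_inv a)
  mul_comm := by
    rintro ⟨a⟩ ⟨b⟩
    exact Quotient.sound (eqv_prod_comm a b)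

theorem cls_prod (c d : Cocycle X) : cls (c.prod d) = cls c * cls d := rfl

theorem cls_eq_one_iff {c : Cocycle X} : cls c = 1 ↔ Triv c := by
  obtain ⟨t⟩ := (triv_iff _).1 (triv_triv X)
  rw [triv_iff]
  exact cls_eq_iff.trans ⟨fun ⟨e⟩ => ⟨e ≪≫ t⟩, fun ⟨e⟩ => ⟨e ≪≫ t.symm⟩⟩

theorem eqv_comap (f : Y ⟶ X) {c d : Cocycle X} (h : Eqv c d) : Eqv (c.comap f) (d.comap f) := by
  obtain ⟨e⟩ := h
  obtain ⟨a⟩ := c.nonempty_pullback_twist f 1
  obtain ⟨b⟩ := d.nonempty_pullback_twist f 1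
  exact ⟨a.symm ≪≫ (Scheme.Modules.pullback f).mapIso e ≪≫ b⟩

/-- Pullback of classes. -/
def pull (f : Y ⟶ X) : Pic X →* Pic Y where
  toFun := Quotient.map (fun c => c.comap f) fun _ _ => eqv_comap f
  map_one' := by
    refine Quotient.sound (eqv_of_map (fun _ => PUnit.unit) (fun _ => le_top) (fun _ => 1) (fun _ => isUnit_one)
      fun p q O hp hq => ?_)
    have e : (Cocycle.triv Y).G (W := O) PUnit.unit PUnit.unit le_top le_top = 1 := (Cocycle.triv Y).G_self _ _ _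
    rw [e, map_one, map_one, mul_one, Cocycle.comap_G]
    exact ((mul_one _).trans (map_one (f.appLE _ O _).hom)).symm
  map_mul' := by
    rintro ⟨a⟩ ⟨b⟩
    obtain ⟨e⟩ := a.nonempty_comap_prod b f 1
    exact Quotient.sound ⟨e.symm⟩

theorem pull_cls (f : Y ⟶ X) (c : Cocycle X) : pull f (cls c) = cls (c.comap f) := rfl

theorem pull_comp (g : Z ⟶ Y) (f : Y ⟶ X) (x : Pic X) : pull g (pull f x) = pull (g ≫ f) x := by
  obtain ⟨c⟩ := x
  refine Quotient.sound (eqv_of_map (c := (c.comap f).comap g) (c' := c.comap (g ≫ f)) id (fun _ => le_rfl)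
    (fun _ => 1) (fun _ => isUnit_one) fun p q O hp hq => ?_)
  rw [map_one, map_one, one_mul, mul_one]
  simp only [Cocycle.comap_G]
  show _ = (g.appLE _ _ _).hom ((f.appLE _ _ _).hom (c.g p q))
  rw [← CommRingCat.comp_apply, Scheme.Hom.appLE_comp_appLE]
  rfl

theorem pull_id (x : Pic X) : pull (𝟙 X) x = x := by
  obtain ⟨c⟩ := x
  refine Quotient.sound (eqv_of_map (c := c.comap (𝟙 X)) (c' := c) id (fun _ => le_rfl)
    (fun _ => 1) (fun _ => isUnit_one) fun p q O hp hq => ?_)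
  rw [map_one, map_one, one_mul, mul_one, Cocycle.comap_G]
  simp [Scheme.Hom.appLE, Cocycle.G, res]

/-- The class of an invertible module. -/
def clsMod {L : X.Modules} (hL : PicF.IsInvertible L) : Pic X := cls (exists_cocycle hL).choose

theorem clsMod_eq {L : X.Modules} (hL : PicF.IsInvertible L) {c : Cocycle X} (e : L ≅ c.twist 1) :
    clsMod hL = cls c :=
  cls_eq_iff.2 ⟨(exists_cocycle hL).choose_spec.some.symm ≪≫ e⟩

theorem clsMod_eq_iff {L L' : X.Modules} (hL : PicF.IsInvertible L) (hL' : PicF.IsInvertible L') :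
    clsMod hL = clsMod hL' ↔ Nonempty (L ≅ L') := by
  obtain ⟨c, ⟨e⟩⟩ := exists_cocycle hL
  obtain ⟨d, ⟨e'⟩⟩ := exists_cocycle hL'
  rw [clsMod_eq hL e, clsMod_eq hL' e', cls_eq_iff]
  exact ⟨fun ⟨i⟩ => ⟨e ≪≫ i ≪≫ e'.symm⟩, fun ⟨i⟩ => ⟨e.symm ≪≫ i ≪≫ e'⟩⟩

theorem clsMod_eq_one_iff {L : X.Modules} (hL : PicF.IsInvertible L) :
    clsMod hL = 1 ↔ Nonempty (L ≅ Coh.structureModule X) := by
  obtain ⟨c, ⟨e⟩⟩ := exists_cocycle hL
  rw [clsMod_eq hL e, cls_eq_one_iff, triv_iff]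
  exact ⟨fun ⟨i⟩ => ⟨e ≪≫ i⟩, fun ⟨i⟩ => ⟨e.symm ≪≫ i⟩⟩

theorem clsMod_tensorMod {L L' : X.Modules} (hL : PicF.IsInvertible L) (hL' : PicF.IsInvertible L') :
    clsMod (isInvertible_tensorMod hL hL') = clsMod hL * clsMod hL' := by
  obtain ⟨c, ⟨e⟩⟩ := exists_cocycle hL
  obtain ⟨d, ⟨e'⟩⟩ := exists_cocycle hL'
  obtain ⟨f⟩ := c.nonempty_tensorMod_iso_prod d e e'
  rw [clsMod_eq _ f, clsMod_eq hL e, clsMod_eq hL' e', cls_prod]

theorem clsMod_pullback (f : Y ⟶ X) {L : X.Modules} (hL : PicF.IsInvertible L) :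
    clsMod (isInvertible_pullback f hL) = pull f (clsMod hL) := by
  obtain ⟨c, ⟨e⟩⟩ := exists_cocycle hL
  obtain ⟨g⟩ := c.nonempty_pullback_iso f e
  rw [clsMod_eq _ g, clsMod_eq hL e, pull_cls]

theorem clsMod_tensorPow {L : X.Modules} (hL : PicF.IsInvertible L) (n : ℕ) :
    clsMod (isInvertible_tensorPow hL n) = clsMod hL ^ n := by
  induction n with
  | zero =>
    rw [pow_zero, clsMod_eq_one_iff]
    exact ⟨Iso.refl _⟩
  | succ n ih =>
    rw [pow_succ, ← ih, ← clsMod_tensorMod]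

end GrothLib.Cube
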