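import Groth.Agent.Lib.Cube.Torsion
import Groth.Agent.Lib.IdealModSec.Basic
import Groth.Agent.Lib.InvExt.Transfer
import Groth.Prelude.Def_ClSub2
import Groth.Prelude.Def_BlowUp2

/-!
# The canonical section of the inverse of an invertible ideal
-/

universe u

open CategoryTheory CategoryTheory.Limits Opposite TopologicalSpace AlgebraicGeometry
open GrothLib.Ample
open GrothLib.InvExt (mres mres_smul mres_mres IsGen)
open GrothLib.IdealModSec (val val_smul val_mres val_mem exists_val_eq)

set_option backward.isDefEq.respectTransparency false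

noncomputable section

namespace GrothLib.Cube

variable {X : Scheme.{u}}

/-- The inverse of an invertible ideal has a section with locus the complement of its support. -/
theorem hasSec_compl_support {I : X.IdealSheafData} (hI : _root_.BlowUp.IsEffCartierIdeal I) :
    HasSec (clsMod (IdealModSec.isInvertible_of_isEffCartier hI))⁻¹ ⟨(I.support : Set X)ᶜ, I.support.isClosed.isOpen_compl⟩ := by
  have hM := IdealModSec.isInvertible_of_isEffCartier hI
  obtain ⟨c, ⟨e⟩⟩ := exists_cocycle hM
  let m : ∀ i, Γ(ClSub.idealMod I, c.D i) := fun i => e.inv.app (c.D i) (c.base 1 i le_rfl)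
  let f : ∀ i, Γ(X, c.D i) := fun i => val I (c.D i) (m i)
  have hm : ∀ i, IsGen (ClSub.idealMod I) (c.D i) (m i) := fun i =>
    InvExt.IsGen.map e.inv (c.isGen_base 1 i le_rfl) fun W _ =>
      ConcreteCategory.bijective_of_isIso ((Scheme.Modules.toPresheaf _).map e.inv |>.app (op W))
  have hf : ∀ i k (W : X.Opens) (hi : W ≤ c.D i) (hk : W ≤ c.D k),
      res hk (f k) = c.G i k hi hk * res hi (f i) := by
    intro i k W hi hk
    have e0 : ∀ j (hj : W ≤ c.D j), res hj (f j) = val I W (e.inv.app W (c.base 1 j hj)) := fun j hj => by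
      refine (val_mres I hj (m j)).symm.trans ?_
      rw [← app_mres, ← c.sectRes_base 1 j le_rfl hj]
      rfl
    rw [e0 i hi, e0 k hk, c.base_eq_smul_base 1 i k hi hk, pow_one, app_smul, val_smul]
  let a : (inv c).sect 1 ⊤ := ⟨fun i => res inf_le_right (f i), fun i k W hi hk => by
    rw [pow_one, inv_G, res_res, res_res]
    exact hf k i W _ _⟩
  refine ⟨inv c, a, ?_, ?_⟩
  · rw [clsMod_eq hM e]
    rfl
  · ext p
    obtain ⟨i, hi⟩ := c.exists_mem p
    rw [SetLike.mem_coe, (inv c).mem_locus_iff a (i := i) hi]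
    show p ∈ X.basicOpen (res (inf_le_right : ⊤ ⊓ c.D i ≤ c.D i) (f i)) ↔ p ∉ (I.support : Set X)
    rw [Scheme.basicOpen_res]
    obtain ⟨T, hpT, hT⟩ := GrothLib.BlowUp.exists_affine_mem_le hi
    have hspan : I.ideal T = Ideal.span {res hT (f i)} := by
      refine le_antisymm (fun r hr => ?_) ?_
      · obtain ⟨k, rfl⟩ := exists_val_eq I T hr
        obtain ⟨t, ht⟩ := (hm i T.1 hT).2 k
        simp only at ht
        rw [← ht, val_smul, val_mres]
        exact Ideal.mem_span_singleton'.2 ⟨t, rfl⟩
      · rw [Ideal.span_singleton_le_iff_mem]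
        rw [show res hT (f i) = val I T.1 (mres _ hT (m i)) from (val_mres I hT (m i)).symm]
        exact val_mem I T _
    constructor
    · rintro ⟨-, hp⟩ hs
      have h1 : p ∈ (I.support : Set X) ∩ T.1 := ⟨hs, hpT⟩
      rw [I.coe_support_inter, hspan] at h1
      refine (Scheme.mem_zeroLocus_iff X _ p).1 h1.1 _ (Ideal.mem_span_singleton_self _) ?_
      rw [Scheme.basicOpen_res]
      exact ⟨hpT, hp⟩
    · intro hs
      refine ⟨⟨trivial, hi⟩, ?_⟩
      by_contra hp
      refine hs ?_
      have h1 : p ∈ X.zeroLocus (U := T.1) (I.ideal T) ∩ T.1 := by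
        refine ⟨(Scheme.mem_zeroLocus_iff X _ p).2 fun r hr hrp => ?_, hpT⟩
        rw [hspan, SetLike.mem_coe, Ideal.mem_span_singleton] at hr
        obtain ⟨t, rfl⟩ := hr
        rw [Scheme.basicOpen_mul, Scheme.basicOpen_res] at hrp
        exact hp hrp.1.2
      rw [← I.coe_support_inter] at h1
      exact h1.1

theorem clsMod_eq_inv_of_isInverseOf {L M : X.Modules} (hL : PicF.IsInvertible L) (hM : PicF.IsInvertible M)
    (h : ClSub.IsInverseOf L M) : clsMod hL = (clsMod hM)⁻¹ := by
  rw [eq_inv_iff_mul_eq_one, ← clsMod_tensorMod hL hM]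
  exact (clsMod_eq_one_iff _).2 h

end GrothLib.Cube
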