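import Groth.Agent.Lib.Cube.Torsion
import Groth.Agent.Lib.Rigidity.Generated
import Groth.Agent.Lib.Rigidity.Isogeny
import Groth.Agent.Lib.UnitProd.Split
import Groth.Agent.Lib.GrpDeligne.Factor
import Groth.Agent.Lib.EtSite.FpqcDescent
import Groth.Agent.S7799

/-!
# Multiplication by a nonzero integer on an abelian variety is finite, flat and surjective
-/

universe u

open CategoryTheory CategoryTheory.Limits TopologicalSpace AlgebraicGeometry
open MonoidalCategory CartesianMonoidalCategory MonObj
open scoped CategoryTheory.Obj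

set_option backward.isDefEq.respectTransparency false

noncomputable section

namespace GrothLib.Cube

variable {K : Type u} [Field K] (A : Over (Spec (CommRingCat.of K)))

theorem geometricallyIntegral_of_isAlgClosed [IsAlgClosed K] [GrpObj A] [LocallyOfFiniteType A.hom]
    [IsIntegral A.left] : GeometricallyIntegral A.hom := by
  have := UnitProd.geometricallyReduced_of_isReduced A.hom
  exact Rigidity.geometricallyIntegral_of_connected A

variable [GrpObj A] [IsProper A.hom] [GeometricallyIntegral A.hom]

theorem isMonHom_mul_n (n : ℕ) : IsMonHom ((𝟙 A : A ⟶ A) ^ n) := by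
  have := isCommMonObj_abVar (A := A)
  exact GrpDeligne.isMonHom_pow (𝟙 A) n

/-- An irreducible closed set through the origin killed by `n` is the origin. -/
theorem subsingleton_of_killed [IsAlgClosed K] {n : ℕ} (hn : n ≠ 0) (V : Set A.left) (hVc : IsClosed V)
    (hV : IsIrreducible V) (hV1 : η[A].left (IsLocalRing.closedPoint K) ∈ V)
    (hVk : ∀ v ∈ V, ((𝟙 A : A ⟶ A) ^ n).left v = η[A].left (IsLocalRing.closedPoint K)) : V.Subsingleton := by
  haveI : IsIntegral A.left := GeometricallyIntegral.isIntegral_of_subsingleton A.hom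
  haveI := isMonHom_mul_n A n
  let f : A ⟶ A := 𝟙 A ^ n
  let F : (𝟙_ (Over (Spec (CommRingCat.of K))) ⟶ A) →* (𝟙_ (Over (Spec (CommRingCat.of K))) ⟶ A) :=
    { toFun := fun a => a ≫ f
      map_one' := MonObj.one_comp f
      map_mul' := fun a b => MonObj.mul_comp a b f }
  obtain ⟨B, _, i, hi, hic, hBi, hVB, hker⟩ := Rigidity.exists_subgroup_of_irreducible A F V hVc hV (by
      rintro _ ⟨s, rfl⟩
      rw [Subsingleton.elim (α := ↥(Spec (CommRingCat.of K))) s (IsLocalRing.closedPoint K)]
      exact hV1)
    (fun a ha => Over.OverMorphism.ext (ext_of_apply_closedPoint_eq A.hom (Over.w (a ≫ f))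
      (Over.w (1 : 𝟙_ (Over (Spec (CommRingCat.of K))) ⟶ A)) (by
        show (a ≫ f).left (IsLocalRing.closedPoint K) = _
        rw [Over.comp_left, Scheme.Hom.comp_apply, hVk _ (ha ⟨_, rfl⟩), MonObj.one_eq_one]; rfl)))
  haveI : IsProper B.hom := by
    rw [← Over.w i]; infer_instance
  haveI := geometricallyIntegral_of_isAlgClosed B
  haveI : Mono i := by
    haveI : Mono ((Over.forget _).map i) := inferInstanceAs (Mono i.left)
    exact (Over.forget _).mono_of_mono_map inferInstance
  have h1 : i ≫ f = 1 := Rigidity.ext_of_points _ _ fun p => by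
    rw [← Category.assoc, MonObj.comp_one]
    exact hker p
  have h2 : (𝟙 B : B ⟶ B) ^ n = 1 := by
    rw [← cancel_mono i, MonObj.pow_comp, MonObj.one_comp, Category.id_comp, ← h1]
    simp only [f, MonObj.comp_pow, Category.comp_id]
  have := subsingleton_of_pow_eq_one hn h2
  intro v hv w hw
  obtain ⟨v', rfl⟩ := hVB hv
  obtain ⟨w', rfl⟩ := hVB hw
  rw [Subsingleton.elim v' w']

theorem isFinite_pow_of_isAlgClosed [IsAlgClosed K] {n : ℕ} (hn : n ≠ 0) :
    IsFinite ((𝟙 A : A ⟶ A) ^ n).left := by
  haveI : IsIntegral A.left := GeometricallyIntegral.isIntegral_of_subsingleton A.hom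
  haveI := isMonHom_mul_n A n
  let f : A ⟶ A := 𝟙 A ^ n
  show IsFinite f.left
  haveI : IsProper f.left := by
    have : IsProper (f.left ≫ A.hom) := by rw [Over.w]; infer_instance
    exact IsProper.of_comp f.left A.hom
  obtain ⟨d, hd⟩ := Groth.Agent.S7799.result K A A.hom f.left (Over.w f)
  let e := η[A].left (IsLocalRing.closedPoint K)
  have hfe : f.left e = e := by
    rw [← Scheme.Hom.comp_apply, ← Over.comp_left, IsMonHom.one_hom]
  have hd0 : d = 0 := by
    let z := (f.left.fiberHomeo e).symm ⟨e, hfe⟩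
    have hz : f.left.fiberι e z = e := f.left.fiberι_fiberHomeo_symm e ⟨e, hfe⟩
    let C := irreducibleComponent z
    have hC : C ∈ irreducibleComponents ↥(f.left.fiber e) := irreducibleComponent_mem_irreducibleComponents z
    let V : Set A.left := closure (f.left.fiberι e '' C)
    have hec : IsClosed ({e} : Set A.left) := Rigidity.isClosed_point η[A]
    have hVsub : V.Subsingleton := subsingleton_of_killed A hn V isClosed_closure
      ((hC.1.image _ (f.left.fiberι e).continuous.continuousOn).closure)
      (subset_closure ⟨z, mem_irreducibleComponent, hz⟩) fun v hv => by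
        have : V ⊆ f.left ⁻¹' {e} := closure_minimal (by
          rintro _ ⟨w, -, rfl⟩
          exact (f.left.range_fiberι e).le ⟨w, rfl⟩) (hec.preimage f.left.continuous)
        exact this hv
    have hCsub : C.Subsingleton := fun a ha b hb => (f.left.fiberι e).isEmbedding.injective
      (hVsub (subset_closure ⟨a, ha, rfl⟩) (subset_closure ⟨b, hb, rfl⟩))
    have hle : topologicalKrullDim C ≤ 0 := by
      refine Order.krullDim_nonpos_iff_forall_isMin.2 fun T T' _ => ?_
      intro x hx
      obtain ⟨y, hy⟩ := T'.isIrreducible.nonempty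
      have : x = y := Subtype.ext (hCsub x.2 y.2)
      exact this ▸ hy
    rw [hd e C hC] at hle
    exact Nat.le_zero.1 (by exact_mod_cast hle)
  subst hd0
  have : LocallyQuasiFinite f.left := .of_finite_preimage_singleton f.left fun y => by
    let g : f.left.fiber y ⟶ Spec (CommRingCat.of (A.left.residueField y)) := f.left.fiberToSpecResidueField y
    have : LocallyOfFiniteType g := MorphismProperty.pullback_snd f.left (A.left.fromSpecResidueField y) inferInstance
    have : IsLocallyNoetherian (f.left.fiber y) := LocallyOfFiniteType.isLocallyNoetherian g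
    have : IsNoetherian (f.left.fiber y) := {}
    have : Finite ↥(f.left.fiber y) := by
      rw [← Set.finite_univ_iff, show (Set.univ : Set ↥(f.left.fiber y)) =
        ⋃ C ∈ irreducibleComponents ↥(f.left.fiber y), C from (Set.eq_univ_of_forall fun z => Set.mem_biUnion
          (irreducibleComponent_mem_irreducibleComponents z) mem_irreducibleComponent).symm]
      exact NoetherianSpace.finite_irreducibleComponents.biUnion fun C hC =>
        (Dim.subsingleton_of_dim_eq_zero (isClosed_of_mem_irreducibleComponents C hC) hC.1 (by rw [hd y C hC]; simp)).finite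
    rw [← f.left.range_fiberι y]
    exact Set.finite_range _
  exact IsFinite.of_isProper_of_locallyQuasiFinite f.left

/-- Multiplication by a positive integer is finite. -/
theorem isFinite_pow {n : ℕ} (hn : n ≠ 0) : IsFinite ((𝟙 A : A ⟶ A) ^ n).left := by
  let φ : Spec (CommRingCat.of (AlgebraicClosure K)) ⟶ Spec (CommRingCat.of K) :=
    Spec.map (CommRingCat.ofHom (algebraMap K (AlgebraicClosure K)))
  let P := Over.pullback φ
  let g : A ⟶ A := 𝟙 A ^ n
  have : IsProper (P.obj A).hom := by dsimp [P]; infer_instance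
  have : GeometricallyIntegral (P.obj A).hom := by dsimp [P]; infer_instance
  have hg : P.map g = 𝟙 (P.obj A) ^ n := by
    show P.map (𝟙 A ^ n) = _
    rw [show P.map (𝟙 A ^ n) = P.map (𝟙 A) ^ n from map_pow (Functor.homMonoidHom P) (𝟙 A) n, P.map_id]
  have hfin : IsFinite (P.map g).left := by rw [hg]; exact isFinite_pow_of_isAlgClosed _ hn
  have hsq : IsPullback (P.map g).left (pullback.fst A.hom φ) (pullback.fst A.hom φ) g.left := by
    refine (IsPullback.of_bot (v₂₁ := (P.obj A).hom) (v₂₂ := A.hom) (h₃₁ := φ) ?_ (pullback.lift_fst _ _ _).symm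
      (IsPullback.of_hasPullback A.hom φ)).flip
    erw [pullback.lift_snd]
    rw [Over.w g]
    exact IsPullback.of_hasPullback A.hom φ
  have : Surjective φ := inferInstance
  have : Flat φ := inferInstance
  have hcov : GrothLib.EtSite.fpqcCov (pullback.fst A.hom φ) := ⟨⟨inferInstance, inferInstance⟩, inferInstance⟩
  exact MorphismProperty.of_isPullback_of_descendsAlong (P := @IsFinite) (Q := GrothLib.EtSite.fpqcCov) hsq hcov hfin

/-- Multiplication by a positive integer is surjective. -/
theorem surjective_pow {n : ℕ} (hn : n ≠ 0) : Surjective ((𝟙 A : A ⟶ A) ^ n).left := by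
  haveI := isMonHom_mul_n A n
  haveI : IsIntegral A.left := GeometricallyIntegral.isIntegral_of_subsingleton A.hom
  let f : A ⟶ A := 𝟙 A ^ n
  haveI : IsFinite f.left := isFinite_pow A hn
  obtain ⟨M, _, i, hi, hic, hMp, hMi, hr, ψ, hψ⟩ := Rigidity.exists_image f
  haveI : IsIntegral M.left := GeometricallyIntegral.isIntegral_of_subsingleton M.hom
  haveI : IsFinite ψ.left := by
    have : IsFinite (ψ.left ≫ i.left) := by rw [← Over.comp_left, hψ]; infer_instance
    exact IsFinite.of_comp ψ.left i.left
  haveI : Surjective ψ.left := ⟨fun m => by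
    obtain ⟨a, ha⟩ : i.left m ∈ Set.range f.left := hr ▸ ⟨m, rfl⟩
    refine ⟨a, i.left.isClosedEmbedding.injective ?_⟩
    rw [← ha, ← hψ]
    rfl⟩
  haveI : IsDominant ψ.left := inferInstance
  obtain ⟨a, b, e, ha, hb, he, habe⟩ := Dim.exists_dim_genericFibre ψ.left M.hom
  have he0 : e = 0 := by
    have hfin : (ψ.left ⁻¹' {genericPoint M.left}).Finite := ψ.left.finite_preimage_singleton _
    have hle : topologicalKrullDim (ψ.left ⁻¹' {genericPoint M.left} : Set A.left) ≤ 0 := by
      have : Finite (ψ.left ⁻¹' {genericPoint M.left} : Set A.left) := hfin.to_subtype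
      have : DiscreteTopology (ψ.left ⁻¹' {genericPoint M.left} : Set A.left) :=
        (ψ.left.isDiscrete_preimage_singleton _).to_subtype
      exact topologicalKrullDim_zero_of_discreteTopology _
    rw [he] at hle
    exact Nat.le_zero.1 (by exact_mod_cast hle)
  have hab : a = b := by omega
  refine ⟨Set.range_eq_univ.1 ?_⟩
  show Set.range f.left = Set.univ
  rw [← hr]
  refine Dim.eq_univ_of_dim_le i.left.isClosedEmbedding.isClosed_range ?_ (m := b) ?_
  · rw [← Dim.IsEmbedding.topologicalKrullDim_eq i.left.isClosedEmbedding.isEmbedding rfl, ha, hb, hab]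
  · rw [← Dim.IsEmbedding.topologicalKrullDim_eq i.left.isClosedEmbedding.isEmbedding rfl, hb]

/-- Multiplication by a positive integer is flat. -/
theorem flat_pow {n : ℕ} (hn : n ≠ 0) : Flat ((𝟙 A : A ⟶ A) ^ n).left := by
  haveI := isMonHom_mul_n A n
  haveI := isFinite_pow A hn
  haveI := surjective_pow A hn
  exact Rigidity.flat_of_isFinite A A (𝟙 A ^ n)

/-- Multiplication by a nonzero integer is finite, flat and surjective. -/
theorem isogeny_zpow {d : ℤ} (hd : d ≠ 0) :
    IsFinite ((𝟙 A : A ⟶ A) ^ d).left ∧ Flat ((𝟙 A : A ⟶ A) ^ d).left ∧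
      Surjective ((𝟙 A : A ⟶ A) ^ d).left := by
  obtain ⟨n, rfl | rfl⟩ := d.eq_nat_or_neg
  · have hn : n ≠ 0 := by simpa using hd
    rw [zpow_natCast]
    exact ⟨isFinite_pow A hn, flat_pow A hn, surjective_pow A hn⟩
  · have hn : n ≠ 0 := by simpa using hd
    haveI := isFinite_pow A hn
    haveI := flat_pow A hn
    haveI := surjective_pow A hn
    rw [zpow_neg, zpow_natCast, show ((𝟙 A : A ⟶ A) ^ n)⁻¹ = ((𝟙 A : A ⟶ A) ^ n) ≫ (𝟙 A : A ⟶ A)⁻¹ by
      rw [GrpObj.comp_inv, Category.comp_id], Over.comp_left]
    haveI : IsIso ((𝟙 A)⁻¹ : A ⟶ A).left := by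
      have e : ((𝟙 A)⁻¹ : A ⟶ A) ≫ (𝟙 A)⁻¹ = 𝟙 A := by rw [GrpObj.comp_inv, Category.comp_id, inv_inv]
      exact ⟨_, by rw [← Over.comp_left, e, Over.id_left], by rw [← Over.comp_left, e, Over.id_left]⟩
    exact ⟨inferInstance, inferInstance, inferInstance⟩

end GrothLib.Cube

noncomputable section

namespace GrothLib.Cube

variable {K : Type u} [Field K] {A B : Over (Spec (CommRingCat.of K))}

/-- A finite homomorphism into an abelian variety mapping finitely onto `A` is surjective. -/
theorem surjective_of_finite [GrpObj A] [GrpObj B] [IsProper A.hom] [GeometricallyIntegral A.hom] [IsProper B.hom]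
    [GeometricallyIntegral B.hom] (f : A ⟶ B) (g : B ⟶ A) [IsFinite f.left] [IsFinite g.left] [Surjective g.left] :
    Surjective f.left := by
  haveI : IsIntegral A.left := GeometricallyIntegral.isIntegral_of_subsingleton A.hom
  haveI : IsIntegral B.left := GeometricallyIntegral.isIntegral_of_subsingleton B.hom
  let C : Closeds B.left := ⟨Set.range f.left, f.left.isClosedMap.isClosed_range⟩
  let I := Scheme.IdealSheafData.vanishingIdeal C
  have hr : Set.range I.subschemeι = Set.range f.left := RedSub.range_subschemeι_vanishingIdeal C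
  haveI : IsReduced I.subscheme := RedSub.isReduced_subscheme_vanishingIdeal C
  obtain ⟨ψ, hψ⟩ := RedSub.exists_lift f.left I.subschemeι hr.ge
  haveI : Surjective ψ := ⟨fun m => by
    obtain ⟨a, ha⟩ : I.subschemeι m ∈ Set.range f.left := hr ▸ ⟨m, rfl⟩
    refine ⟨a, I.subschemeι.isClosedEmbedding.injective ?_⟩
    rw [← ha, ← hψ]
    rfl⟩
  haveI : IrreducibleSpace I.subscheme :=
    Function.Surjective.irreducibleSpace (f := ψ) ψ.continuous ψ.surjective
  haveI : IsIntegral I.subscheme := isIntegral_of_irreducibleSpace_of_isReduced _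
  haveI : IsFinite ψ := by
    have : IsFinite (ψ ≫ I.subschemeι) := by rw [hψ]; infer_instance
    exact IsFinite.of_comp ψ I.subschemeι
  obtain ⟨a, b, e, ha, hb, he, habe⟩ := Dim.exists_dim_genericFibre ψ (I.subschemeι ≫ B.hom)
  obtain ⟨b', a', e', hb', ha', he', hbae'⟩ := Dim.exists_dim_genericFibre g.left A.hom
  have hzero : ∀ {X Y : Scheme.{u}} (p : X ⟶ Y) [IsFinite p] (y : Y) (k : ℕ),
      topologicalKrullDim (p ⁻¹' {y} : Set X) = k → k = 0 := by
    intro X Y p _ y k hk
    have : DiscreteTopology (p ⁻¹' {y} : Set X) := (p.isDiscrete_preimage_singleton _).to_subtype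
    have hle : topologicalKrullDim (p ⁻¹' {y} : Set X) ≤ 0 := topologicalKrullDim_zero_of_discreteTopology _
    rw [hk] at hle
    exact Nat.le_zero.1 (by exact_mod_cast hle)
  have he0 := hzero ψ _ e he
  have he0' := hzero g.left _ e' he'
  rw [ha] at ha'
  have haa : a = a' := by exact_mod_cast ha'
  have hd : b' = b := by omega
  refine ⟨Set.range_eq_univ.1 ?_⟩
  show Set.range f.left = Set.univ
  rw [← hr]
  refine Dim.eq_univ_of_dim_le I.subschemeι.isClosedEmbedding.isClosed_range ?_ (m := b) ?_
  · rw [← Dim.IsEmbedding.topologicalKrullDim_eq I.subschemeι.isClosedEmbedding.isEmbedding rfl, hb, hb', hd]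
  · rw [← Dim.IsEmbedding.topologicalKrullDim_eq I.subschemeι.isClosedEmbedding.isEmbedding rfl, hb]

theorem zpow_comp_comm [GrpObj A] [GrpObj B] (f : A ⟶ B) [IsMonHom f] (d : ℤ) :
    ((𝟙 A : A ⟶ A) ^ d) ≫ f = f ≫ ((𝟙 B : B ⟶ B) ^ d) := by
  rw [GrpObj.comp_zpow, Category.comp_id, GrpObj.zpow_comp, Category.id_comp]

end GrothLib.Cube

end
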