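import Groth.Agent.Lib.Cube.Projective

/-!
# An affine open of a locally factorial variety is the locus of a section; abelian varieties are projective
-/

universe u

open CategoryTheory CategoryTheory.Limits Opposite TopologicalSpace AlgebraicGeometry
open MonoidalCategory CartesianMonoidalCategory MonObj
open GrothLib.Ample

set_option backward.isDefEq.respectTransparency false

noncomputable section

namespace GrothLib.Cube

theorem exists_hasSec_finset {X : Scheme.{u}} {J : Type*} (S : Finset J) (U : J → X.Opens)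
    (h : ∀ i ∈ S, ∃ x, HasSec x (U i)) : ∃ x, HasSec x (S.inf U) := by
  classical
  induction S using Finset.induction_on with
  | empty =>
    obtain ⟨a, ha⟩ := triv_triv X
    exact ⟨_, Cocycle.triv X, a, rfl, ha⟩
  | insert i S _ ih =>
    obtain ⟨x, hx⟩ := ih fun j hj => h j (Finset.mem_insert_of_mem hj)
    obtain ⟨y, hy⟩ := h i (Finset.mem_insert_self i S)
    refine ⟨y * x, ?_⟩
    rw [Finset.inf_insert]
    exact hasSec_mul hy hx

/-- An affine open of a separated, locally factorial variety over a field is the locus of a section of a class. -/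
theorem exists_hasSec_of_isAffineOpen {K : Type u} [Field K] {X : Scheme.{u}} (f : X ⟶ Spec (CommRingCat.of K))
    [LocallyOfFiniteType f] [IsSeparated f] [IsIntegral X]
    (hufd : ∀ y : X, UniqueFactorizationMonoid (X.presheaf.stalk y)) {U : X.Opens} (hU : IsAffineOpen U)
    (hne : (U : Set X).Nonempty) : ∃ x, HasSec x U := by
  classical
  haveI : IsLocallyNoetherian X := LocallyOfFiniteType.isLocallyNoetherian f
  haveI : X.IsSeparated := ⟨by rw [← terminal.comp_from f]; infer_instance⟩
  haveI : Nonempty U := hne.to_subtype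
  let gp := genericPoint X
  have hgU : gp ∈ U := ((genericPoint_spec X).mem_open_set_iff U.isOpen).2 (by simpa using hne)
  let gm : Γ(X, U) →+* X.functionField := (X.presheaf.germ U gp hgU).hom
  have hft : (f.appLE ⊤ U le_top).hom.FiniteType := f.finiteType_appLE (isAffineOpen_top _) hU le_top
  algebraize [(f.appLE ⊤ U le_top).hom]
  obtain ⟨S, hS⟩ := (inferInstance : Algebra.FiniteType Γ(Spec (CommRingCat.of K), ⊤) Γ(X, U)).out
  choose c a _ hden hden' using fun s : Γ(X, U) => exists_polar hufd (gm s)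
  obtain ⟨x, hx⟩ := exists_hasSec_finset S (fun s => (c s).locus (a s)) fun s _ => ⟨cls (c s), c s, a s, rfl, rfl⟩
  refine ⟨x, ?_⟩
  suffices heq : S.inf (fun s => (c s).locus (a s)) = U by rwa [heq] at hx
  refine le_antisymm (fun q hq => ?_) (Finset.le_inf fun s _ q hq => hden' s q
    ⟨X.presheaf.germ U q hq s, by rw [map_one, _root_.one_mul, ratAt_germ]⟩)
  have hinj : Function.Injective (ratAt q) := IsFractionRing.injective _ _
  have hreg : ∀ r : Γ(X, U), gm r ∈ (ratAt q).range := by
    intro r
    let A' : Subalgebra Γ(Spec (CommRingCat.of K), ⊤) Γ(X, U) :=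
      { ((ratAt q).range.comap gm).toSubsemiring with
        algebraMap_mem' := fun z => by
          refine ⟨X.presheaf.germ ⊤ q trivial (f.appTop z), ?_⟩
          rw [ratAt_germ]
          show _ = gm ((f.appLE ⊤ U le_top).hom z)
          rw [show f.appLE ⊤ U le_top = f.appTop ≫ X.presheaf.map (homOfLE le_top).op from rfl, CommRingCat.comp_apply]
          exact (TopCat.Presheaf.germ_res_apply X.presheaf _ _ hgU _).symm }
    have hle : Algebra.adjoin Γ(Spec (CommRingCat.of K), ⊤) (S : Set Γ(X, U)) ≤ A' :=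
      Algebra.adjoin_le fun s hs => by
        have hqs : q ∈ (c s).locus (a s) := (Finset.inf_le (f := fun s => (c s).locus (a s)) hs : _ ≤ _) hq
        obtain ⟨t, ht⟩ := hden s q hqs
        rw [map_one, _root_.one_mul] at ht
        exact ⟨t, ht.symm⟩
    rw [hS] at hle
    exact hle (Algebra.mem_top : r ∈ ⊤)
  let e := RingEquiv.ofBijective (ratAt q).rangeRestrict
    ⟨fun u v h => hinj (congrArg Subtype.val h), (ratAt q).rangeRestrict_surjective⟩
  let ψ : Γ(X, U) →+* X.presheaf.stalk q := e.symm.toRingHom.comp (gm.codRestrict _ hreg)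
  have hψ : (ratAt q).comp ψ = gm := RingHom.ext fun r =>
    congrArg Subtype.val (e.apply_symm_apply ⟨gm r, hreg r⟩)
  let φ : Spec (X.presheaf.stalk q) ⟶ X := Spec.map (CommRingCat.ofHom ψ) ≫ hU.fromSpec
  let ι₀ : Spec X.functionField ⟶ Spec (X.presheaf.stalk q) :=
    Spec.map (X.presheaf.stalkSpecializes (genericPoint_specializes q))
  haveI : IsDominant ι₀ := ⟨by
    show DenseRange (PrimeSpectrum.comap (ratAt q))
    rw [PrimeSpectrum.denseRange_comap_iff_ker_le_nilRadical, (RingHom.injective_iff_ker_eq_bot _).1 hinj]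
    exact bot_le⟩
  have hagree : ι₀ ≫ φ = ι₀ ≫ X.fromSpecStalk q := by
    rw [show ι₀ ≫ X.fromSpecStalk q = X.fromSpecStalk gp from Scheme.SpecMap_stalkSpecializes_fromSpecStalk _]
    rw [← hU.fromSpecStalk_eq_fromSpecStalk hgU]
    show Spec.map _ ≫ Spec.map _ ≫ hU.fromSpec = Spec.map _ ≫ hU.fromSpec
    rw [← Spec.map_comp_assoc]
    congr 2
    exact CommRingCat.hom_ext hψ
  have hφ : φ = X.fromSpecStalk q :=
    ext_of_isDominant_of_isSeparated (terminal.from X) (terminal.hom_ext _ _) ι₀ hagree
  rw [← Scheme.fromSpecStalk_closedPoint (X := X) (x := q), ← hφ]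
  have : hU.fromSpec ((Spec.map (CommRingCat.ofHom ψ)) (IsLocalRing.closedPoint (X.presheaf.stalk q))) ∈ Set.range hU.fromSpec := ⟨_, rfl⟩
  rw [hU.range_fromSpec] at this
  exact this

/-- An abelian variety over a field has an ample module. -/
theorem exists_isAmple {K : Type u} [Field K] (A : Over (Spec (CommRingCat.of K))) [GrpObj A] [IsProper A.hom]
    [GeometricallyIntegral A.hom] : ∃ L : A.left.Modules, CohB1.IsAmple L := by
  haveI : IsIntegral A.left := GeometricallyIntegral.isIntegral_of_subsingleton A.hom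
  haveI := smooth_abVar A
  have hufd : ∀ y : A.left, UniqueFactorizationMonoid (A.left.presheaf.stalk y) := fun y => by
    haveI := WeilExt.isRegularLocalRing_stalk_of_smooth A.hom (WeilExt.isRegularLocalRing_stalk_spec K) y
    exact RegUFD.ufd_of_isRegularLocalRing _
  obtain ⟨U, hU, hqU, -⟩ := exists_isAffineOpen_mem_and_subset (x := genericPoint A.left) (U := ⊤) trivial
  obtain ⟨x, hx⟩ := exists_hasSec_of_isAffineOpen A.hom hufd hU ⟨_, hqU⟩
  obtain ⟨c, rfl⟩ := Quotient.exists_rep x
  have hI := c.isInvertible_twist 1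
  refine ⟨c.twist 1, isAmple_of_isAffineOpen_locus_field hI (U := U) ?_ ⟨_, hqU⟩ hU⟩
  rw [clsMod_eq hI (Iso.refl _)]
  exact hx

/-- An abelian variety over a field has a symmetric ample module. -/
theorem exists_symmetric_isAmple {K : Type u} [Field K] (A : Over (Spec (CommRingCat.of K))) [GrpObj A]
    [IsProper A.hom] [GeometricallyIntegral A.hom] :
    ∃ L : A.left.Modules, CohB1.IsAmple L ∧ Nonempty (L ≅ (Scheme.Modules.pullback ((𝟙 A)⁻¹).left).obj L) := by
  obtain ⟨L, hL⟩ := exists_isAmple A
  let ι' : A ⟶ A := (𝟙 A)⁻¹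
  have hinv : ι' ≫ ι' = 𝟙 A := by
    show (𝟙 A)⁻¹ ≫ (𝟙 A)⁻¹ = 𝟙 A
    rw [GrpObj.comp_inv, Category.comp_id, inv_inv]
  haveI : IsIso ι'.left := ⟨ι'.left, by rw [← Over.comp_left, hinv, Over.id_left], by rw [← Over.comp_left, hinv, Over.id_left]⟩
  have hM := isAmple_pullback_of_isAffineHom ι'.left hL
  have hx := hasCls_clsMod hL.1
  have hy := hx.tensor (hx.pullback ι'.left)
  refine ⟨_, isAmple_tensorMod hL hM, hy.iso (hy.pullback ι'.left) ?_⟩
  rw [map_mul, pull_pull_over, hinv, pull_over_id, mul_comm]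

end GrothLib.Cube
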