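import Groth.Agent.Lib.Cube.MulFinite
import Groth.Agent.Lib.Rigidity.Relative.Hom
import Groth.Agent.Lib.FibreLocus.Hom

/-!
# Abelian schemes: commutativity, multiplication by `n` is finite, flat and surjective
-/

universe u

open CategoryTheory CategoryTheory.Limits TopologicalSpace AlgebraicGeometry
open MonoidalCategory CartesianMonoidalCategory MonObj
open scoped CategoryTheory.Obj

set_option backward.isDefEq.respectTransparency false

noncomputable section

namespace GrothLib.Cube

variable {S : Scheme.{u}} (X : Over S) [GrpObj X] [IsProper X.hom] [Flat X.hom]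
  [LocallyOfFinitePresentation X.hom] [GeometricallyReduced X.hom] [GeometricallyConnected X.hom]

theorem isCommMonObj_abScheme : IsCommMonObj X := by
  have hinv : IsMonHom (𝟙 X)⁻¹ := Rigidity.isMonHom_of_one_comp' _ (by
    rw [GrpObj.comp_inv, Category.comp_id]
    have e : (η[X] : 𝟙_ _ ⟶ X) = 1 := by rw [Hom.one_def, Subsingleton.elim (toUnit (𝟙_ _)) (𝟙 _), Category.id_comp]
    rw [e, inv_one])
  constructor
  have h := MonObj.mul_comp (snd X X) (fst X X) ((𝟙 X)⁻¹)
  simp only [GrpObj.comp_inv, Category.comp_id] at h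
  have h' : snd X X * fst X X = fst X X * snd X X := by
    rw [← inv_inj, h, mul_inv_rev]
  rw [Hom.mul_def, Hom.mul_def, lift_fst_snd, Category.id_comp] at h'
  rw [show (β_ X X).hom = lift (snd X X) (fst X X) from by ext1 <;> simp]
  exact h'

/-- Multiplication by a nonzero natural number on an abelian scheme is finite, flat and surjective. -/
theorem isogeny_pow_relative {n : ℕ} (hn : n ≠ 0) :
    IsFinite ((𝟙 X : X ⟶ X) ^ n).left ∧ Flat ((𝟙 X : X ⟶ X) ^ n).left ∧
      Surjective ((𝟙 X : X ⟶ X) ^ n).left := by
  let f : X ⟶ X := 𝟙 X ^ n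
  show IsFinite f.left ∧ Flat f.left ∧ Surjective f.left
  haveI : IsProper f.left := by
    have : IsProper (f.left ≫ X.hom) := by rw [Over.w]; infer_instance
    exact IsProper.of_comp f.left X.hom
  have key : ∀ s : S, IsFinite (pullback.snd f.left (X.hom.fiberι s)) ∧
      Flat (pullback.snd f.left (X.hom.fiberι s)) ∧ Surjective (pullback.snd f.left (X.hom.fiberι s)) := fun s => by
    let jj : Spec (CommRingCat.of (S.residueField s)) ⟶ S := S.fromSpecResidueField s
    let P := Over.pullback jj
    let A' : Over (Spec (CommRingCat.of (S.residueField s))) := P.obj X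
    haveI : IsProper A'.hom := inferInstanceAs (IsProper (pullback.snd X.hom jj))
    haveI : GeometricallyReduced A'.hom := inferInstanceAs (GeometricallyReduced (pullback.snd X.hom jj))
    haveI : GeometricallyConnected A'.hom := inferInstanceAs (GeometricallyConnected (pullback.snd X.hom jj))
    haveI : ConnectedSpace A'.left := GeometricallyConnected.connectedSpace_of_subsingleton (f := A'.hom)
    haveI := Rigidity.geometricallyIntegral_of_connected A'
    have hF : P.map f = 𝟙 A' ^ n := by
      show P.map (𝟙 X ^ n) = _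
      rw [show P.map (𝟙 X ^ n) = P.map (𝟙 X) ^ n from map_pow (Functor.homMonoidHom P) (𝟙 X) n, P.map_id]
    refine ⟨(FibreLocus.prop_fibre_iff (P := @IsFinite) f s).2 ?_, (FibreLocus.prop_fibre_iff (P := @Flat) f s).2 ?_,
      (FibreLocus.prop_fibre_iff (P := @Surjective) f s).2 ?_⟩
    · show IsFinite (P.map f).left
      rw [hF]; exact isFinite_pow A' hn
    · show Flat (P.map f).left
      rw [hF]; exact flat_pow A' hn
    · show Surjective (P.map f).left
      rw [hF]; exact surjective_pow A' hn
  haveI : LocallyQuasiFinite f.left := .of_finite_preimage_singleton f.left fun y => by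
    obtain ⟨z, hz⟩ : y ∈ Set.range (X.hom.fiberι (X.hom y)) := by
      rw [Scheme.Hom.range_fiberι]; rfl
    let p := pullback.snd f.left (X.hom.fiberι (X.hom y))
    haveI : IsFinite p := (key _).1
    refine ((p.finite_preimage_singleton z).image (pullback.fst f.left (X.hom.fiberι (X.hom y)))).subset ?_
    intro x hx
    obtain ⟨w, hw1, hw2⟩ := Scheme.Pullback.exists_preimage_pullback (f := f.left) (g := X.hom.fiberι (X.hom y)) x z
      (show f.left x = _ by rw [hz]; exact hx)
    exact ⟨w, hw2, hw1⟩
  refine ⟨IsFinite.of_isProper_of_locallyQuasiFinite f.left, Flat.of_stalkMap _ fun x => ?_, ⟨fun x => ?_⟩⟩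
  · exact FibreLocus.flat_at_of_fibre f x (key _).2.1
  · obtain ⟨z, hz⟩ : x ∈ Set.range (X.hom.fiberι (X.hom x)) := by
      rw [Scheme.Hom.range_fiberι]; rfl
    obtain ⟨w, hw⟩ := (key (X.hom x)).2.2.surj z
    exact ⟨(pullback.fst f.left (X.hom.fiberι (X.hom x))) w, by
      rw [← Scheme.Hom.comp_apply, pullback.condition, Scheme.Hom.comp_apply, hw, hz]⟩

end GrothLib.Cube
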