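import Groth.Agent.Lib.Cube.Nondegenerate
import Groth.Agent.Lib.Ample.ProjSections
import Groth.Agent.Lib.BaseChange.Irred
import Groth.Agent.Lib.UnitProd.Split

/-!
# Effective non-degenerate classes on abelian varieties are ample
-/

universe u

open CategoryTheory CategoryTheory.Limits Opposite TopologicalSpace AlgebraicGeometry
open MonoidalCategory CartesianMonoidalCategory MonObj
open GrothLib.Ample
open scoped CategoryTheory.Obj

set_option backward.isDefEq.respectTransparency false

noncomputable section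

namespace GrothLib.Cube

theorem eq_one_of_hasSec_top {X : Scheme.{u}} {x : Pic X} (h : HasSec x ⊤) : x = 1 := by
  obtain ⟨c, a, rfl, ha⟩ := h
  exact cls_eq_one_iff.2 ⟨a, ha⟩

theorem exists_sect_of_hasSec {X : Scheme.{u}} {c : Cocycle X} {U : X.Opens} (h : HasSec (cls c) U) :
    ∃ a : c.sect 1 ⊤, c.locus a = U := by
  obtain ⟨d, b, hd, rfl⟩ := h
  obtain ⟨e⟩ := cls_eq_iff.1 hd.symm
  obtain ⟨s, hs⟩ := d.exists_section_of_sect e b
  obtain ⟨a, ha⟩ := c.exists_sect_of_section (Iso.refl _) s
  exact ⟨a, ha.trans hs⟩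

theorem geometricallyIntegral_of_isIntegral {K : Type u} [Field K] [IsAlgClosed K] {Z : Scheme.{u}}
    (f : Z ⟶ Spec (CommRingCat.of K)) [LocallyOfFiniteType f] [IsIntegral Z] : GeometricallyIntegral f := by
  letI : Z.Over (Spec (CommRingCat.of K)) := ⟨f⟩
  haveI := UnitProd.geometricallyReduced_of_isReduced f
  haveI : GeometricallyIrreducible f := by
    show GeometricallyIrreducible (Z ↘ Spec (CommRingCat.of K))
    rw [BaseChange.geometricallyIrreducible_iff_forall]
    intro L _ _
    have h := BaseChange.isIrreducible_preimage_of_isSepClosed K Z L (IrreducibleSpace.isIrreducible_univ Z)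
    rw [Set.preimage_univ] at h
    exact (irreducibleSpace_def _).2 h
  exact GeometricallyIntegral.of_geometricallyReduced_of_geometricallyIrreducible f

/-- A nonzero section of an invertible module on a reduced scheme generates somewhere. -/
theorem genLocus_ne_bot {X : Scheme.{u}} [IsReduced X] {L : X.Modules} (hL : PicF.IsInvertible L)
    (s : Coh.structureModule X ⟶ L) (hs : s ≠ 0) : CohB1.genLocus L s ≠ ⊥ := by
  intro h
  obtain ⟨c, ⟨e⟩⟩ := exists_cocycle hL
  obtain ⟨a, ha⟩ := c.exists_hom_eq (s ≫ e.hom)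
  have hloc : c.locus a = ⊥ := by
    rw [← c.genLocus_hom a, ha, genLocus_comp_iso e s, h]
  have ha0 : a = 0 := c.sect_ext fun i => by
    have h1 : c.locus a ⊓ c.D i = ⊥ := by rw [hloc, bot_inf_eq]
    rw [c.locus_inf_D, basicOpen_eq_bot_iff] at h1
    exact h1
  refine hs ?_
  rw [← cancel_mono e.hom, zero_comp, ← ha, ha0]
  refine Scheme.Modules.hom_ext _ _ fun U => ?_
  ext r
  show ((c.hom (0 : c.sect 1 ⊤)).val.app (op U)).hom r = 0
  refine (c.hom_app_apply (0 : c.sect 1 ⊤) U r).trans ?_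
  rw [map_zero]
  exact smul_zero _

theorem exists_hasSec_genLocus {X : Scheme.{u}} {L : X.Modules} (hL : PicF.IsInvertible L)
    (s : Coh.structureModule X ⟶ L) : HasSec (clsMod hL) (CohB1.genLocus L s) := by
  obtain ⟨c, ⟨e⟩⟩ := exists_cocycle hL
  obtain ⟨a, ha⟩ := c.exists_sect_of_section e s
  exact ⟨c, a, (clsMod_eq hL e).symm, ha⟩

variable {K : Type u} [Field K] {A : Over (Spec (CommRingCat.of K))}

/-- The closed point of a rational point. -/
abbrev ptOf (a : 𝟙_ (Over (Spec (CommRingCat.of K))) ⟶ A) : A.left := a.left (IsLocalRing.closedPoint K)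

variable [IsAlgClosed K]

theorem exists_ptOf_mem [LocallyOfFiniteType A.hom] {O : A.left.Opens} (hO : (O : Set A.left).Nonempty) :
    ∃ a : 𝟙_ (Over (Spec (CommRingCat.of K))) ⟶ A, ptOf a ∈ O := by
  obtain ⟨q, hqO, hq⟩ := (dense_closedPoints A).inter_open_nonempty O O.isOpen hO
  obtain ⟨t, ht, -⟩ := exists_point_factor q hq
  exact ⟨t, show t.left _ ∈ O by rw [ht]; exact hqO⟩

theorem eq_of_ptOf_eq [LocallyOfFiniteType A.hom] {a b : 𝟙_ (Over (Spec (CommRingCat.of K))) ⟶ A}
    (h : ptOf a = ptOf b) : a = b :=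
  Over.OverMorphism.ext (ext_of_apply_closedPoint_eq A.hom (Over.w a) (Over.w b) h)

omit [IsAlgClosed K] in
theorem apply_ptOf {B : Over (Spec (CommRingCat.of K))} (f : A ⟶ B) (a : 𝟙_ (Over (Spec (CommRingCat.of K))) ⟶ A) :
    f.left (ptOf a) = ptOf (a ≫ f) := by
  rw [ptOf, ptOf, ← Scheme.Hom.comp_apply, ← Over.comp_left]

omit [IsAlgClosed K] in
theorem comp_transl_point [GrpObj A] (a p : 𝟙_ (Over (Spec (CommRingCat.of K))) ⟶ A) : p ≫ transl a = p * a := by
  simp only [transl, MonObj.comp_mul, Category.comp_id, ← Category.assoc,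
    Subsingleton.elim (p ≫ toUnit A) (𝟙 _), Category.id_comp]

variable [GrpObj A] [IsProper A.hom] [GeometricallyIntegral A.hom]

omit [IsAlgClosed K] in
theorem pull_transl_mul_three (x : Pic A.left) {a b c : 𝟙_ (Over (Spec (CommRingCat.of K))) ⟶ A}
    (h : a * b * c = 1) :
    pull (transl a).left x * pull (transl b).left x * pull (transl c).left x = x ^ 3 := by
  have h1 := square (𝟙 A) a b x
  have h2 := square (𝟙 A) (a * b) c x
  rw [h, MonObj.comp_one, _root_.mul_one, pull_over_id] at h2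
  rw [pull_over_id] at h1
  show pull (transl a).left x * pull (transl b).left x * pull (transl c).left x = x ^ 3
  rw [← h1, mul_right_comm, ← h2, pow_succ, pow_two]

/-- The translated triple locus. -/
def triLocus (U : A.left.Opens) (a b c : 𝟙_ (Over (Spec (CommRingCat.of K))) ⟶ A) : A.left.Opens :=
  (transl a).left ⁻¹ᵁ U ⊓ (transl b).left ⁻¹ᵁ U ⊓ (transl c).left ⁻¹ᵁ U

omit [IsAlgClosed K] in
theorem hasSec_triLocus {x : Pic A.left} {U : A.left.Opens} (hs : HasSec x U)
    {a b c : 𝟙_ (Over (Spec (CommRingCat.of K))) ⟶ A} (h : a * b * c = 1) : HasSec (x ^ 3) (triLocus U a b c) := by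
  rw [← pull_transl_mul_three x h]
  exact hasSec_mul (hasSec_mul (hasSec_pull _ hs) (hasSec_pull _ hs)) (hasSec_pull _ hs)

omit [IsAlgClosed K] in
theorem ptOf_mem_triLocus {U : A.left.Opens} {p a b c : 𝟙_ (Over (Spec (CommRingCat.of K))) ⟶ A}
    (ha : ptOf (p * a) ∈ U) (hb : ptOf (p * b) ∈ U) (hc : ptOf (p * c) ∈ U) : ptOf p ∈ triLocus U a b c := by
  have : ∀ a : 𝟙_ (Over (Spec (CommRingCat.of K))) ⟶ A, ptOf (p * a) ∈ U → ptOf p ∈ (transl a).left ⁻¹ᵁ U := by
    intro a h
    show (transl a).left (ptOf p) ∈ U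
    rw [apply_ptOf, comp_transl_point]
    exact h
  exact ⟨⟨this a ha, this b hb⟩, this c hc⟩

/-- A translation into a nonempty open can be completed to a triple. -/
theorem exists_triple {U : A.left.Opens} (hne : (U : Set A.left).Nonempty)
    (p a : 𝟙_ (Over (Spec (CommRingCat.of K))) ⟶ A) :
    ∃ b c, a * b * c = 1 ∧ ptOf (p * b) ∈ U ∧ ptOf (p * c) ∈ U := by
  haveI : IsIntegral A.left := GeometricallyIntegral.isIntegral_of_subsingleton A.hom
  let f : A ⟶ A := transl p
  let g : A ⟶ A := (𝟙 A)⁻¹ ≫ transl (a⁻¹ * p)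
  have hf : ∀ b, b ≫ f = p * b := fun b => by
    haveI := isCommMonObj_abVar (A := A)
    rw [comp_transl_point, mul_comm]
  have hg : ∀ b, b ≫ g = p * (a * b)⁻¹ := fun b => by
    haveI := isCommMonObj_abVar (A := A)
    rw [← Category.assoc, GrpObj.comp_inv, Category.comp_id, comp_transl_point, mul_inv_rev]
    simp only [mul_comm, _root_.mul_assoc]
  obtain ⟨q, hq⟩ := exists_ptOf_mem (O := U) hne
  have hne1 : ((f.left ⁻¹ᵁ U : A.left.Opens) : Set A.left).Nonempty := by
    refine ⟨ptOf (p⁻¹ * q), ?_⟩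
    show f.left _ ∈ U
    rw [apply_ptOf, hf, mul_inv_cancel_left]
    exact hq
  have hne2 : ((g.left ⁻¹ᵁ U : A.left.Opens) : Set A.left).Nonempty := by
    refine ⟨ptOf (a⁻¹ * (q⁻¹ * p)), ?_⟩
    show g.left _ ∈ U
    rw [apply_ptOf, hg]
    simpa [mul_inv_rev] using hq
  obtain ⟨r, hr1, hr2⟩ := nonempty_preirreducible_inter (f.left ⁻¹ᵁ U).isOpen (g.left ⁻¹ᵁ U).isOpen hne1 hne2
  obtain ⟨b, hb1, hb2⟩ := exists_ptOf_mem (O := f.left ⁻¹ᵁ U ⊓ g.left ⁻¹ᵁ U) ⟨r, hr1, hr2⟩
  refine ⟨b, (a * b)⁻¹, mul_inv_cancel _, ?_, ?_⟩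
  · rw [← hf, ← apply_ptOf]; exact hb1
  · rw [← hg, ← apply_ptOf]; exact hb2

theorem exists_mem_triLocus {U : A.left.Opens} (hne : (U : Set A.left).Nonempty) (q : A.left) :
    ∃ a b c, a * b * c = 1 ∧ q ∈ triLocus U a b c := by
  haveI : CompactSpace A.left := QuasiCompact.compactSpace_of_compactSpace A.hom
  obtain ⟨q₀, hq₀, hc⟩ := (isClosed_closure (s := ({q} : Set A.left))).exists_closed_singleton ⟨q, subset_closure rfl⟩
  obtain ⟨p, hp, -⟩ := exists_point_factor q₀ hc
  obtain ⟨r, hr⟩ := exists_ptOf_mem (O := U) hne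
  obtain ⟨b, c, habc, hb, hc'⟩ := exists_triple hne p (p⁻¹ * r)
  refine ⟨_, b, c, habc, (specializes_iff_mem_closure.2 hq₀).mem_open (triLocus U _ b c).isOpen ?_⟩
  rw [← hp]
  exact ptOf_mem_triLocus (by rw [mul_inv_cancel_left]; exact hr) hb hc'

/-- An irreducible closed set contained in a triple locus meets one translate of `U` only if it lies in it. -/
theorem subset_transl_of_subset_triLocus {x : Pic A.left} {U : A.left.Opens} (hs : HasSec x U)
    (hne : (U : Set A.left).Nonempty) {T : Over (Spec (CommRingCat.of K))} [IsProper T.hom]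
    [GeometricallyIntegral T.hom] (i : T ⟶ A) (t₀ : 𝟙_ (Over (Spec (CommRingCat.of K))) ⟶ T)
    (h1 : pull i.left (x ^ 3) = 1) {a : 𝟙_ (Over (Spec (CommRingCat.of K))) ⟶ A} (ha : ptOf (t₀ ≫ i * a) ∈ U) :
    pull (i ≫ transl a).left x = 1 := by
  obtain ⟨b, c, habc, hb, hc⟩ := exists_triple hne (t₀ ≫ i) a
  have hsec := hasSec_pull i.left (hasSec_triLocus hs habc)
  rw [h1] at hsec
  rcases locus_eq_bot_or_top (isAntiAffine_of_proper (X := T) t₀) hsec with h | h
  · exfalso
    have : ptOf t₀ ∈ i.left ⁻¹ᵁ triLocus U a b c := by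
      show i.left (ptOf t₀) ∈ triLocus U a b c
      rw [apply_ptOf]
      exact ptOf_mem_triLocus ha hb hc
    rw [h] at this
    exact this
  · refine eq_one_of_hasSec_top ?_
    have htop : (i ≫ transl a).left ⁻¹ᵁ U = ⊤ := by
      rw [← top_le_iff, ← h, Over.comp_left]
      exact fun q hq => hq.1.1
    rw [← htop]
    exact hasSec_pull _ hs

/-- A class killed, after cubing, on a proper variety mapping to `A` is fixed by the differences of its points. -/
theorem mem_stab_of_pull_cube_eq_one {x : Pic A.left} {U : A.left.Opens} (hs : HasSec x U)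
    (hne : (U : Set A.left).Nonempty) {T : Over (Spec (CommRingCat.of K))} [IsProper T.hom]
    [GeometricallyIntegral T.hom] (i : T ⟶ A) (h1 : pull i.left (x ^ 3) = 1)
    (t t₀ : 𝟙_ (Over (Spec (CommRingCat.of K))) ⟶ T) : t ≫ i * (t₀ ≫ i)⁻¹ ∈ stab x := by
  haveI := isCommMonObj_abVar (A := A)
  haveI : IsIntegral A.left := GeometricallyIntegral.isIntegral_of_subsingleton A.hom
  let f : A ⟶ A := transl (t₀ ≫ i)
  let D : Set A.left := closedPoints A.left ∩ f.left ⁻¹ᵁ U
  have hne1 : ((f.left ⁻¹ᵁ U : A.left.Opens) : Set A.left).Nonempty := by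
    obtain ⟨q, hq⟩ := exists_ptOf_mem (O := U) hne
    refine ⟨ptOf (q * (t₀ ≫ i)⁻¹), ?_⟩
    show f.left _ ∈ U
    rw [apply_ptOf, comp_transl_point, inv_mul_cancel_right]
    exact hq
  have hDd : Dense D := (dense_closedPoints A).inter_of_isOpen_right
    ((f.left ⁻¹ᵁ U).isOpen.dense hne1) (f.left ⁻¹ᵁ U).isOpen
  let y : Pic (T ⊗ A).left :=
    pull (fst T A ≫ i * snd T A).left x * (pull (snd T A ≫ f).left x)⁻¹
  have hy : y = 1 := by
    refine eq_one_of_dense_slices (normal_abVar A) t₀ y hDd Set.inter_subset_left (fun a ha => ?_) ?_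
    · have ha' : ptOf (t₀ ≫ i * a) ∈ U := by
        have := ha.2
        rw [mul_comm, ← comp_transl_point, ← apply_ptOf]
        exact this
      have := subset_transl_of_subset_triLocus hs hne i t₀ h1 ha'
      simp only [y, map_mul, map_inv, pull_pull_over, MonObj.comp_mul, lift_fst_assoc, lift_snd, lift_snd_assoc,
        Category.id_comp, Category.assoc, pull_toUnit_comp, inv_one, _root_.mul_one]
      rwa [show i ≫ transl a = i * (toUnit T ≫ a) by
        simp only [transl, MonObj.comp_mul, Category.comp_id, comp_toUnit_assoc]] at this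
    · simp only [y, map_mul, map_inv, pull_pull_over, MonObj.comp_mul, lift_fst_assoc, lift_snd, lift_snd_assoc,
        Category.id_comp, Category.assoc]
      rw [mul_inv_eq_one, show f = 𝟙 A * (toUnit A ≫ t₀ ≫ i) from rfl, mul_comm]
  have h2 := congrArg (pull (lift (toUnit A ≫ t) (𝟙 A)).left) hy
  simp only [y, map_mul, map_inv, map_one, pull_pull_over, MonObj.comp_mul, lift_fst_assoc, lift_snd, lift_snd_assoc,
    Category.id_comp, Category.assoc, mul_inv_eq_one] at h2
  rw [mul_comm] at h2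
  have h2' : pull (transl (t ≫ i)).left x = pull (transl (t₀ ≫ i)).left x := h2
  show pull (transl _).left x = x
  rw [mul_comm, ← transl_comp, ← pull_pull_over, h2', pull_pull_over, transl_comp, inv_mul_cancel, transl_one,
    pull_over_id]

/-- An effective class is ample if the differences of points of its contracted subvarieties form a finite set. -/
theorem isAmple_of_finite_contracted {L : A.left.Modules} (hL : PicF.IsInvertible L) {U : A.left.Opens}
    (hs : HasSec (clsMod hL) U) (hne : (U : Set A.left).Nonempty)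
    (S₀ : Set (𝟙_ (Over (Spec (CommRingCat.of K))) ⟶ A)) (hfin : S₀.Finite)
    (hmem : ∀ (T : Over (Spec (CommRingCat.of K))) [IsProper T.hom] [GeometricallyIntegral T.hom] (i : T ⟶ A),
      pull i.left (clsMod hL ^ 3) = 1 → ∀ t t₀ : 𝟙_ (Over (Spec (CommRingCat.of K))) ⟶ T,
        t ≫ i * (t₀ ≫ i)⁻¹ ∈ S₀) : CohB1.IsAmple L := by
  haveI : IsIntegral A.left := GeometricallyIntegral.isIntegral_of_subsingleton A.hom
  haveI : IsLocallyNoetherian A.left := LocallyOfFiniteType.isLocallyNoetherian A.hom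
  haveI : CompactSpace A.left := QuasiCompact.compactSpace_of_compactSpace A.hom
  haveI : JacobsonSpace A.left := LocallyOfFiniteType.jacobsonSpace (Y := Spec _) A.hom
  set x := clsMod hL
  -- a cocycle of the cube
  have hL3 : PicF.IsInvertible (CohB1.tensorPow L 3) := isInvertible_tensorPow hL 3
  obtain ⟨c, ⟨e⟩⟩ := exists_cocycle hL3
  have hc : cls c = x ^ 3 := by rw [← clsMod_tensorPow hL, clsMod_eq hL3 e]
  -- finitely many covering sections
  let I := {t : (𝟙_ (Over (Spec (CommRingCat.of K))) ⟶ A) × (𝟙_ (Over (Spec (CommRingCat.of K))) ⟶ A) ×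
    (𝟙_ (Over (Spec (CommRingCat.of K))) ⟶ A) // t.1 * t.2.1 * t.2.2 = 1}
  let W : I → A.left.Opens := fun t => triLocus U t.1.1 t.1.2.1 t.1.2.2
  obtain ⟨S, hS⟩ := (isCompact_univ (X := A.left)).elim_finite_subcover (fun t => (W t : Set A.left))
    (fun t => (W t).isOpen) (fun q _ => by
      obtain ⟨a, b, c, h, hq⟩ := exists_mem_triLocus hne q
      exact Set.mem_iUnion.2 ⟨⟨(a, b, c), h⟩, hq⟩)
  have hSne : S.Nonempty := by
    obtain ⟨q, -⟩ := hne
    obtain ⟨t, ht, -⟩ := Set.mem_iUnion₂.1 (hS (Set.mem_univ q))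
    exact ⟨t, ht⟩
  obtain ⟨n, hn⟩ : ∃ n, S.card = n + 1 := ⟨S.card - 1, by have := hSne.card_pos; omega⟩
  let σ : Fin (n + 1) → I := fun i => (S.equivFinOfCardEq hn).symm i
  have hσ : ∀ i, ∃ a : c.sect 1 ⊤, c.locus a = W (σ i) := fun i =>
    exists_sect_of_hasSec (hc ▸ hasSec_triLocus hs (σ i).2)
  choose a ha using hσ
  have hcov : ⨆ i, c.locus (ProjMap.sec c (Iso.refl _) a i) = ⊤ := by
    rw [← top_le_iff]
    intro q _
    obtain ⟨t, ht, hq⟩ := Set.mem_iUnion₂.1 (hS (Set.mem_univ q))
    refine Opens.mem_iSup.2 ⟨S.equivFinOfCardEq hn ⟨t, ht⟩, ?_⟩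
    show q ∈ c.locus (a _)
    rw [ha]
    simpa [σ] using hq
  let D := ProjMap.dataOfSections c (Iso.refl _) a hcov A.hom
  let r := D.map
  haveI : IsProper r := by
    haveI : IsProper (r ≫ CohB1.ProjSpace.toSpec n K) := by rw [D.map_toSpec]; infer_instance
    haveI : IsSeparated (CohB1.ProjSpace.toSpec n K) := by
      unfold CohB1.ProjSpace.toSpec
      exact MorphismProperty.comp_mem @IsSeparated _ _ (Proj.isSeparated _) inferInstance
    exact IsProper.of_comp r (CohB1.ProjSpace.toSpec n K)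
  have hpre : ∀ i, r ⁻¹ᵁ Proj.basicOpen _ (MvPolynomial.X i) = W (σ i) := fun i =>
    (D.map_preimage i).trans (ha i)
  -- finite fibres over closed points
  have hfib : ∀ q : A.left, IsClosed ({q} : Set A.left) → (r ⁻¹' {r q}).Finite := by
    intro q hq
    by_contra hinf
    have hclosed : IsClosed (r ⁻¹' {r q}) := by
      refine IsClosed.preimage r.continuous ?_
      have := r.isClosedMap _ hq
      rwa [Set.image_singleton] at this
    -- an infinite irreducible component
    haveI : IsNoetherian A.left := {}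
    obtain ⟨Z, hZc, hZi, hZs, hZinf⟩ : ∃ Z : Set A.left, IsClosed Z ∧ IsIrreducible Z ∧
        Z ⊆ r ⁻¹' {r q} ∧ Z.Infinite := by
      obtain ⟨F, hF, hFc, hFi, hFu⟩ :=
        NoetherianSpace.exists_finite_set_isClosed_irreducible hclosed
      by_contra hno
      push_neg at hno
      refine hinf ?_
      rw [hFu]
      exact hF.sUnion fun Z hZ => hno Z (hFc Z hZ) (hFi Z hZ) (hFu ▸ Set.subset_sUnion_of_mem hZ)
    let C : Closeds A.left := ⟨Z, hZc⟩
    let J := Scheme.IdealSheafData.vanishingIdeal C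
    have hr : Set.range J.subschemeι = Z := RedSub.range_subschemeι_vanishingIdeal C
    haveI : IsReduced J.subscheme := RedSub.isReduced_subscheme_vanishingIdeal C
    haveI : IrreducibleSpace J.subscheme := by
      haveI : IrreducibleSpace (Z : Set A.left) := Subtype.irreducibleSpace hZi
      let h := (J.subschemeι.isClosedEmbedding.isEmbedding.toHomeomorph.trans (Homeomorph.setCongr hr))
      exact h.symm.surjective.irreducibleSpace h.symm.continuous
    haveI : IsIntegral J.subscheme := isIntegral_of_irreducibleSpace_of_isReduced _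
    let T : Over (Spec (CommRingCat.of K)) := Over.mk (J.subschemeι ≫ A.hom)
    let i : T ⟶ A := Over.homMk J.subschemeι rfl
    haveI : IsProper T.hom := inferInstanceAs (IsProper (J.subschemeι ≫ A.hom))
    haveI : IsIntegral T.left := ‹IsIntegral J.subscheme›
    haveI : GeometricallyIntegral T.hom := geometricallyIntegral_of_isIntegral T.hom
    haveI : IsClosedImmersion i.left := inferInstanceAs (IsClosedImmersion J.subschemeι)
    obtain ⟨t₀, -⟩ := exists_ptOf_mem (A := T) (O := ⊤) ⟨Classical.arbitrary _, trivial⟩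
    -- the cube is trivial on it
    have h1 : pull i.left (x ^ 3) = 1 := by
      obtain ⟨j, hj⟩ := Opens.mem_iSup.1 (hcov.ge (Opens.mem_top q))
      refine eq_one_of_hasSec_top ?_
      have htop : i.left ⁻¹ᵁ W (σ j) = ⊤ := by
        rw [← top_le_iff]
        intro z _
        have hz : r (i.left z) = r q := hZs (hr ▸ ⟨z, rfl⟩)
        rw [← hpre]
        show r (i.left z) ∈ Proj.basicOpen _ (MvPolynomial.X j)
        rw [hz]
        show q ∈ r ⁻¹ᵁ Proj.basicOpen _ (MvPolynomial.X j)
        rw [hpre, ← ha]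
        exact hj
      rw [← htop]
      exact hasSec_pull _ (hasSec_triLocus hs (σ j).2)
    -- so its points differ by stabilisers
    have hinj : ∀ t t' : 𝟙_ (Over (Spec (CommRingCat.of K))) ⟶ T, t ≫ i = t' ≫ i → t = t' := fun t t' h => by
      refine eq_of_ptOf_eq (i.left.isClosedEmbedding.injective ?_)
      rw [apply_ptOf, apply_ptOf, h]
    haveI : Finite (𝟙_ (Over (Spec (CommRingCat.of K))) ⟶ T) := by
      haveI : Finite S₀ := hfin.to_subtype
      exact Finite.of_injective (fun t => (⟨t ≫ i * (t₀ ≫ i)⁻¹, hmem T i h1 t t₀⟩ : S₀))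
        fun t t' h => hinj t t' (mul_right_cancel (congrArg Subtype.val h))
    have hfinC : (closedPoints T.left).Finite :=
      (Set.finite_range fun t : 𝟙_ (Over (Spec (CommRingCat.of K))) ⟶ T => ptOf t).subset fun z hz => by
        obtain ⟨t, ht, -⟩ := exists_point_factor z hz
        exact ⟨t, ht⟩
    have hall : closedPoints T.left = Set.univ := by
      have hcl : IsClosed (closedPoints T.left) := by
        rw [← Set.biUnion_of_singleton (closedPoints T.left)]
        exact hfinC.isClosed_biUnion fun z hz => hz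
      rw [← hcl.closure_eq]
      exact (dense_closedPoints T).closure_eq
    refine hZinf ?_
    rw [← hr, ← Set.image_univ]
    exact (hall ▸ hfinC).image _
  -- so the map is finite
  haveI : LocallyQuasiFinite r := by
    rw [← Scheme.Hom.quasiFiniteLocus_eq_top_iff]
    by_contra hne'
    obtain ⟨q, hq, hqc⟩ := (r.quasiFiniteLocus.isOpen.isClosed_compl).exists_closed_singleton
      (Set.nonempty_compl.2 fun h => hne' (Opens.ext h))
    refine hq ?_
    rw [SetLike.mem_coe, Scheme.Hom.mem_quasiFiniteLocus, Scheme.Hom.quasiFiniteAt_iff_isOpen_singleton_asFiber]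
    have hclosed : IsClosed (r ⁻¹' {r q}) := by
      refine IsClosed.preimage r.continuous ?_
      have := r.isClosedMap _ hqc
      rwa [Set.image_singleton] at this
    have hsub : r ⁻¹' {r q} ⊆ closedPoints A.left := by
      have hcl : IsClosed (r ⁻¹' {r q} ∩ closedPoints A.left) := by
        rw [← Set.biUnion_of_singleton (r ⁻¹' {r q} ∩ closedPoints A.left)]
        exact ((hfib q hqc).inter_of_left _).isClosed_biUnion fun z hz => hz.2
      intro z hz
      have := closure_inter_closedPoints hclosed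
      rw [hcl.closure_eq] at this
      exact (this.ge hz).2
    haveI : DiscreteTopology ↥(r ⁻¹' {r q}) := ((hfib q hqc).isDiscrete_of_subset_closedPoints hsub).to_subtype
    haveI : DiscreteTopology ↥(r.fiber (r q)) := (r.fiberHomeo (r q)).symm.discreteTopology
    exact isOpen_discrete _
  haveI : IsFinite r := IsFinite.of_isProper_of_locallyQuasiFinite r
  refine ⟨hL, inferInstance, fun q => ?_⟩
  obtain ⟨j, hj⟩ := Opens.mem_iSup.1 (hcov.ge (Opens.mem_top q))
  obtain ⟨s, hse⟩ := c.exists_section_of_sect e (a j)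
  refine ⟨2, s, hse ▸ hj, ?_⟩
  rw [hse, ha, ← hpre]
  exact (Proj.isAffineOpen_basicOpen _ _ (ProjMap.X_mem j) one_pos).preimage r

/-- An effective class fixed by only finitely many translations is ample. -/
theorem isAmple_of_finite_stab {L : A.left.Modules} (hL : PicF.IsInvertible L) {U : A.left.Opens}
    (hs : HasSec (clsMod hL) U) (hne : (U : Set A.left).Nonempty)
    (hfin : (stab (clsMod hL) : Set (𝟙_ (Over (Spec (CommRingCat.of K))) ⟶ A)).Finite) : CohB1.IsAmple L :=
  isAmple_of_finite_contracted hL hs hne _ hfin fun T _ _ i h1 t t₀ =>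
    mem_stab_of_pull_cube_eq_one hs hne i h1 t t₀

/-- A class with a section whose locus is affine and nonempty is ample. -/
theorem isAmple_of_isAffineOpen_locus {L : A.left.Modules} (hL : PicF.IsInvertible L) {U : A.left.Opens}
    (hs : HasSec (clsMod hL) U) (hne : (U : Set A.left).Nonempty) (hU : IsAffineOpen U) : CohB1.IsAmple L := by
  haveI : A.left.IsSeparated := ⟨by rw [← terminal.comp_from A.hom]; infer_instance⟩
  haveI : CompactSpace A.left := QuasiCompact.compactSpace_of_compactSpace A.hom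
  refine ⟨hL, inferInstance, fun q => ?_⟩
  obtain ⟨a, b, c, habc, hq⟩ := exists_mem_triLocus hne q
  have hiso : ∀ t : 𝟙_ (Over (Spec (CommRingCat.of K))) ⟶ A, IsIso (transl t).left := fun t =>
    ⟨(transl t⁻¹).left, by rw [← Over.comp_left, transl_comp, mul_inv_cancel, transl_one, Over.id_left], by
      rw [← Over.comp_left, transl_comp, inv_mul_cancel, transl_one, Over.id_left]⟩
  haveI := hiso a
  haveI := hiso b
  haveI := hiso c
  have haff : IsAffineOpen (triLocus U a b c) := by
    show IsAffineOpen ((transl a).left ⁻¹ᵁ U ⊓ (transl b).left ⁻¹ᵁ U ⊓ (transl c).left ⁻¹ᵁ U)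
    exact ((hU.preimage _).inf (hU.preimage _)).inf (hU.preimage _)
  have hsec := hasSec_triLocus hs habc
  rw [← clsMod_tensorPow hL] at hsec
  obtain ⟨d, ⟨e⟩⟩ := exists_cocycle (isInvertible_tensorPow hL 3)
  rw [clsMod_eq _ e] at hsec
  obtain ⟨σ, hσ⟩ := exists_sect_of_hasSec hsec
  obtain ⟨s, hse⟩ := d.exists_section_of_sect e σ
  exact ⟨2, s, by rw [hse, hσ]; exact hq, by rw [hse, hσ]; exact haff⟩

end GrothLib.Cube
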