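import Groth.Agent.Lib.Cube.SeesawPic
import Groth.Agent.Lib.Ample.Criterion

/-!
# Ample classes are non-degenerate: finitely many translations fix them
-/

universe u

open CategoryTheory CategoryTheory.Limits Opposite TopologicalSpace AlgebraicGeometry
open MonoidalCategory CartesianMonoidalCategory MonObj
open GrothLib.Ample
open scoped CategoryTheory.Obj

set_option backward.isDefEq.respectTransparency false

noncomputable section

namespace GrothLib.Cube

/-- An ample module has, in some power of its class, a section with affine locus through each point. -/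
theorem exists_hasSec_of_isAmple {X : Scheme.{u}} {L : X.Modules} (hL : CohB1.IsAmple L) (q : X) :
    ∃ (n : ℕ) (U : X.Opens), q ∈ U ∧ IsAffineOpen U ∧ HasSec (clsMod hL.1 ^ (n + 1)) U := by
  obtain ⟨n, s, hq, hs⟩ := hL.2.2 q
  have hT : PicF.IsInvertible (CohB1.tensorPow L (n + 1)) := isInvertible_tensorPow hL.1 (n + 1)
  obtain ⟨d, ⟨e⟩⟩ := exists_cocycle hT
  obtain ⟨a, ha⟩ := d.exists_sect_of_section e s
  refine ⟨n, _, hq, hs, d, a, ?_, ha⟩
  rw [← clsMod_tensorPow hL.1, clsMod_eq hT e]

variable {K : Type u} [Field K] [IsAlgClosed K] {A B : Over (Spec (CommRingCat.of K))}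

omit [IsAlgClosed K] in
/-- A translation invariant class with an affine nonempty locus lives on a point. -/
theorem subsingleton_of_additive [GrpObj B] [IsProper B.hom] [GeometricallyIntegral B.hom] (x : Pic B.left)
    (hadd : addClass (𝟙 B) ((𝟙 B)⁻¹) x = 1) (n : ℕ) {U : B.left.Opens} (hne : U ≠ ⊥) (haff : IsAffineOpen U)
    (h : HasSec (x ^ (n + 1)) U) : Subsingleton B.left := by
  haveI : IsIntegral B.left := GeometricallyIntegral.isIntegral_of_subsingleton B.hom
  let ι' : B ⟶ B := (𝟙 B)⁻¹
  have hinv : ι' ≫ ι' = 𝟙 B := by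
    show (𝟙 B)⁻¹ ≫ (𝟙 B)⁻¹ = 𝟙 B
    rw [GrpObj.comp_inv, Category.comp_id, inv_inv]
  have hx : x * pull ι'.left x = 1 := by
    rw [addClass, mul_inv_cancel, pull_one_hom, _root_.one_mul, inv_eq_one, pull_over_id] at hadd
    exact hadd
  have hsec := hasSec_mul h (hasSec_pull ι'.left h)
  rw [map_pow, ← _root_.mul_pow, hx, one_pow] at hsec
  have hA := isAntiAffine_of_proper (X := B) η[B]
  rcases locus_eq_bot_or_top hA hsec with hU | hU
  · exfalso
    have hne' : (U : Set B.left).Nonempty := by
      by_contra h0; exact hne ((Opens.not_nonempty_iff_eq_bot _).1 h0)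
    obtain ⟨q, hq⟩ := nonempty_preirreducible_inter U.isOpen (ι'.left ⁻¹ᵁ U).isOpen hne' (by
      obtain ⟨q, hq⟩ := hne'
      refine ⟨ι'.left q, ?_⟩
      show ι'.left (ι'.left q) ∈ U
      rw [← Scheme.Hom.comp_apply, ← Over.comp_left, hinv]
      exact hq)
    exact absurd (show q ∈ U ⊓ ι'.left ⁻¹ᵁ U from hq) (by rw [hU]; exact id)
  · have htop : U = ⊤ := top_le_iff.1 (hU.ge.trans inf_le_left)
    subst htop
    haveI : IsAffine (⊤ : B.left.Opens).toScheme := haff
    haveI : IsAffine B.left := IsAffine.of_isIso B.left.topIso.inv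
    haveI : IsFinite B.hom := IsFinite.iff_isProper_and_isAffineHom.2 ⟨inferInstance, inferInstance⟩
    haveI : DiscreteTopology B.left := by
      have hdisc : DiscreteTopology (B.hom ⁻¹' {IsLocalRing.closedPoint K} : Set B.left) :=
        (B.hom.isDiscrete_preimage_singleton _).to_subtype
      have huniv : (B.hom ⁻¹' {IsLocalRing.closedPoint K} : Set B.left) = Set.univ :=
        Set.eq_univ_of_forall fun b => Subsingleton.elim (α := ↥(Spec (CommRingCat.of K))) _ _
      rw [huniv] at hdisc
      exact (Homeomorph.Set.univ B.left).discreteTopology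
    exact subsingleton_of_forall_eq (genericPoint B.left) fun b => ((specializes_iff_eq).1 (genericPoint_specializes b)).symm

theorem transl_comp [GrpObj A] (a b : 𝟙_ (Over (Spec (CommRingCat.of K))) ⟶ A) :
    transl a ≫ transl b = transl (a * b) := by
  simp only [transl, MonObj.comp_mul, Category.comp_id, comp_toUnit_assoc, _root_.mul_assoc]

theorem transl_one [GrpObj A] : transl (1 : 𝟙_ (Over (Spec (CommRingCat.of K))) ⟶ A) = 𝟙 A := by
  rw [transl, MonObj.comp_one, _root_.mul_one]

/-- The translations fixing a class. -/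
def stab [GrpObj A] (x : Pic A.left) : Subgroup (𝟙_ (Over (Spec (CommRingCat.of K))) ⟶ A) where
  carrier := {a | pull (transl a).left x = x}
  one_mem' := by show pull (transl (1 : _ ⟶ A)).left x = x; rw [transl_one, pull_over_id]
  mul_mem' {a b} (ha : pull (transl a).left x = x) (hb : pull (transl b).left x = x) := by
    show pull (transl (a * b)).left x = x
    rw [← transl_comp, ← pull_pull_over, hb, ha]
  inv_mem' {a} (ha : pull (transl a).left x = x) := by
    show pull (transl a⁻¹).left x = x
    conv_lhs => rw [← ha, pull_pull_over, transl_comp, inv_mul_cancel, transl_one, pull_over_id]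

theorem comp_transl [GrpObj A] [GrpObj B] (i : B ⟶ A) [IsMonHom i] (b : 𝟙_ (Over (Spec (CommRingCat.of K))) ⟶ B) :
    transl b ≫ i = i ≫ transl (b ≫ i) := by
  simp only [transl, MonObj.mul_comp, MonObj.comp_mul, Category.id_comp, Category.comp_id, Category.assoc,
    comp_toUnit_assoc]

/-- The set of points whose translation fixes a class is closed among closed points. -/
theorem mem_stab_of_mem_closure [GrpObj A] [IsProper A.hom] [GeometricallyIntegral A.hom] (x : Pic A.left)
    (a : 𝟙_ (Over (Spec (CommRingCat.of K))) ⟶ A)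
    (h : a.left (IsLocalRing.closedPoint K) ∈
      closure ((fun b => b.left (IsLocalRing.closedPoint K)) '' (stab x : Set (𝟙_ (Over (Spec (CommRingCat.of K))) ⟶ A)))) :
    a ∈ stab x := by
  set S := (fun b => b.left (IsLocalRing.closedPoint K)) '' (stab x : Set (𝟙_ (Over (Spec (CommRingCat.of K))) ⟶ A))
  let C : Closeds A.left := ⟨closure S, isClosed_closure⟩
  let I := Scheme.IdealSheafData.vanishingIdeal C
  have hr : Set.range I.subschemeι = closure S := RedSub.range_subschemeι_vanishingIdeal C
  let T : Over (Spec (CommRingCat.of K)) := Over.mk (I.subschemeι ≫ A.hom)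
  let i : T ⟶ A := Over.homMk I.subschemeι rfl
  haveI : LocallyOfFiniteType T.hom := inferInstanceAs (LocallyOfFiniteType (I.subschemeι ≫ A.hom))
  haveI : IsReduced T.left := RedSub.isReduced_subscheme_vanishingIdeal C
  haveI : IsClosedImmersion i.left := inferInstanceAs (IsClosedImmersion I.subschemeι)
  have hlift : ∀ b : 𝟙_ (Over (Spec (CommRingCat.of K))) ⟶ A, b.left (IsLocalRing.closedPoint K) ∈ closure S →
      ∃ t : 𝟙_ (Over (Spec (CommRingCat.of K))) ⟶ T, t ≫ i = b := fun b hb => by
    haveI : IsReduced (𝟙_ (Over (Spec (CommRingCat.of K)))).left := inferInstanceAs (IsReduced (Spec (CommRingCat.of K)))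
    obtain ⟨g, hg⟩ := RedSub.exists_lift b.left I.subschemeι (by
      rw [hr]
      rintro _ ⟨s, rfl⟩
      rw [Subsingleton.elim (α := ↥(Spec (CommRingCat.of K))) s (IsLocalRing.closedPoint K)]
      exact hb)
    exact ⟨Over.homMk g (by show g ≫ I.subschemeι ≫ A.hom = _; rw [reassoc_of% hg, Over.w]), Over.OverMorphism.ext hg⟩
  let y : Pic (A ⊗ T).left := addClass (fst A T) (snd A T ≫ i) x
  have hslice : ∀ t : 𝟙_ (Over (Spec (CommRingCat.of K))) ⟶ T,
      pull (lift (𝟙 A) (toUnit A ≫ t)).left y = pull (transl (t ≫ i)).left x * x⁻¹ := fun t => by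
    rw [pull_addClass, lift_fst, lift_snd_assoc, Category.assoc, addClass, pull_over_id, pull_toUnit_comp,
      _root_.mul_one]
  let D : Set T.left := i.left ⁻¹' S
  have hi : i.left.base = I.subschemeι.base := rfl
  have hDd : Dense D := by
    intro q
    rw [i.left.isEmbedding.isInducing.closure_eq_preimage_closure_image]
    show i.left q ∈ closure (i.left '' (i.left ⁻¹' S))
    rw [Set.image_preimage_eq_inter_range, show Set.range i.left = closure S from hr,
      Set.inter_eq_left.2 subset_closure]
    exact hr.le ⟨q, rfl⟩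
  have hDc : D ⊆ closedPoints T.left := fun q hq => by
    obtain ⟨b, -, hb⟩ := hq
    rw [← i.left.isClosedEmbedding.preimage_closedPoints]
    show i.left q ∈ closedPoints A.left
    rw [← hb]
    exact ((pointEquivClosedPoint A.hom) ⟨b.left, Over.w b⟩).2
  obtain ⟨t, ht⟩ := hlift a h
  have := slice_eq_one_of_dense_slices y hDd hDc (fun t ht => by
    rw [hslice, mul_inv_eq_one]
    obtain ⟨b, hb, hbe⟩ := ht
    have e : t ≫ i = b := Over.OverMorphism.ext (ext_of_apply_closedPoint_eq A.hom (Over.w (t ≫ i)) (Over.w b) (by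
      rw [Over.comp_left, Scheme.Hom.comp_apply]; exact hbe.symm))
    rw [e]; exact hb) t
  rw [hslice, ht, mul_inv_eq_one] at this
  exact this

/-- Finitely many translations fix a class some power of which has sections with affine loci through
every point. -/
theorem finite_stab [GrpObj A] [IsProper A.hom] [GeometricallyIntegral A.hom] (x : Pic A.left)
    (hx : ∀ q : A.left, ∃ (n : ℕ) (U : A.left.Opens), q ∈ U ∧ IsAffineOpen U ∧ HasSec (x ^ (n + 1)) U) :
    (stab x : Set (𝟙_ (Over (Spec (CommRingCat.of K))) ⟶ A)).Finite := by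
  haveI : IsIntegral A.left := GeometricallyIntegral.isIntegral_of_subsingleton A.hom
  haveI : IsLocallyNoetherian A.left := LocallyOfFiniteType.isLocallyNoetherian A.hom
  haveI : CompactSpace A.left := QuasiCompact.compactSpace_of_compactSpace A.hom
  haveI : IsNoetherian A.left := {}
  let φ : (𝟙_ (Over (Spec (CommRingCat.of K))) ⟶ A) → A.left := fun b => b.left (IsLocalRing.closedPoint K)
  have hφ : Function.Injective φ := fun a b h =>
    Over.OverMorphism.ext (ext_of_apply_closedPoint_eq A.hom (Over.w a) (Over.w b) h)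
  set S := φ '' (stab x : Set (𝟙_ (Over (Spec (CommRingCat.of K))) ⟶ A))
  suffices hS : S.Finite from hS.of_finite_image hφ.injOn
  by_contra hinf
  -- a minimal closed set meeting `S` infinitely
  obtain ⟨M, hM, hmin⟩ := (wellFounded_lt (α := Closeds A.left)).has_min {M | (S ∩ (M : Set A.left)).Infinite}
    ⟨⊤, by show (S ∩ Set.univ).Infinite; rw [Set.inter_univ]; exact hinf⟩
  have hirr : IsIrreducible (M : Set A.left) := by
    refine ⟨(Set.Infinite.nonempty hM).mono Set.inter_subset_right, ?_⟩
    rw [isPreirreducible_iff_isClosed_union_isClosed]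
    intro z₁ z₂ h₁ h₂ hsub
    by_contra hne
    push_neg at hne
    have key : ∀ z : Set A.left, IsClosed z → ¬(M : Set A.left) ⊆ z → (S ∩ ((M : Set A.left) ∩ z)).Finite := by
      intro z hz hnsub
      by_contra hzinf
      refine hmin ⟨(M : Set A.left) ∩ z, M.isClosed.inter hz⟩ hzinf (lt_of_le_of_ne Set.inter_subset_left fun he => hnsub ?_)
      exact (congrArg (fun C : Closeds A.left => (C : Set A.left)) he).ge.trans Set.inter_subset_right
    refine hM (((key z₁ h₁ hne.1).union (key z₂ h₂ hne.2)).subset ?_)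
    rintro q ⟨hqS, hqM⟩
    exact (hsub hqM).imp (fun h => ⟨hqS, hqM, h⟩) (fun h => ⟨hqS, hqM, h⟩)
  obtain ⟨_, ⟨h, hh, rfl⟩, hhM⟩ := Set.Infinite.nonempty hM
  -- translate it to the origin
  let τ : A.left ⟶ A.left := (transl h).left
  have hτ : ∀ b, τ (φ b) = φ (b * h) := fun b => by
    show (transl h).left (b.left (IsLocalRing.closedPoint K)) = _
    rw [← Scheme.Hom.comp_apply, ← Over.comp_left]
    congr 2
    simp only [transl, MonObj.comp_mul, Category.comp_id, ← Category.assoc,
      Subsingleton.elim (b ≫ toUnit A) (𝟙 _), Category.id_comp]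
  haveI : IsIso τ := ⟨(transl h⁻¹).left, by
    rw [← Over.comp_left, transl_comp, mul_inv_cancel, transl_one, Over.id_left], by
    rw [← Over.comp_left, transl_comp, inv_mul_cancel, transl_one, Over.id_left]⟩
  let V : Set A.left := τ ⁻¹' (M : Set A.left)
  have hVc : IsClosed V := M.isClosed.preimage τ.continuous
  have hVirr : IsIrreducible V := by
    have : V = (TopCat.homeoOfIso (Scheme.forgetToTop.mapIso (asIso τ))).symm '' (M : Set A.left) :=
      (congrFun (TopCat.homeoOfIso (Scheme.forgetToTop.mapIso (asIso τ))).image_symm _).symm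
    rw [this]
    exact hirr.image _ (Homeomorph.continuous _).continuousOn
  have hclo : (M : Set A.left) ⊆ closure S := by
    let M' : Closeds A.left := ⟨closure (S ∩ (M : Set A.left)), isClosed_closure⟩
    have hle : M' ≤ M := closure_minimal Set.inter_subset_right M.isClosed
    have he : M' = M := hle.antisymm (not_lt_iff_le_imp_ge.1 (hmin M'
      (hM.mono fun q hq => ⟨hq.1, subset_closure hq⟩)) hle)
    intro q hq
    exact closure_mono Set.inter_subset_left (show q ∈ (M' : Set A.left) from he.symm ▸ hq)
  have hmem : ∀ b : 𝟙_ (Over (Spec (CommRingCat.of K))) ⟶ A, φ b ∈ V → b ∈ stab x := fun b hb => by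
    have := mem_stab_of_mem_closure x (b * h) (hclo (show φ (b * h) ∈ (M : Set A.left) from hτ b ▸ hb))
    exact ((stab x).mul_mem_cancel_right hh).1 this
  haveI := isCommMonObj_abVar (A := A)
  haveI : (stab x).Normal := ⟨fun n hn g => by rwa [mul_comm g n, mul_inv_cancel_right]⟩
  obtain ⟨B, _, i, hi, hic, hBi, hVB, hker⟩ :=
    Rigidity.exists_subgroup_of_irreducible A (QuotientGroup.mk' (stab x)) V hVc hVirr (by
      rintro _ ⟨s, rfl⟩
      rw [Subsingleton.elim (α := ↥(Spec (CommRingCat.of K))) s (IsLocalRing.closedPoint K)]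
      show τ (φ η[A]) ∈ (M : Set A.left)
      rw [hτ, MonObj.one_eq_one, _root_.one_mul]
      exact hhM)
    (fun a ha => (QuotientGroup.eq_one_iff a).2 (hmem a (ha ⟨_, rfl⟩)))
  haveI : IsProper B.hom := by rw [← Over.w i]; infer_instance
  haveI := geometricallyIntegral_of_isAlgClosed B
  have hBinv : addClass (𝟙 B) ((𝟙 B)⁻¹) (pull i.left x) = 1 :=
    addClass_eq_one_of_dense _ (dense_closedPoints B) subset_rfl (fun b _ => by
      rw [pull_pull_over, comp_transl, ← pull_pull_over, show pull (transl (b ≫ i)).left x = x from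
        (QuotientGroup.eq_one_iff _).1 (hker b)]) _ _
  -- `V` has at least two points
  have hVinf : ¬ V.Subsingleton := fun hV => by
    have hMsub : (M : Set A.left).Subsingleton := fun p hp q hq => by
      obtain ⟨p', rfl⟩ := τ.surjective p
      obtain ⟨q', rfl⟩ := τ.surjective q
      rw [hV (show p' ∈ V from hp) (show q' ∈ V from hq)]
    exact hM (hMsub.finite.subset Set.inter_subset_right)
  obtain ⟨n, U, hqU, hU, hsec⟩ := hx (η[A].left (IsLocalRing.closedPoint K))
  have := subsingleton_of_additive (pull i.left x) hBinv n (U := i.left ⁻¹ᵁ U) (fun h0 => by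
      have : η[B].left (IsLocalRing.closedPoint K) ∈ i.left ⁻¹ᵁ U := by
        show i.left (η[B].left _) ∈ U
        rw [← Scheme.Hom.comp_apply, ← Over.comp_left, IsMonHom.one_hom]
        exact hqU
      rw [h0] at this
      exact this) (hU.preimage i.left) (by rw [← map_pow]; exact hasSec_pull i.left hsec)
  exact hVinf fun p hp q hq => by
    obtain ⟨p', rfl⟩ := hVB hp
    obtain ⟨q', rfl⟩ := hVB hq
    rw [Subsingleton.elim p' q']

end GrothLib.Cube
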