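import Groth.Agent.Lib.Cube.Seesaw
import Groth.Agent.Lib.Cube.MulFinite

/-!
# Seesaw for classes on products over an algebraically closed field; translation invariant classes
-/

universe u

open CategoryTheory CategoryTheory.Limits Opposite TopologicalSpace AlgebraicGeometry
open MonoidalCategory CartesianMonoidalCategory MonObj
open GrothLib.Ample
open scoped CategoryTheory.Obj

set_option backward.isDefEq.respectTransparency false

noncomputable section

namespace GrothLib.Cube

variable {K : Type u} [Field K] [IsAlgClosed K] {X T A : Over (Spec (CommRingCat.of K))}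

omit [IsAlgClosed K] in
theorem isProper_prod [IsProper X.hom] [IsProper T.hom] : IsProper (X ⊗ T).hom :=
  inferInstanceAs (IsProper (pullback.fst X.hom T.hom ≫ X.hom))

theorem exists_point_factor [LocallyOfFiniteType T.hom] (z : T.left) (hz : IsClosed ({z} : Set T.left)) :
    ∃ t : 𝟙_ (Over (Spec (CommRingCat.of K))) ⟶ T, t.left (IsLocalRing.closedPoint K) = z ∧
      T.left.fromSpecResidueField z ≫ T.hom ≫ t.left = T.left.fromSpecResidueField z := by
  refine ⟨Over.homMk (pointOfClosedPoint T.hom z hz) (pointOfClosedPoint_comp _ _ _),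
    pointOfClosedPoint_apply _ _ _ _, ?_⟩
  set t : 𝟙_ (Over (Spec (CommRingCat.of K))) ⟶ T :=
    Over.homMk (pointOfClosedPoint T.hom z hz) (pointOfClosedPoint_comp _ _ _)
  let ψ := (residueFieldIsoBase T.hom z hz).hom
  have e : t.left = Spec.map ψ ≫ T.left.fromSpecResidueField z := rfl
  have e2 : T.left.fromSpecResidueField z = CategoryTheory.inv (Spec.map ψ) ≫ t.left := by
    rw [e, IsIso.inv_hom_id_assoc]
  have e3 : T.left.fromSpecResidueField z ≫ T.hom = CategoryTheory.inv (Spec.map ψ) := by
    rw [e2, Category.assoc, Over.w t]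
    exact Category.comp_id _
  rw [← Category.assoc, e3, e2]

/-- A trivial slice at a rational point trivialises the fibre there. -/
theorem triv_fiber_of_slice [LocallyOfFiniteType T.hom] (c : Cocycle (X ⊗ T).left) (z : T.left)
    (hz : IsClosed ({z} : Set T.left))
    (hs : ∀ t : 𝟙_ (Over (Spec (CommRingCat.of K))) ⟶ T, t.left (IsLocalRing.closedPoint K) = z →
      pull (lift (𝟙 X) (toUnit X ≫ t)).left (cls c) = 1) :
    Triv (c.comap ((snd X T).left.fiberι z)) := by
  obtain ⟨t, htz, hfac⟩ := exists_point_factor z hz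
  let p := (snd X T).left
  let j : p.fiber z ⟶ X.left := p.fiberι z ≫ (fst X T).left
  have hj : p.fiberι z = j ≫ (lift (𝟙 X) (toUnit X ≫ t)).left := by
    apply pullback.hom_ext
    · show p.fiberι z ≫ (fst X T).left = (j ≫ (lift (𝟙 X) (toUnit X ≫ t)).left) ≫ (fst X T).left
      rw [Category.assoc, ← Over.comp_left, lift_fst, Over.id_left]
      exact (Category.comp_id _).symm
    · show p.fiberι z ≫ (snd X T).left = (j ≫ (lift (𝟙 X) (toUnit X ≫ t)).left) ≫ (snd X T).left
      rw [Category.assoc, ← Over.comp_left, lift_snd, Over.comp_left, Scheme.Hom.fiber_fac]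
      show _ = (p.fiberι z ≫ (fst X T).left) ≫ X.hom ≫ t.left
      rw [Category.assoc, ← Category.assoc (fst X T).left, Over.w (fst X T), ← Over.w (snd X T),
        ← Category.assoc, ← Category.assoc]
      erw [Scheme.Hom.fiber_fac]
      simp only [Category.assoc, hfac]
  rw [← cls_eq_one_iff, ← pull_cls, hj, ← pull_comp, hs t htz, map_one]

/-- A class on `X × T` trivial on a dense set of rational slices is trivial on every rational slice. -/
theorem slice_eq_one_of_dense_slices [IsProper X.hom] [GeometricallyIntegral X.hom] [LocallyOfFiniteType T.hom]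
    (y : Pic (X ⊗ T).left) {D : Set T.left} (hDd : Dense D) (hD : D ⊆ closedPoints T.left)
    (hs : ∀ t : 𝟙_ (Over (Spec (CommRingCat.of K))) ⟶ T, t.left (IsLocalRing.closedPoint K) ∈ D →
      pull (lift (𝟙 X) (toUnit X ≫ t)).left y = 1)
    (t : 𝟙_ (Over (Spec (CommRingCat.of K))) ⟶ T) : pull (lift (𝟙 X) (toUnit X ≫ t)).left y = 1 := by
  obtain ⟨c, rfl⟩ := Quotient.exists_rep y
  show pull _ (cls c) = 1
  haveI : IsLocallyNoetherian T.left := LocallyOfFiniteType.isLocallyNoetherian T.hom
  haveI := isProper_snd_left X T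
  haveI := flat_snd_left X T
  let p := (snd X T).left
  have hall := triv_fibre_of_dense' p c (fun L _ g => by
    let gg : Over.mk (g ≫ T.hom) ⟶ T := Over.homMk g rfl
    haveI : IsIntegral (X ⊗ Over.mk (g ≫ T.hom)).left := inferInstanceAs (IsIntegral (pullback X.hom (g ≫ T.hom)))
    let e := (isPullback_whiskerLeft_left X gg).isoPullback
    haveI : Nonempty ↥(pullback p g) := ⟨e.hom (Classical.arbitrary _)⟩
    exact isIntegral_of_isOpenImmersion e.inv) hDd
    (fun z hz => triv_fiber_of_slice c z (hD hz) fun t ht => hs t (by rw [ht]; exact hz))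
  obtain ⟨⟨z', φ⟩, hφ⟩ := (Scheme.SpecToEquivOfField K T.left).symm.surjective t.left
  have hφ' : Spec.map φ ≫ T.left.fromSpecResidueField z' = t.left := hφ
  let j : X.left ⟶ p.fiber z' := pullback.lift (lift (𝟙 X) (toUnit X ≫ t)).left (X.hom ≫ Spec.map φ) (by
    rw [← Over.comp_left, lift_snd, Category.assoc, hφ']
    rfl)
  have hj : (lift (𝟙 X) (toUnit X ≫ t)).left = j ≫ p.fiberι z' := (pullback.lift_fst _ _ _).symm
  rw [hj, ← pull_comp, pull_cls _ c, cls_eq_one_iff.2 (hall z'), map_one]

/-- A class on `X × T` trivial on the slices over a dense set of rational points and along a section is trivial. -/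
theorem eq_one_of_dense_slices [IsProper X.hom] [GeometricallyIntegral X.hom] [IsIntegral T.left]
    [LocallyOfFiniteType T.hom] (hnorm : ∀ z : T.left, IsIntegrallyClosed (T.left.presheaf.stalk z))
    (x₀ : 𝟙_ (Over (Spec (CommRingCat.of K))) ⟶ X) (y : Pic (X ⊗ T).left)
    {D : Set T.left} (hDd : Dense D) (hD : D ⊆ closedPoints T.left)
    (hs : ∀ t : 𝟙_ (Over (Spec (CommRingCat.of K))) ⟶ T, t.left (IsLocalRing.closedPoint K) ∈ D →
      pull (lift (𝟙 X) (toUnit X ≫ t)).left y = 1)
    (hε : pull (lift (toUnit T ≫ x₀) (𝟙 T)).left y = 1) : y = 1 := by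
  obtain ⟨c, rfl⟩ := Quotient.exists_rep y
  show cls c = 1
  rw [cls_eq_one_iff]
  haveI : IsLocallyNoetherian T.left := LocallyOfFiniteType.isLocallyNoetherian T.hom
  haveI := isProper_snd_left X T
  haveI := flat_snd_left X T
  have hX := isAntiAffine_of_proper (X := X) x₀
  let p := (snd X T).left
  refine triv_of_dense_fibres (p := p) (ε := (lift (toUnit T ≫ x₀) (𝟙 T)).left) ?_ hnorm (fun L _ g => ?_)
    (fun V hV => ?_) hDd (fun z hz => ?_) ?_
  · rw [← Over.comp_left, lift_snd, Over.id_left]
  · let gg : Over.mk (g ≫ T.hom) ⟶ T := Over.homMk g rfl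
    haveI : IsIntegral (X ⊗ Over.mk (g ≫ T.hom)).left := inferInstanceAs (IsIntegral (pullback X.hom (g ≫ T.hom)))
    let e := (isPullback_whiskerLeft_left X gg).isoPullback
    haveI : Nonempty ↥(pullback p g) := ⟨e.hom (Classical.arbitrary _)⟩
    exact isIntegral_of_isOpenImmersion e.inv
  · rw [Scheme.Hom.app_eq_appLE]
    exact snd_appLE_surjective (X := X) (Y := T) hX hV
  · exact triv_fiber_of_slice c z (hD hz) fun t ht => hs t (by rw [ht]; exact hz)
  · rw [← cls_eq_one_iff, ← pull_cls]
    exact hε

/-- The obstruction to additivity of the pullback of `x`. -/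
def addClass [GrpObj A] (f g : T ⟶ A) (x : Pic A.left) : Pic T.left :=
  pull (f * g).left x * (pull f.left x * pull g.left x)⁻¹

omit [IsAlgClosed K] in
theorem pull_addClass [GrpObj A] {P : Over (Spec (CommRingCat.of K))} (σ : P ⟶ T) (f g : T ⟶ A) (x : Pic A.left) :
    pull σ.left (addClass f g x) = addClass (σ ≫ f) (σ ≫ g) x := by
  simp only [addClass, map_mul, map_inv, pull_pull_over, MonObj.comp_mul]

/-- A class invariant under a dense set of translations is additive. -/
theorem addClass_eq_one_of_dense [GrpObj A] [IsProper A.hom] [GeometricallyIntegral A.hom] (x : Pic A.left)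
    {D : Set A.left} (hDd : Dense D) (hD : D ⊆ closedPoints A.left)
    (h : ∀ a : 𝟙_ (Over (Spec (CommRingCat.of K))) ⟶ A, a.left (IsLocalRing.closedPoint K) ∈ D →
      pull (transl a).left x = x) (f g : T ⟶ A) : addClass f g x = 1 := by
  haveI : IsIntegral A.left := GeometricallyIntegral.isIntegral_of_subsingleton A.hom
  suffices huniv : addClass (fst A A) (snd A A) x = 1 by
    have := congrArg (pull (lift f g).left) huniv
    rwa [map_one, pull_addClass, lift_fst, lift_snd] at this
  refine eq_one_of_dense_slices (normal_abVar A) η[A] _ hDd hD (fun a ha => ?_) ?_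
  · rw [pull_addClass, lift_fst, lift_snd, addClass, pull_over_id, pull_toUnit_comp, _root_.mul_one, mul_inv_eq_one]
    exact h a ha
  · rw [pull_addClass, lift_fst, lift_snd, addClass, pull_over_id, ← Hom.one_def, _root_.one_mul, pull_one_hom,
      pull_over_id, _root_.one_mul, mul_inv_cancel]

theorem dense_closedPoints (A : Over (Spec (CommRingCat.of K))) [LocallyOfFiniteType A.hom] :
    Dense (closedPoints A.left) := by
  haveI : JacobsonSpace A.left := LocallyOfFiniteType.jacobsonSpace (Y := Spec _) A.hom
  exact dense_iff_closure_eq.2 closure_closedPoints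

end GrothLib.Cube
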