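import Groth.Agent.Lib.Cube.AbVar
import Groth.Agent.Lib.Rigidity.Hom

/-!
# Commutativity and the theorem of the square on an abelian variety
-/

universe u

open CategoryTheory CategoryTheory.Limits Opposite TopologicalSpace AlgebraicGeometry
open MonoidalCategory CartesianMonoidalCategory MonObj
open GrothLib.Ample

set_option backward.isDefEq.respectTransparency false

noncomputable section

namespace GrothLib.Cube

variable {K : Type u} [Field K] {A S : Over (Spec (CommRingCat.of K))}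

theorem isMonHom_inv [GrpObj A] [IsProper A.hom] [GeometricallyIntegral A.hom] : IsMonHom (𝟙 A)⁻¹ :=
  Rigidity.isMonHom_of_one_comp _ (by
    rw [GrpObj.comp_inv, Category.comp_id]
    have e : (η[A] : 𝟙_ _ ⟶ A) = 1 := by rw [Hom.one_def, Subsingleton.elim (toUnit (𝟙_ _)) (𝟙 _), Category.id_comp]
    rw [e, inv_one])

theorem hom_mul_comm [GrpObj A] [IsProper A.hom] [GeometricallyIntegral A.hom] (f g : S ⟶ A) :
    f * g = g * f := by
  haveI := isMonHom_inv (A := A)
  have h := MonObj.mul_comp f g ((𝟙 A)⁻¹)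
  simp only [GrpObj.comp_inv, Category.comp_id] at h
  rw [← inv_inj, h, mul_inv_rev]

theorem isCommMonObj_abVar [GrpObj A] [IsProper A.hom] [GeometricallyIntegral A.hom] : IsCommMonObj A := by
  constructor
  have h := hom_mul_comm (snd A A) (fst A A)
  rw [Hom.mul_def, Hom.mul_def, lift_fst_snd, Category.id_comp] at h
  rw [show (β_ A A).hom = lift (snd A A) (fst A A) from by ext1 <;> simp]
  exact h

/-- Translation by a rational point. -/
abbrev transl [GrpObj A] (a : 𝟙_ _ ⟶ A) : A ⟶ A := 𝟙 A * (toUnit A ≫ a)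

/-- The theorem of the square. -/
theorem square [GrpObj A] [IsProper A.hom] [GeometricallyIntegral A.hom] (f : S ⟶ A) (a b : 𝟙_ _ ⟶ A)
    (x : Pic A.left) :
    pull (f * (toUnit S ≫ (a * b))).left x * pull f.left x =
      pull (f * (toUnit S ≫ a)).left x * pull (f * (toUnit S ≫ b)).left x := by
  have h := cubeClass_eq_one f (toUnit S ≫ a) (toUnit S ≫ b) x
  rw [cubeClass, pull_toUnit_comp, pull_toUnit_comp, mul_inv_eq_one, _root_.mul_assoc f, ← MonObj.comp_mul,
    pull_toUnit_comp, _root_.mul_one, _root_.mul_one, _root_.mul_one] at h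
  exact h

theorem pullback_iso_of_cls {L : A.left.Modules} (hL : PicF.IsInvertible L) {M : S.left.Modules}
    (hM : PicF.IsInvertible M) {f : S ⟶ A} (h : pull f.left (clsMod hL) = clsMod hM) :
    Nonempty ((Scheme.Modules.pullback f.left).obj L ≅ M) := by
  rw [← clsMod_eq_iff (isInvertible_pullback f.left hL) hM, clsMod_pullback]
  exact h

/-- `L` is invertible of class `x`. -/
def HasCls {X : Scheme.{u}} (L : X.Modules) (x : Pic X) : Prop := ∃ h : PicF.IsInvertible L, clsMod h = x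

theorem hasCls_clsMod {X : Scheme.{u}} {L : X.Modules} (hL : PicF.IsInvertible L) : HasCls L (clsMod hL) :=
  ⟨hL, rfl⟩

theorem HasCls.tensor {X : Scheme.{u}} {L L' : X.Modules} {x y : Pic X} (h : HasCls L x) (h' : HasCls L' y) :
    HasCls (CohB1.tensorMod L L') (x * y) := by
  obtain ⟨hL, rfl⟩ := h
  obtain ⟨hL', rfl⟩ := h'
  exact ⟨_, clsMod_tensorMod hL hL'⟩

theorem HasCls.tensorPow {X : Scheme.{u}} {L : X.Modules} {x : Pic X} (h : HasCls L x) (n : ℕ) :
    HasCls (CohB1.tensorPow L n) (x ^ n) := by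
  obtain ⟨hL, rfl⟩ := h
  exact ⟨_, clsMod_tensorPow hL n⟩

theorem HasCls.pullback {X Y : Scheme.{u}} {L : X.Modules} {x : Pic X} (f : Y ⟶ X) (h : HasCls L x) :
    HasCls ((Scheme.Modules.pullback f).obj L) (pull f x) := by
  obtain ⟨hL, rfl⟩ := h
  exact ⟨_, clsMod_pullback f hL⟩

theorem HasCls.iso {X : Scheme.{u}} {L L' : X.Modules} {x y : Pic X} (h : HasCls L x) (h' : HasCls L' y)
    (e : x = y) : Nonempty (L ≅ L') := by
  obtain ⟨hL, rfl⟩ := h
  obtain ⟨hL', rfl⟩ := h'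
  exact (clsMod_eq_iff hL hL').1 e

theorem HasCls.eq {X : Scheme.{u}} {L L' : X.Modules} {x y : Pic X} (h : HasCls L x) (h' : HasCls L' y)
    (e : Nonempty (L ≅ L')) : x = y := by
  obtain ⟨hL, rfl⟩ := h
  obtain ⟨hL', rfl⟩ := h'
  exact (clsMod_eq_iff hL hL').2 e

theorem hasCls_structureModule (X : Scheme.{u}) : HasCls (Coh.structureModule X) (1 : Pic X) :=
  ⟨Euler.isInvertible_structure, (clsMod_eq_one_iff _).2 ⟨Iso.refl _⟩⟩

theorem pull_over_id (x : Pic A.left) : pull (CategoryTheory.Over.Hom.left (𝟙 A : A ⟶ A)) x = x := by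
  rw [Over.id_left]; exact pull_id x

theorem mul_inv_pull [GrpObj A] [IsProper A.hom] [GeometricallyIntegral A.hom] (a : 𝟙_ _ ⟶ A) (x : Pic A.left) :
    pull (transl a).left (pull (𝟙 A)⁻¹.left x) * x = pull (𝟙 A)⁻¹.left x * pull (transl a).left x := by
  have hu : (toUnit A ≫ a)⁻¹ = toUnit A ≫ a⁻¹ := by rw [GrpObj.comp_inv]
  have e1 : transl a ≫ (𝟙 A)⁻¹ = (toUnit A ≫ a⁻¹) * (𝟙 A)⁻¹ := by
    rw [GrpObj.comp_inv, Category.comp_id, mul_inv_rev, hu]
  have h1 := cubeClass_eq_one (toUnit A ≫ a⁻¹) (𝟙 A)⁻¹ (𝟙 A) x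
  have h2 := cubeClass_eq_one (toUnit A ≫ a⁻¹) (𝟙 A) (toUnit A ≫ a) x
  have e2 : (toUnit A ≫ a⁻¹) * 𝟙 A * (toUnit A ≫ a) = 𝟙 A := by
    rw [← hu, hom_mul_comm _ (𝟙 A), inv_mul_cancel_right]
  have e3 : (toUnit A ≫ a⁻¹) * (toUnit A ≫ a) = (1 : A ⟶ A) := by rw [← hu, inv_mul_cancel]
  rw [cubeClass, inv_mul_cancel_right, inv_mul_cancel, pull_one_hom, mul_inv_eq_one, pull_over_id,
    pull_toUnit_comp, _root_.one_mul, _root_.mul_one] at h1
  rw [cubeClass, e2, e3, pull_one_hom, mul_inv_eq_one, pull_over_id, pull_toUnit_comp,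
    pull_toUnit_comp, _root_.mul_one, _root_.mul_one, _root_.mul_one] at h2
  rw [pull_pull_over, e1]
  generalize pull ((toUnit A ≫ a⁻¹) * (𝟙 A)⁻¹).left x = p at *
  generalize pull ((toUnit A ≫ a⁻¹) * 𝟙 A).left x = q at *
  generalize pull (𝟙 A)⁻¹.left x = i at *
  generalize pull (transl a).left x = r at *
  apply mul_right_cancel (b := x)
  rw [_root_.mul_assoc, h2]
  calc p * (q * r) = (p * q) * r := (_root_.mul_assoc _ _ _).symm
    _ = (i * x) * r := by rw [← h1, _root_.one_mul]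
    _ = i * r * x := mul_right_comm _ _ _

end GrothLib.Cube
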