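import Groth.Agent.Lib.Cube.Pic
import Groth.Agent.Lib.AntiAffine.Basic
import Groth.Agent.Lib.NormalExt.Basic
import Mathlib.RingTheory.UniqueFactorizationDomain.GCDMonoid

/-!
# An effective divisor from the poles of a rational function

On an integral locally Noetherian scheme with factorial local rings the denominators of a rational function form an
invertible ideal.
-/

universe u

open CategoryTheory CategoryTheory.Limits Opposite TopologicalSpace AlgebraicGeometry
open GrothLib.Ample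

set_option backward.isDefEq.respectTransparency false

noncomputable section

namespace GrothLib.Cube

variable {X : Scheme.{u}} [IsIntegral X]

/-- The rational function of a section on a neighbourhood of a point. -/
abbrev ratAt (y : X) : X.presheaf.stalk y →+* X.functionField := algebraMap _ _

/-- `r` multiplies `f` into the local ring. -/
def IsDen (f : X.functionField) (y : X) (r : X.presheaf.stalk y) : Prop :=
  ∃ s, ratAt y r * f = ratAt y s

theorem ratAt_germ {U : X.Opens} {y : X} (hy : y ∈ U) (a : Γ(X, U)) :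
    ratAt y (X.presheaf.germ U y hy a) =
      X.presheaf.germ U (genericPoint X) (((genericPoint_spec X).mem_open_set_iff U.isOpen).2
        ⟨y, trivial, hy⟩) a :=
  TopCat.Presheaf.germ_stalkSpecializes_apply X.presheaf hy (genericPoint_specializes y) a

/-- A generator of the denominators near each point. -/
theorem exists_den_nhd [IsLocallyNoetherian X] (hufd : ∀ y : X, UniqueFactorizationMonoid (X.presheaf.stalk y))
    (f : X.functionField) (x : X) :
    ∃ (W : X.Opens) (_ : x ∈ W) (b : Γ(X, W)), b ≠ 0 ∧ ∀ (y : X) (hy : y ∈ W),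
      IsDen f y (X.presheaf.germ W y hy b) ∧ ∀ r, IsDen f y r → X.presheaf.germ W y hy b ∣ r := by
  classical
  obtain ⟨U, hU, hxU, -⟩ := exists_isAffineOpen_mem_and_subset (x := x) (U := ⊤) trivial
  haveI : Nonempty U := ⟨⟨x, hxU⟩⟩
  haveI := functionField_isFractionRing_of_isAffineOpen X U hU
  haveI : IsNoetherianRing Γ(X, U) := IsLocallyNoetherian.component_noetherian ⟨U, hU⟩
  have hgen : ∀ a : Γ(X, U), algebraMap Γ(X, U) X.functionField a =
      X.presheaf.germ U (genericPoint X) (((genericPoint_spec X).mem_open_set_iff U.isOpen).2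
        ⟨x, trivial, hxU⟩) a := fun a => rfl
  have hrat : ∀ (y : X) (hy : y ∈ U) (a : Γ(X, U)),
      ratAt y (X.presheaf.germ U y hy a) = algebraMap Γ(X, U) X.functionField a := fun y hy a => by
    rw [ratAt_germ]; rfl
  have hfin : ∀ y : X, Function.Injective (ratAt y) := fun y =>
    IsFractionRing.injective (X.presheaf.stalk y) X.functionField
  let J : Ideal Γ(X, U) :=
    { carrier := {r | ∃ s, algebraMap Γ(X, U) X.functionField r * f = algebraMap Γ(X, U) X.functionField s}
      add_mem' := fun {r r'} ⟨s, hs⟩ ⟨s', hs'⟩ => ⟨s + s', by rw [map_add, map_add, add_mul, hs, hs']⟩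
      zero_mem' := ⟨0, by simp⟩
      smul_mem' := fun t r ⟨s, hs⟩ => ⟨t * s, by rw [smul_eq_mul, map_mul, map_mul, mul_assoc, hs]⟩ }
  have hloc : ∀ (y : X) (hy : y ∈ U) (r : X.presheaf.stalk y), IsDen f y r →
      ∃ (j : Γ(X, U)) (v : X.presheaf.stalk y), j ∈ J ∧ IsUnit v ∧ r * v = X.presheaf.germ U y hy j := by
    intro y hy r ⟨s, hs⟩
    letI := TopCat.Presheaf.algebra_section_stalk X.presheaf (⟨y, hy⟩ : U)
    haveI := hU.isLocalization_stalk ⟨y, hy⟩
    obtain ⟨⟨r', u⟩, hr⟩ := IsLocalization.surj (hU.primeIdealOf ⟨y, hy⟩).asIdeal.primeCompl r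
    obtain ⟨⟨s', v⟩, hs'⟩ := IsLocalization.surj (hU.primeIdealOf ⟨y, hy⟩).asIdeal.primeCompl s
    simp only [TopCat.Presheaf.stalk_open_algebraMap] at hr hs'
    refine ⟨r' * v, X.presheaf.germ U y hy ((u : Γ(X, U)) * v), ⟨s' * u, ?_⟩, ?_, ?_⟩
    · have e1 := congrArg (ratAt y) hr
      have e2 := congrArg (ratAt y) hs'
      simp only [map_mul] at e1 e2
      erw [hrat y hy, hrat y hy] at e1 e2
      rw [map_mul, map_mul]
      linear_combination (algebraMap Γ(X, U) X.functionField v * algebraMap Γ(X, U) X.functionField u) * hs -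
        (f * algebraMap Γ(X, U) X.functionField v) * e1 + (algebraMap Γ(X, U) X.functionField u) * e2
    · rw [map_mul]
      exact (IsLocalization.map_units (X.presheaf.stalk y) u).mul (IsLocalization.map_units (X.presheaf.stalk y) v)
    · rw [map_mul, map_mul, ← mul_assoc]
      exact congrArg (· * _) hr
  haveI := hufd x
  letI : GCDMonoid (X.presheaf.stalk x) := UniqueFactorizationMonoid.toGCDMonoid _
  obtain ⟨p, q, hq, hf⟩ := IsFractionRing.div_surjective (A := X.presheaf.stalk x) f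
  have hq0 : q ≠ 0 := nonZeroDivisors.ne_zero hq
  obtain ⟨p', q', hcop, hpq⟩ : ∃ p' q', IsRelPrime p' q' ∧ f * ratAt x q' = ratAt x p' ∧ q' ≠ 0 := by
    obtain ⟨p', q', d, hrel, hp, hq'⟩ := UniqueFactorizationMonoid.exists_reduced_factors' p q hq0
    have hd : ratAt x d ≠ 0 := (map_ne_zero_iff _ (hfin x)).2 (left_ne_zero_of_mul (hq' ▸ hq0))
    refine ⟨p', q', hrel, ?_, right_ne_zero_of_mul (hq' ▸ hq0)⟩
    have h1 : ratAt x q ≠ 0 := (map_ne_zero_iff _ (hfin x)).2 hq0
    have h2 : f * ratAt x q = ratAt x p := by rw [← hf]; exact div_mul_cancel₀ _ h1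
    rw [← hp, ← hq', map_mul, map_mul] at h2
    apply mul_left_cancel₀ hd
    linear_combination h2
  obtain ⟨hfq, hq'0⟩ := hpq
  have hdiv : ∀ r, IsDen f x r → q' ∣ r := fun r ⟨s, hs⟩ => by
    refine hcop.symm.dvd_of_dvd_mul_right ⟨s, hfin x ?_⟩
    rw [map_mul, map_mul, ← hfq, ← hs]
    ring1
  obtain ⟨b, v, hbJ, hv, hb⟩ := hloc x hxU q' ⟨p', by rw [mul_comm]; exact hfq⟩
  obtain ⟨S, hS⟩ := (inferInstance : IsNoetherianRing Γ(X, U)).noetherian J
  have hmul : ∀ j ∈ J, ∃ (W : X.Opens) (hWU : W ≤ U) (_ : x ∈ W) (q₁ : Γ(X, W)), res hWU j = res hWU b * q₁ := by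
    intro j hj
    obtain ⟨s, hs⟩ := hj
    have hden : IsDen f x (X.presheaf.germ U x hxU j) :=
      ⟨X.presheaf.germ U x hxU s, by rw [hrat x hxU, hrat x hxU, hs]⟩
    obtain ⟨t, ht⟩ := (hdiv _ hden)
    obtain ⟨w, hw⟩ := hv.exists_right_inv
    obtain ⟨W₁, hxW₁, t₁, ht₁⟩ := X.presheaf.exists_germ_eq (w * t)
    have hc : X.presheaf.germ U x hxU j = X.presheaf.germ U x hxU b * (w * t) := by
      rw [← hb, ht]
      linear_combination -(q' * t) * hw
    have hc' : X.presheaf.germ (U ⊓ W₁) x ⟨hxU, hxW₁⟩ (res inf_le_left j) =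
        X.presheaf.germ (U ⊓ W₁) x ⟨hxU, hxW₁⟩ (res inf_le_left b * res inf_le_right t₁) := by
      rw [map_mul]
      erw [TopCat.Presheaf.germ_res_apply, TopCat.Presheaf.germ_res_apply, TopCat.Presheaf.germ_res_apply]
      rw [hc, ← ht₁]
    obtain ⟨W, hxW, i₁, i₂, hW⟩ := X.presheaf.germ_eq x _ _ _ _ hc'
    refine ⟨W, (leOfHom i₁).trans inf_le_left, hxW, res ((leOfHom i₁).trans inf_le_right) t₁, ?_⟩
    have e1 : res (leOfHom i₁) (res inf_le_left j) = res (leOfHom i₂) (res inf_le_left b * res inf_le_right t₁) := hW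
    rw [map_mul, res_res, res_res, res_res] at e1
    exact e1
  choose W hWU hxW q₁ hq₁ using hmul
  let W₀ : X.Opens := U ⊓ S.attach.inf fun j => W j.1 (hS ▸ Submodule.subset_span j.2)
  have hxS : x ∈ S.attach.inf fun j => W j.1 (hS ▸ Submodule.subset_span j.2) := by
    rw [← SetLike.mem_coe, Opens.coe_finset_inf, Finset.inf_eq_iInf]
    simp only [Set.iInf_eq_iInter, Set.mem_iInter, Function.comp_apply]
    intro j _
    exact hxW _ _
  refine ⟨W₀, ⟨hxU, hxS⟩, res inf_le_left b, ?_, fun y hy => ?_⟩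
  · intro h0
    have h1 := congrArg (fun z => X.presheaf.germ W₀ x ⟨hxU, hxS⟩ z) h0
    simp only [map_zero] at h1
    erw [TopCat.Presheaf.germ_res_apply] at h1
    rw [← hb] at h1
    exact mul_ne_zero hq'0 hv.ne_zero h1
  · erw [TopCat.Presheaf.germ_res_apply]
    obtain ⟨s, hs⟩ := hbJ
    refine ⟨⟨X.presheaf.germ U y hy.1 s, by rw [hrat, hrat, hs]⟩, fun r hr => ?_⟩
    obtain ⟨j, v', hj, hv', hjr⟩ := hloc y hy.1 r hr
    rw [← hv'.dvd_mul_right, hjr]
    rw [← hS] at hj
    clear hjr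
    induction hj using Submodule.span_induction with
    | mem j hjS =>
      have hyj : y ∈ W j (hS ▸ Submodule.subset_span hjS) := by
        have : S.attach.inf (fun j => W j.1 (hS ▸ Submodule.subset_span j.2)) ≤ W j _ :=
          Finset.inf_le (f := fun j : S => W j.1 (hS ▸ Submodule.subset_span j.2)) (Finset.mem_attach S ⟨j, hjS⟩)
        exact this hy.2
      have e1 := congrArg (fun z => X.presheaf.germ _ y hyj z) (hq₁ j (hS ▸ Submodule.subset_span hjS))
      simp only [map_mul] at e1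
      erw [TopCat.Presheaf.germ_res_apply, TopCat.Presheaf.germ_res_apply] at e1
      exact ⟨_, e1⟩
    | zero => rw [map_zero]; exact dvd_zero _
    | add a c _ _ ha hc => rw [map_add]; exact dvd_add ha hc
    | smul t a _ ha => rw [smul_eq_mul, map_mul]; exact dvd_mul_of_dvd_right ha _

theorem exists_quotient (W₁ W₂ : X.Opens) (b₁ : Γ(X, W₁)) (b₂ : Γ(X, W₂)) (hb₂ : b₂ ≠ 0)
    (h : ∀ (y : X) (hy : y ∈ W₁ ⊓ W₂), X.presheaf.germ W₂ y hy.2 b₂ ∣ X.presheaf.germ W₁ y hy.1 b₁) :
    ∃ g : Γ(X, W₁ ⊓ W₂), res inf_le_left b₁ = g * res inf_le_right b₂ := by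
  have hloc : ∀ y : (W₁ ⊓ W₂ : X.Opens), ∃ (O : X.Opens) (_ : y.1 ∈ O) (hO : O ≤ W₁ ⊓ W₂) (g : Γ(X, O)),
      res (hO.trans inf_le_left) b₁ = g * res (hO.trans inf_le_right) b₂ := by
    rintro ⟨y, hy⟩
    obtain ⟨t, ht⟩ := h y hy
    obtain ⟨O₁, hyO₁, t₁, ht₁⟩ := X.presheaf.exists_germ_eq t
    have hc' : X.presheaf.germ (W₁ ⊓ W₂ ⊓ O₁) y ⟨hy, hyO₁⟩ (res (inf_le_left.trans inf_le_left) b₁) =
        X.presheaf.germ (W₁ ⊓ W₂ ⊓ O₁) y ⟨hy, hyO₁⟩ (res inf_le_right t₁ * res (inf_le_left.trans inf_le_right) b₂) := by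
      rw [map_mul]
      erw [TopCat.Presheaf.germ_res_apply, TopCat.Presheaf.germ_res_apply, TopCat.Presheaf.germ_res_apply]
      rw [ht, ← ht₁, mul_comm]
    obtain ⟨O, hyO, i₁, i₂, hO⟩ := X.presheaf.germ_eq y _ _ _ _ hc'
    refine ⟨O, hyO, (leOfHom i₁).trans inf_le_left, res ((leOfHom i₁).trans inf_le_right) t₁, ?_⟩
    have e1 : res (leOfHom i₁) (res (inf_le_left.trans inf_le_left) b₁) =
        res (leOfHom i₂) (res inf_le_right t₁ * res (inf_le_left.trans inf_le_right) b₂) := hO
    rw [map_mul, res_res, res_res, res_res] at e1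
    exact e1
  choose O hyO hO g hg using hloc
  have hcancel : ∀ {V : X.Opens} (hV : V ≤ W₂) (s : Γ(X, V)), s * res hV b₂ = 0 → s = 0 := by
    intro V hV s hs
    by_cases hne : (V : Set X).Nonempty
    · haveI : Nonempty V := hne.to_subtype
      exact (mul_eq_zero.1 hs).resolve_right fun h =>
        hb₂ (map_injective_of_isIntegral X (homOfLE hV) (h.trans (map_zero _).symm))
    · haveI : Subsingleton Γ(X, V) := by
        rw [show V = ⊥ from SetLike.coe_injective (by simpa [Set.not_nonempty_iff_eq_empty] using hne)]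
        infer_instance
      exact Subsingleton.elim _ _
  obtain ⟨G, hG, -⟩ := X.sheaf.existsUnique_gluing' O (W₁ ⊓ W₂) (fun y => homOfLE (hO y))
    (fun y hy => Opens.mem_iSup.2 ⟨⟨y, hy⟩, hyO _⟩) g (fun y y' => by
      show res inf_le_left (g y) = res inf_le_right (g y')
      rw [← sub_eq_zero]
      refine hcancel ((inf_le_left.trans (hO y)).trans inf_le_right) _ ?_
      have e1 := congrArg (res (inf_le_left : O y ⊓ O y' ≤ O y)) (hg y)
      have e2 := congrArg (res (inf_le_right : O y ⊓ O y' ≤ O y')) (hg y')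
      simp only [map_mul, res_res] at e1 e2
      linear_combination e2 - e1)
  refine ⟨G, eq_of_cover O hO (fun y hy => Opens.mem_iSup.2 ⟨⟨y, hy⟩, hyO _⟩) fun y => ?_⟩
  have e : res (hO y) G = g y := hG y
  rw [map_mul, res_res, res_res, e]
  exact hg y

/-- The polar divisor of a rational function, as a cocycle with a section. -/
theorem exists_polar [IsLocallyNoetherian X] (hufd : ∀ y : X, UniqueFactorizationMonoid (X.presheaf.stalk y))
    (f : X.functionField) :
    ∃ (c : Cocycle X) (a : c.sect 1 ⊤), c.locus a ≠ ⊥ ∧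
      (∀ y ∈ c.locus a, IsDen f y (1 : X.presheaf.stalk y)) ∧
      ∀ y, IsDen f y (1 : X.presheaf.stalk y) → y ∈ c.locus a := by
  choose W hxW b hb0 hden using exists_den_nhd hufd f
  have hd : ∀ i k (y : X) (hy : y ∈ W i ⊓ W k), X.presheaf.germ (W k) y hy.2 (b k) ∣ X.presheaf.germ (W i) y hy.1 (b i) :=
    fun i k y hy => (hden k y hy.2).2 _ (hden i y hy.1).1
  choose g hg using fun i k => exists_quotient (W i) (W k) (b i) (b k) (hb0 k) (hd i k)
  have hcancel : ∀ {V : X.Opens} (k : X) (hV : V ≤ W k) (s t : Γ(X, V)),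
      s * res hV (b k) = t * res hV (b k) → s = t := by
    intro V k hV s t hst
    rw [← sub_eq_zero]
    by_cases hne : (V : Set X).Nonempty
    · haveI : Nonempty V := hne.to_subtype
      refine (mul_eq_zero.1 (show (s - t) * res hV (b k) = 0 by linear_combination hst)).resolve_right fun h => ?_
      exact hb0 k (map_injective_of_isIntegral X (homOfLE hV) (h.trans (map_zero _).symm))
    · haveI : Subsingleton Γ(X, V) := by
        rw [show V = ⊥ from SetLike.coe_injective (by simpa [Set.not_nonempty_iff_eq_empty] using hne)]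
        infer_instance
      exact Subsingleton.elim _ _
  let c : Cocycle X :=
    { ι := X
      D := W
      g := g
      cover := top_le_iff.1 fun x _ => Opens.mem_iSup.2 ⟨x, hxW x⟩
      self := fun i V h => hcancel i h _ _ (by
        have e := congrArg (res (le_inf h h)) (hg i i)
        simp only [map_mul, res_res] at e
        rw [one_mul]; exact e.symm)
      change := fun i j k V hi hj hk => hcancel k hk _ _ (by
        have e1 := congrArg (res (le_inf hi hk)) (hg i k)
        have e2 := congrArg (res (le_inf hi hj)) (hg i j)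
        have e3 := congrArg (res (le_inf hj hk)) (hg j k)
        simp only [map_mul, res_res] at e1 e2 e3
        linear_combination -e1 + e2 + (res (le_inf hi hj) (g i j)) * e3) }
  have hsect : ∀ (i k : c.ι) (V : X.Opens) (hi : V ≤ ⊤ ⊓ c.D i) (hk : V ≤ ⊤ ⊓ c.D k),
      res hi (res inf_le_right (b i) : Γ(X, ⊤ ⊓ c.D i)) =
        c.G i k (hi.trans inf_le_right) (hk.trans inf_le_right) ^ 1 * res hk (res inf_le_right (b k)) := by
    intro i k V hi hk
    have e := congrArg (res (le_inf (hi.trans inf_le_right) (hk.trans inf_le_right))) (hg i k)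
    rw [map_mul, res_res, res_res] at e
    rw [pow_one, res_res, res_res]
    exact e
  let a : c.sect 1 ⊤ := ⟨fun i => res inf_le_right (b i), hsect⟩
  refine ⟨c, a, ?_, fun y hy => ?_, fun y hy => ?_⟩
  · intro h
    let x : X := genericPoint X
    have h1 : c.locus a ⊓ c.D x = ⊥ := by rw [h, bot_inf_eq]
    rw [c.locus_inf_D, basicOpen_eq_bot_iff] at h1
    haveI : Nonempty (⊤ ⊓ c.D x : X.Opens) := ⟨⟨x, trivial, hxW x⟩⟩
    exact hb0 x (map_injective_of_isIntegral X (homOfLE (inf_le_right : ⊤ ⊓ c.D x ≤ c.D x))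
      (h1.trans (map_zero _).symm))
  · obtain ⟨i, hi⟩ := c.exists_mem y
    have h1 : y ∈ X.basicOpen (a.1 i) := (c.mem_locus_iff a hi).1 hy
    obtain ⟨s, hs⟩ := (hden i y hi).1
    have hu : IsUnit (X.presheaf.germ (W i) y hi (b i)) := by
      change y ∈ X.basicOpen (res (inf_le_right : ⊤ ⊓ W i ≤ W i) (b i)) at h1
      rw [Scheme.basicOpen_res] at h1
      exact (X.mem_basicOpen (b i) y hi).1 h1.2
    obtain ⟨w, hw⟩ := hu.exists_right_inv
    refine ⟨s * w, ?_⟩
    rw [map_mul, ← hs, ← hw, map_mul]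
    ring
  · obtain ⟨i, hi⟩ := c.exists_mem y
    refine (c.mem_locus_iff a hi).2 ?_
    change y ∈ X.basicOpen (res (inf_le_right : ⊤ ⊓ W i ≤ W i) (b i))
    rw [Scheme.basicOpen_res]
    exact ⟨⟨trivial, hi⟩, (X.mem_basicOpen (b i) y hi).2 (isUnit_of_dvd_one ((hden i y hi).2 1 hy))⟩

end GrothLib.Cube
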