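import Groth.Agent.Lib.Cube.Square
import Groth.Agent.Lib.Cube.Divisor
import Groth.Agent.Lib.RegUFD.Basic

/-!
# An abelian variety killed by a nonzero integer is a point
-/

universe u

open CategoryTheory CategoryTheory.Limits Opposite TopologicalSpace AlgebraicGeometry
open MonoidalCategory CartesianMonoidalCategory MonObj
open GrothLib.Ample

set_option backward.isDefEq.respectTransparency false

noncomputable section

namespace GrothLib.Cube

/-- The class has a section with the given nonvanishing locus. -/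
def HasSec {X : Scheme.{u}} (x : Pic X) (U : X.Opens) : Prop :=
  ∃ (c : Cocycle X) (a : c.sect 1 ⊤), cls c = x ∧ c.locus a = U

theorem hasSec_mul {X : Scheme.{u}} {x y : Pic X} {U V : X.Opens} (h : HasSec x U) (h' : HasSec y V) :
    HasSec (x * y) (U ⊓ V) := by
  obtain ⟨c, a, rfl, rfl⟩ := h
  obtain ⟨d, b, rfl, rfl⟩ := h'
  refine ⟨c.prod d, c.mulProd d a b, cls_prod c d, ?_⟩
  ext q
  obtain ⟨i, hi⟩ := c.exists_mem q
  obtain ⟨k, hk⟩ := d.exists_mem q
  show q ∈ (c.prod d).locus _ ↔ q ∈ c.locus a ∧ q ∈ d.locus b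
  rw [(c.prod d).mem_locus_iff (c.mulProd d a b) (i := (i, k)) ⟨hi, hk⟩, c.mem_locus_iff a hi,
    d.mem_locus_iff b hk]
  change q ∈ X.basicOpen (res (inf_le_inf_left ⊤ inf_le_left) (a.1 i) * res (inf_le_inf_left ⊤ inf_le_right) (b.1 k)) ↔ _
  rw [Scheme.basicOpen_mul]
  erw [Scheme.basicOpen_res, Scheme.basicOpen_res]
  exact ⟨fun h => ⟨h.1.2, h.2.2⟩, fun h => ⟨⟨⟨trivial, hi, hk⟩, h.1⟩, ⟨trivial, hi, hk⟩, h.2⟩⟩

theorem hasSec_pull {X Y : Scheme.{u}} {x : Pic X} {U : X.Opens} (j : Y ⟶ X) (h : HasSec x U) :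
    HasSec (pull j x) (j ⁻¹ᵁ U) := by
  obtain ⟨c, a, rfl, rfl⟩ := h
  exact ⟨c.comap j, c.pullSect j le_top a, rfl, c.locus_pullSect j a⟩

theorem hasSec_pow {X : Scheme.{u}} {x : Pic X} {U : X.Opens} (h : HasSec x U) (n : ℕ) :
    HasSec (x ^ (n + 1)) U := by
  induction n with
  | zero => simpa using h
  | succ n ih =>
    have := hasSec_mul ih h
    rw [inf_idem, ← pow_succ] at this
    exact this

variable {K : Type u} [Field K] {A : Over (Spec (CommRingCat.of K))}

/-- A section of the trivial class on a scheme with constant functions vanishes everywhere or nowhere. -/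
theorem locus_eq_bot_or_top (hA : AntiAffine.IsAntiAffine A) {U : A.left.Opens} (h : HasSec (1 : Pic A.left) U) :
    U = ⊥ ∨ U = ⊤ := by
  obtain ⟨c, a, hc, rfl⟩ := h
  obtain ⟨α, hα⟩ := cls_eq_one_iff.1 hc
  choose w hw using fun i => (isUnit_component hα i (le_refl (c.D i))).exists_right_inv
  obtain ⟨r, hr⟩ := exists_glue c.D (O := ⊤) (fun _ => le_top) c.cover.ge
    (fun i => res (le_inf le_top le_rfl) (a.1 i) * w i) (fun i k => by
      let O := c.D i ⊓ c.D k
      have e1 := c.sect_spec a i k (W := O) (le_inf le_top inf_le_left) (le_inf le_top inf_le_right)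
      have e2 := c.sect_spec α i k (W := O) (le_inf le_top inf_le_left) (le_inf le_top inf_le_right)
      rw [pow_one] at e1 e2
      have wi := congrArg (res (inf_le_left : O ≤ c.D i)) (hw i)
      have wk := congrArg (res (inf_le_right : O ≤ c.D k)) (hw k)
      simp only [map_mul, map_one, res_res] at wi wk
      simp only [map_mul, res_res]
      linear_combination (res (inf_le_left : O ≤ c.D i) (w i)) * e1 +
        (res (le_inf le_top inf_le_right : O ≤ ⊤ ⊓ c.D k) (a.1 k) * res (inf_le_right : O ≤ c.D k) (w k)) * wi -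
        (res (le_inf le_top inf_le_right : O ≤ ⊤ ⊓ c.D k) (a.1 k) * res (inf_le_right : O ≤ c.D k) (w k) *
          res (inf_le_left : O ≤ c.D i) (w i)) * e2 -
        (c.G i k inf_le_left inf_le_right * res (le_inf le_top inf_le_right : O ≤ ⊤ ⊓ c.D k) (a.1 k) *
          res (inf_le_left : O ≤ c.D i) (w i)) * wk)
  obtain ⟨t, ht⟩ := hA.2 r
  have hloc : ∀ i (q : A.left), q ∈ c.D i → (q ∈ c.locus a ↔ t ≠ 0) := by
    intro i q hq
    have e0 : res (le_inf le_top le_rfl : c.D i ≤ ⊤ ⊓ c.D i) (a.1 i) =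
        res (le_top : c.D i ≤ ⊤) r * res (le_inf le_top le_rfl) (α.1 i) := by
      rw [hr i, _root_.mul_assoc, mul_comm (w i), hw i, _root_.mul_one]
    rw [c.mem_locus_iff a hq]
    have e1 : q ∈ A.left.basicOpen (a.1 i) ↔
        q ∈ A.left.basicOpen (res (le_inf le_top le_rfl : c.D i ≤ ⊤ ⊓ c.D i) (a.1 i)) := by
      rw [Scheme.basicOpen_res]; exact ⟨fun h => ⟨hq, h⟩, fun h => h.2⟩
    rw [e1, e0, Scheme.basicOpen_mul, Scheme.basicOpen_of_isUnit _ (isUnit_component hα i (le_refl (c.D i)))]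
    rw [Scheme.basicOpen_res]
    constructor
    · rintro ⟨⟨-, hqr⟩, -⟩ rfl
      rw [← ht, map_zero, Scheme.basicOpen_zero] at hqr
      exact hqr
    · intro ht0
      have hu : IsUnit r := ht ▸ (isUnit_iff_ne_zero.2 ht0).map _
      exact ⟨⟨hq, (Scheme.basicOpen_of_isUnit _ hu).ge trivial⟩, hq⟩
  by_cases h0 : t = 0
  · refine Or.inl (eq_bot_iff.2 fun q hq => ?_)
    obtain ⟨i, hi⟩ := c.exists_mem q
    exact absurd h0 ((hloc i q hi).1 hq)
  · refine Or.inr (top_le_iff.1 fun q _ => ?_)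
    obtain ⟨i, hi⟩ := c.exists_mem q
    exact (hloc i q hi).2 h0

/-- On a symmetric class, `[m]^* y = y^(m²)`. -/
theorem pull_pow_of_symmetric [GrpObj A] [IsProper A.hom] [GeometricallyIntegral A.hom] {y : Pic A.left}
    (hy : pull (𝟙 A)⁻¹.left y = y) : ∀ m : ℕ, pull (𝟙 A ^ m).left y = y ^ (m ^ 2) := by
  intro m
  induction m using Nat.twoStepInduction with
  | zero => rw [pow_zero, pull_one_hom]; rfl
  | one => rw [pow_one, pull_over_id]; simp
  | more m h0 h1 =>
    have h := cubeClass_eq_one (𝟙 A ^ (m + 1)) (𝟙 A) (𝟙 A)⁻¹ y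
    rw [cubeClass, mul_inv_cancel_right, mul_inv_cancel, pull_one_hom, mul_inv_eq_one, ← pow_succ,
      show (𝟙 A : A ⟶ A) ^ (m + 1) * (𝟙 A)⁻¹ = 𝟙 A ^ m by rw [pow_succ, mul_inv_cancel_right],
      hy, pull_over_id, h1, h0, _root_.mul_one] at h
    show pull (𝟙 A ^ (m + 1 + 1)).left y = y ^ ((m + 1 + 1) ^ 2)
    apply mul_right_cancel (b := y ^ m ^ 2)
    rw [← h, ← pow_add, ← pow_add, ← pow_succ, ← pow_succ]
    congr 1
    ring

/-- An abelian variety killed by a positive integer is a point. -/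
theorem subsingleton_of_pow_eq_one [GrpObj A] [IsProper A.hom] [GeometricallyIntegral A.hom] {n : ℕ} (hn : n ≠ 0)
    (h : (𝟙 A : A ⟶ A) ^ n = 1) : Subsingleton A.left := by
  haveI : IsIntegral A.left := GeometricallyIntegral.isIntegral_of_subsingleton A.hom
  haveI : IsLocallyNoetherian A.left := LocallyOfFiniteType.isLocallyNoetherian A.hom
  have hA : AntiAffine.IsAntiAffine A := isAntiAffine_of_proper (X := A) η[A]
  have hufd : ∀ y : A.left, UniqueFactorizationMonoid (A.left.presheaf.stalk y) := fun y => by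
    haveI := smooth_abVar A
    haveI := WeilExt.isRegularLocalRing_stalk_of_smooth A.hom (WeilExt.isRegularLocalRing_stalk_spec K) y
    exact RegUFD.ufd_of_isRegularLocalRing _
  let η₀ := genericPoint A.left
  let κ : K →+* A.left.functionField :=
    (A.left.presheaf.germ ⊤ η₀ trivial).hom.comp (cst A.hom ⊤)
  by_cases hall : ∀ f : A.left.functionField, f ∈ Set.range κ
  · refine ⟨fun y y' => ?_⟩
    suffices hgen : ∀ y : A.left, y = η₀ by rw [hgen y, hgen y']
    intro y
    have hfield : IsField (A.left.presheaf.stalk y) := by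
      refine ⟨⟨0, 1, zero_ne_one⟩, mul_comm, fun {r} hr => ?_⟩
      obtain ⟨t, ht⟩ := hall (ratAt y r)⁻¹
      refine ⟨A.left.presheaf.germ ⊤ y trivial (cst A.hom ⊤ t),
        IsFractionRing.injective (A.left.presheaf.stalk y) A.left.functionField ?_⟩
      show ratAt y (r * _) = ratAt y 1
      rw [map_mul, ratAt_germ, map_one]
      show ratAt y r * κ t = 1
      rw [ht]
      exact mul_inv_cancel₀ ((map_ne_zero_iff _ (IsFractionRing.injective _ _)).2 hr)
    obtain ⟨p, hp⟩ : η₀ ∈ Set.range (A.left.fromSpecStalk y) := by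
      rw [Scheme.range_fromSpecStalk]; exact genericPoint_specializes y
    letI := hfield.toField
    rw [← hp, show p = IsLocalRing.closedPoint (A.left.presheaf.stalk y) from
      Subsingleton.elim (α := PrimeSpectrum (A.left.presheaf.stalk y)) _ _, Scheme.fromSpecStalk_closedPoint]
  · exfalso
    push_neg at hall
    obtain ⟨f, hf⟩ := hall
    obtain ⟨c, a, hbot, hden, -⟩ := exists_polar hufd f
    have htop : c.locus a ≠ ⊤ := by
      intro htop
      have hreg : ∀ y : A.left, ∃ (O : A.left.Opens) (_ : y ∈ O) (s : Γ(A.left, O)),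
          ∀ z (hz : z ∈ O), ratAt z (A.left.presheaf.germ O z hz s) = f := by
        intro y
        obtain ⟨t, ht⟩ := hden y (htop ▸ Opens.mem_top y)
        rw [map_one, _root_.one_mul] at ht
        obtain ⟨O, hyO, s, hs⟩ := A.left.presheaf.exists_germ_eq t
        exact ⟨O, hyO, s, fun z hz => by rw [ratAt_germ, ht, ← hs, ratAt_germ]⟩
      choose O hyO s hs using hreg
      obtain ⟨G, hG⟩ := exists_glue O (O := ⊤) (fun _ => le_top) (fun y _ => Opens.mem_iSup.2 ⟨y, hyO y⟩) s
        fun y y' => by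
          refine TopCat.Presheaf.section_ext A.left.sheaf _ _ _ fun z hz => ?_
          show A.left.presheaf.germ _ z hz (res inf_le_left (s y)) = A.left.presheaf.germ _ z hz (res inf_le_right (s y'))
          erw [TopCat.Presheaf.germ_res_apply, TopCat.Presheaf.germ_res_apply]
          exact IsFractionRing.injective (A.left.presheaf.stalk z) A.left.functionField
            ((hs y z hz.1).trans (hs y' z hz.2).symm)
      obtain ⟨t, ht⟩ := hA.2 G
      refine hf ⟨t, ?_⟩
      have e1 := hs η₀ η₀ (hyO η₀)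
      rw [← hG η₀, ← ht] at e1
      erw [TopCat.Presheaf.germ_res_apply, ratAt_germ] at e1
      rw [← e1]
      show (A.left.presheaf.germ ⊤ η₀ trivial).hom (cst A.hom ⊤ t) = _
      rw [show cst A.hom ⊤ t = ((Scheme.ΓSpecIso (CommRingCat.of K)).inv ≫ A.hom.appTop).hom t from by
        show (A.hom.appLE ⊤ ⊤ le_top).hom _ = _
        rw [show A.hom.appLE ⊤ ⊤ le_top = A.hom.appTop from Scheme.Hom.appLE_eq_app _]
        rfl]
    let ι' := ((𝟙 A)⁻¹ : A ⟶ A)
    have hinv : ι' ≫ ι' = 𝟙 A := by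
      show (𝟙 A)⁻¹ ≫ (𝟙 A)⁻¹ = 𝟙 A
      rw [GrpObj.comp_inv, Category.comp_id, inv_inv]
    have h1 : HasSec (cls c) (c.locus a) := ⟨c, a, rfl, rfl⟩
    set x := cls c
    let y := x * pull ι'.left x
    let U := c.locus a ⊓ ι'.left ⁻¹ᵁ c.locus a
    have hy : pull ι'.left y = y := by
      show pull ι'.left (x * pull ι'.left x) = x * pull ι'.left x
      rw [map_mul, pull_pull_over, hinv, pull_over_id, mul_comm]
    have hn' := pull_pow_of_symmetric hy n
    rw [h, pull_one_hom] at hn'
    obtain ⟨m, hm⟩ : ∃ m, n ^ 2 = m + 1 := ⟨n ^ 2 - 1, (Nat.succ_pred_eq_of_ne_zero (pow_ne_zero 2 hn)).symm⟩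
    have hsec := hasSec_pow (hasSec_mul h1 (hasSec_pull ι'.left h1)) m
    rw [← hm, show (cls c * pull ι'.left (cls c)) = y from rfl, ← hn'] at hsec
    rcases locus_eq_bot_or_top hA hsec with hU | hU
    · haveI : IsIso ι'.left :=
        ⟨ι'.left, by rw [← Over.comp_left, hinv, Over.id_left], by rw [← Over.comp_left, hinv, Over.id_left]⟩
      have hne : (c.locus a : Set A.left).Nonempty := by
        by_contra hne; exact hbot ((Opens.not_nonempty_iff_eq_bot _).1 hne)
      obtain ⟨q, hq1, hq2⟩ := nonempty_preirreducible_inter (c.locus a).isOpen (ι'.left ⁻¹ᵁ c.locus a).isOpen hne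
        (by
          obtain ⟨q, hq⟩ := hne
          refine ⟨ι'.left q, ?_⟩
          show ι'.left (ι'.left q) ∈ c.locus a
          rw [← Scheme.Hom.comp_apply, ← Over.comp_left, hinv]
          exact hq)
      exact absurd (show q ∈ c.locus a ⊓ ι'.left ⁻¹ᵁ c.locus a from ⟨hq1, hq2⟩) (by rw [hU]; exact id)
    · exact htop (top_le_iff.1 (hU ▸ inf_le_left))

end GrothLib.Cube
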