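import Groth.Agent.Lib.Cube.Global
import Groth.Agent.Lib.Cube.Torsion
import Groth.Agent.Lib.BCCoh.BaseModel
import Groth.Agent.Lib.BCCoh.GlobalSec
import Groth.Agent.Lib.FlatCx.Rank
import Groth.Agent.Lib.Euler.Coh
import Groth.Agent.Lib.ProjCoh.Finite
import Groth.Agent.Lib.Rigidity.Relative.Field

/-!
# The seesaw principle

A line bundle on a proper flat family with integral fibres, trivial on a dense set of fibres, is trivial on
every fibre.
-/

universe u

open CategoryTheory CategoryTheory.Limits Opposite TopologicalSpace AlgebraicGeometry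
open GrothLib.Ample

set_option backward.isDefEq.respectTransparency false

noncomputable section

namespace GrothLib.Cube

/-- A section of the trivial class vanishes everywhere or nowhere when global functions form a field. -/
theorem eq_bot_or_top_of_isField {X : Scheme.{u}} (hX : IsField Γ(X, ⊤)) {U : X.Opens} (h : HasSec (1 : Pic X) U) :
    U = ⊥ ∨ U = ⊤ := by
  obtain ⟨c, a, hc, rfl⟩ := h
  obtain ⟨α, hα⟩ := cls_eq_one_iff.1 hc
  choose w hw using fun i => (isUnit_component hα i (le_refl (c.D i))).exists_right_inv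
  obtain ⟨r, hr⟩ := exists_glue c.D (O := ⊤) (fun _ => le_top) c.cover.ge
    (fun i => res (le_inf le_top le_rfl) (a.1 i) * w i) (fun i k => by
      let O := c.D i ⊓ c.D k
      have e1 := c.sect_spec a i k (W := O) (le_inf le_top inf_le_left) (le_inf le_top inf_le_right)
      have e2 := c.sect_spec α i k (W := O) (le_inf le_top inf_le_left) (le_inf le_top inf_le_right)
      rw [pow_one] at e1 e2
      have wi := congrArg (res (inf_le_left : O ≤ c.D i)) (hw i)
      have wk := congrArg (res (inf_le_right : O ≤ c.D k)) (hw k)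
      simp only [map_mul, map_one, res_res] at wi wk
      simp only [map_mul, res_res]
      linear_combination (res (inf_le_left : O ≤ c.D i) (w i)) * e1 +
        (res (le_inf le_top inf_le_right : O ≤ ⊤ ⊓ c.D k) (a.1 k) * res (inf_le_right : O ≤ c.D k) (w k)) * wi -
        (res (le_inf le_top inf_le_right : O ≤ ⊤ ⊓ c.D k) (a.1 k) * res (inf_le_right : O ≤ c.D k) (w k) *
          res (inf_le_left : O ≤ c.D i) (w i)) * e2 -
        (c.G i k inf_le_left inf_le_right * res (le_inf le_top inf_le_right : O ≤ ⊤ ⊓ c.D k) (a.1 k) *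
          res (inf_le_left : O ≤ c.D i) (w i)) * wk)
  have hloc : ∀ i (q : X), q ∈ c.D i → (q ∈ c.locus a ↔ q ∈ X.basicOpen r) := by
    intro i q hq
    have e0 : res (le_inf le_top le_rfl : c.D i ≤ ⊤ ⊓ c.D i) (a.1 i) =
        res (le_top : c.D i ≤ ⊤) r * res (le_inf le_top le_rfl) (α.1 i) := by
      rw [hr i, _root_.mul_assoc, mul_comm (w i), hw i, _root_.mul_one]
    rw [c.mem_locus_iff a hq]
    have e1 : q ∈ X.basicOpen (a.1 i) ↔
        q ∈ X.basicOpen (res (le_inf le_top le_rfl : c.D i ≤ ⊤ ⊓ c.D i) (a.1 i)) := by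
      rw [Scheme.basicOpen_res]; exact ⟨fun h => ⟨hq, h⟩, fun h => h.2⟩
    rw [e1, e0, Scheme.basicOpen_mul, Scheme.basicOpen_of_isUnit _ (isUnit_component hα i (le_refl (c.D i)))]
    rw [Scheme.basicOpen_res]
    exact ⟨fun h => h.1.2, fun h => ⟨⟨hq, h⟩, hq⟩⟩
  by_cases h0 : r = 0
  · refine Or.inl (eq_bot_iff.2 fun q hq => ?_)
    obtain ⟨i, hi⟩ := c.exists_mem q
    have := (hloc i q hi).1 hq
    rw [h0, Scheme.basicOpen_zero] at this
    exact this
  · letI := hX.toField
    refine Or.inr (top_le_iff.1 fun q _ => ?_)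
    obtain ⟨i, hi⟩ := c.exists_mem q
    exact (hloc i q hi).2 ((Scheme.basicOpen_of_isUnit _ (isUnit_iff_ne_zero.2 h0)).ge trivial)

/-- On an integral scheme a nonzero section has nonempty nonvanishing locus. -/
theorem locus_ne_bot {X : Scheme.{u}} [IsReduced X] (c : Cocycle X) {a : c.sect 1 ⊤} (ha : a ≠ 0) :
    c.locus a ≠ ⊥ := fun h => ha (c.sect_ext fun i => by
  refine eq_zero_of_basicOpen_eq_bot _ (eq_bot_iff.2 ?_)
  rw [← c.locus_inf_D a i, h]
  exact inf_le_left)

/-- Over a field, an invertible sheaf with nonzero sections, whose inverse also has some, is trivial. -/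
theorem triv_of_sections {X : Scheme.{u}} [IsIntegral X] (hX : IsField Γ(X, ⊤)) (c d : Cocycle X)
    (h1 : cls d * cls c = 1) (h : ∃ a : c.sect 1 ⊤, a ≠ 0) (h' : ∃ b : d.sect 1 ⊤, b ≠ 0) : Triv c := by
  obtain ⟨a, ha⟩ := h
  obtain ⟨b, hb⟩ := h'
  have hprod : HasSec (cls d * cls c) (d.locus b ⊓ c.locus a) :=
    hasSec_mul ⟨d, b, rfl, rfl⟩ ⟨c, a, rfl, rfl⟩
  rw [h1] at hprod
  rcases eq_bot_or_top_of_isField hX hprod with hU | hU
  · have hne : ∀ {U : X.Opens}, U ≠ ⊥ → (U : Set X).Nonempty := fun hU0 => by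
      by_contra hne
      exact hU0 ((Opens.not_nonempty_iff_eq_bot _).1 hne)
    obtain ⟨q, hq⟩ := nonempty_preirreducible_inter (d.locus b).isOpen (c.locus a).isOpen
      (hne (locus_ne_bot _ hb)) (hne (locus_ne_bot _ ha))
    exact absurd (show q ∈ d.locus b ⊓ c.locus a from hq) (by rw [hU]; exact id)
  · exact ⟨a, top_le_iff.1 (hU.ge.trans inf_le_right)⟩

theorem nontrivial_sections_of_triv {X : Scheme.{u}} [Nonempty X] {c : Cocycle X} (h : Triv c) :
    ∃ a : c.sect 1 ⊤, a ≠ 0 := by
  obtain ⟨a, ha⟩ := h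
  refine ⟨a, fun h0 => ?_⟩
  obtain ⟨q⟩ := (inferInstance : Nonempty X)
  obtain ⟨i, hi⟩ := c.exists_mem q
  have hq : q ∈ c.locus a := ha ▸ trivial
  rw [c.mem_locus_iff a hi, h0, show (0 : c.sect 1 ⊤).1 i = 0 from rfl, Scheme.basicOpen_zero] at hq
  exact hq

theorem triv_inv {X : Scheme.{u}} {c : Cocycle X} (h : Triv c) : Triv (inv c) := by
  rw [← cls_eq_one_iff] at h ⊢
  have h1 : cls (inv c) * cls c = 1 := by rw [← cls_prod]; exact Quotient.sound (eqv_prod_inv c)
  rwa [h, _root_.mul_one] at h1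

theorem flat_twist {P Z : Scheme.{u}} (f : P ⟶ Z) [Flat f] (c : Cocycle P) :
    FlatMod.IsFlatOver f (c.twist 1) := by
  intro x
  obtain ⟨V, hV, hxV, -⟩ := exists_isAffineOpen_mem_and_subset (show f.base x ∈ (⊤ : Z.Opens) from trivial)
  obtain ⟨i, hi⟩ := c.exists_mem x
  obtain ⟨U, hU, hxU, e⟩ := exists_isAffineOpen_mem_and_subset (show x ∈ f ⁻¹ᵁ V ⊓ c.D i from ⟨hxV, hi⟩)
  have eV : U ≤ f ⁻¹ᵁ V := e.trans inf_le_left
  have eD : U ≤ c.D i := e.trans inf_le_right
  haveI : (c.twist 1).IsQuasicoherent := InvExt.isQuasicoherent_of_isInvertible (c.isInvertible_twist 1)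
  letI : Algebra Γ(Z, V) Γ(P, U) := (f.appLE V U eV).hom.toAlgebra
  letI : Module Γ(Z, V) Γ(c.twist 1, U) := Module.compHom _ (f.appLE V U eV).hom
  haveI : IsScalarTower Γ(Z, V) Γ(P, U) Γ(c.twist 1, U) := IsScalarTower.of_algebraMap_smul fun _ _ => rfl
  haveI : Module.Flat Γ(Z, V) Γ(P, U) := HasRingHomProperty.appLE @Flat f inferInstance ⟨V, hV⟩ ⟨U, hU⟩ eV
  let m : Γ(c.twist 1, U) := c.base 1 i eD
  have hgen : Function.Bijective (LinearMap.toSpanSingleton Γ(P, U) Γ(c.twist 1, U) m) := by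
    have h := c.isGen_base 1 i eD U le_rfl
    have e : InvExt.mres (c.twist 1) (le_refl U) m = m := c.sectRes_base 1 i eD le_rfl
    have e2 : (fun r : Γ(P, U) => r • InvExt.mres (c.twist 1) (le_refl U) m) = fun r => r • m :=
      funext fun r => congrArg (r • ·) e
    show Function.Bijective (fun r : Γ(P, U) => r • m)
    rw [← e2]
    exact h
  haveI : Module.Flat Γ(Z, V) Γ(c.twist 1, U) :=
    Module.Flat.of_linearEquiv ((LinearEquiv.ofBijective _ hgen).restrictScalars Γ(Z, V)).symm
  rw [FlatFP.isFlatOverAt_iff f (c.twist 1) hV hU eV hxU rfl]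
  exact FlatModel.flat_localizedModule _

section

variable {A : Type u} [CommRing A] [IsNoetherianRing A] {P : Scheme.{u}}
  (f : P ⟶ Spec (CommRingCat.of A)) [IsProper f] [Flat f]

theorem finrank_pos_iff (c : Cocycle P) (y : Spec (CommRingCat.of A)) :
    0 < CohIII.fiberRank f (c.twist 1) 0 y ↔ ∃ a : (c.comap (f.fiberι y)).sect 1 ⊤, a ≠ 0 := by
  let κ := (Spec (CommRingCat.of A)).residueField y
  letI : (f.fiber y).Over (Spec (CommRingCat.of κ)) := ⟨f.fiberToSpecResidueField y⟩
  haveI : IsProper ((f.fiber y) ↘ Spec (CommRingCat.of κ)) :=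
    inferInstanceAs (IsProper (pullback.snd f ((Spec (CommRingCat.of A)).fromSpecResidueField y)))
  have hcoh : Coh.IsCoh ((Scheme.Modules.pullback (f.fiberι y)).obj (c.twist 1)) :=
    Euler.isCoh_of_isInvertible (isInvertible_pullback (f.fiberι y) (c.isInvertible_twist 1))
  haveI : Module.Finite κ (CohIII.fiberH f (c.twist 1) y 0) :=
    ProjCoh.moduleFinite_HH (X := f.fiber y) κ _ hcoh 0
  show 0 < Module.finrank κ (CohIII.fiberH f (c.twist 1) y 0) ↔ _
  rw [Module.finrank_pos_iff]
  obtain ⟨e⟩ := c.nonempty_pullback_twist (f.fiberι y) 1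
  let e₀ : CohIII.fiberH f (c.twist 1) y 0 ≃ (c.comap (f.fiberι y)).sect 1 ⊤ :=
    ((show Coh.HH (f.fiber y) ((Scheme.Modules.pullback (f.fiberι y)).obj (c.twist 1)) 0 ≃+
      Γ((Scheme.Modules.pullback (f.fiberι y)).obj (c.twist 1), ⊤) from
        Sheaf.H.equiv₀ (Coh.toAb _) (T := (⊤ : (f.fiber y).Opens)) isTerminalTop).toEquiv.trans
      (((SheafOfModules.toSheaf _ ⋙ sheafToPresheaf _ _ ⋙ (evaluation _ _).obj (op ⊤)).mapIso
        e).addCommGroupIsoToAddEquiv.toEquiv))
  rw [e₀.nontrivial_congr]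
  exact ⟨fun _ => exists_ne 0, fun ⟨a, ha⟩ => ⟨a, 0, ha⟩⟩

theorem le_fiberRank_of_dense (c : Cocycle P) {D : Set (Spec (CommRingCat.of A))} (hD : Dense D)
    (h : ∀ y ∈ D, Triv (c.comap (f.fiberι y))) (hne : ∀ y : Spec (CommRingCat.of A), Nonempty ↥(f.fiber y))
    (y : Spec (CommRingCat.of A)) : 0 < CohIII.fiberRank f (c.twist 1) 0 y := by
  haveI : (c.twist 1).IsQuasicoherent := InvExt.isQuasicoherent_of_isInvertible (c.isInvertible_twist 1)
  obtain ⟨m⟩ := BCCoh.nonempty_model f (c.twist 1) (Euler.isCoh_of_isInvertible (c.isInvertible_twist 1))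
    (flat_twist f c)
  let S : Set (PrimeSpectrum A) := CohIII.dRank m.L ((0 : ℕ) : ℤ) ⁻¹' Set.Ici 1
  have hS : IsClosed S :=
    (FlatCx.upperSemicontinuous_dRank m.L (fun i =>
      haveI := (m.finFree i).2; ⟨(m.finFree i).1, inferInstance⟩) _).isClosed_preimage 1
  have hclosed : D ⊆ S := fun x hx => by
    show 1 ≤ CohIII.dRank m.L ((0 : ℕ) : ℤ) x
    haveI := hne x
    rw [← m.fiberRank_eq ‹_› 0 x]
    exact (finrank_pos_iff f c x).2 (nontrivial_sections_of_triv (h x hx))
  have huniv : S = Set.univ := Set.univ_subset_iff.1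
    (hD.closure_eq.ge.trans (hS.closure_subset_iff.2 hclosed))
  rw [m.fiberRank_eq ‹_› 0 y]
  exact huniv.ge (Set.mem_univ y)

/-- Trivial on a dense set of fibres implies trivial on all fibres. -/
theorem triv_fibre_of_dense (hint : ∀ y : Spec (CommRingCat.of A), IsIntegral (f.fiber y)) (c : Cocycle P)
    {D : Set (Spec (CommRingCat.of A))} (hD : Dense D) (h : ∀ y ∈ D, Triv (c.comap (f.fiberι y)))
    (y : Spec (CommRingCat.of A)) : Triv (c.comap (f.fiberι y)) := by
  haveI := hint y
  have hne : ∀ y, Nonempty ↥(f.fiber y) := fun y => by haveI := hint y; infer_instance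
  haveI : UniversallyClosed (f.fiberToSpecResidueField y) :=
    MorphismProperty.pullback_snd f ((Spec (CommRingCat.of A)).fromSpecResidueField y) inferInstance
  have hfield := Rigidity.isField_appTop_of_universallyClosed (K := (Spec (CommRingCat.of A)).residueField y)
    (f.fiberToSpecResidueField y)
  refine triv_of_sections hfield _ ((inv c).comap (f.fiberι y)) (by
      rw [← pull_cls, ← pull_cls, ← map_mul, ← cls_prod, show cls ((inv c).prod c) = 1 from Quotient.sound (eqv_prod_inv c),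
        map_one]) ((finrank_pos_iff f c y).1 (le_fiberRank_of_dense f c hD h hne y)) ?_
  have h1 := (finrank_pos_iff f (inv c) y).1 (le_fiberRank_of_dense f (inv c) hD (fun z hz => by
    have hz' := h z hz
    rw [← cls_eq_one_iff, ← pull_cls] at hz'
    rw [← cls_eq_one_iff, ← pull_cls]
    have h1 : cls (inv c) * cls c = 1 := by rw [← cls_prod]; exact Quotient.sound (eqv_prod_inv c)
    have := congrArg (pull (f.fiberι z)) h1
    rwa [map_mul, hz', map_one, _root_.mul_one] at this) hne y)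
  exact h1

end

/-- Trivial on a dense set of fibres implies trivial on all fibres, for a locally Noetherian base. -/
theorem triv_fibre_of_dense' {P Z : Scheme.{u}} (p : P ⟶ Z) [IsLocallyNoetherian Z] [IsProper p] [Flat p]
    (c : Cocycle P) (hint : ∀ (K : Type u) [Field K] (g : Spec (CommRingCat.of K) ⟶ Z), IsIntegral (pullback p g))
    {D : Set Z} (hD : Dense D) (hcl : ∀ z ∈ D, Triv (c.comap (p.fiberι z))) (z : Z) :
    Triv (c.comap (p.fiberι z)) := by
  obtain ⟨V, hV, hzV, -⟩ := exists_isAffineOpen_mem_and_subset (show z ∈ (⊤ : Z.Opens) from trivial)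
  let A := Γ(Z, V)
  let g : Spec (CommRingCat.of A) ⟶ Z := hV.fromSpec
  haveI : IsNoetherianRing A := IsLocallyNoetherian.component_noetherian ⟨V, hV⟩
  let π : pullback p g ⟶ P := pullback.fst p g
  let f : pullback p g ⟶ Spec (CommRingCat.of A) := pullback.snd p g
  haveI : IsProper f := inferInstanceAs (IsProper (pullback.snd p g))
  haveI : Flat f := inferInstanceAs (Flat (pullback.snd p g))
  have hintf : ∀ y, IsIntegral (f.fiber y) := fun y => by
    haveI := hint ((Spec (CommRingCat.of A)).residueField y) ((Spec (CommRingCat.of A)).fromSpecResidueField y ≫ g)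
    let e := pullbackLeftPullbackSndIso p g ((Spec (CommRingCat.of A)).fromSpecResidueField y)
    haveI : Nonempty ↥(f.fiber y) := ⟨e.inv (Classical.arbitrary _)⟩
    exact isIntegral_of_isOpenImmersion e.hom
  have hall := triv_fibre_of_dense f hintf (c.comap π) (hD.preimage g.isOpenEmbedding.isOpenMap) fun y hy => by
    let j : f.fiber y ⟶ p.fiber (g y) :=
      pullback.lift (f.fiberι y ≫ π) (f.fiberToSpecResidueField y ≫ Spec.map (g.residueFieldMap y)) (by
        rw [Category.assoc, Category.assoc, Scheme.Hom.SpecMap_residueFieldMap_fromSpecResidueField,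
          pullback.condition, ← Category.assoc, Scheme.Hom.fiber_fac, Category.assoc])
    rw [← cls_eq_one_iff, ← pull_cls, ← pull_cls, pull_comp,
      show f.fiberι y ≫ π = j ≫ p.fiberι (g y) from (pullback.lift_fst _ _ _).symm, ← pull_comp,
      pull_cls _ c, cls_eq_one_iff.2 (hcl _ hy), map_one]
  let t₀ : Spec (Z.residueField z) ⟶ Spec (CommRingCat.of A) :=
    IsOpenImmersion.lift g (Z.fromSpecResidueField z) (by
      rintro _ ⟨s, rfl⟩
      erw [hV.range_fromSpec]
      rw [Scheme.fromSpecResidueField_apply]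
      exact hzV)
  obtain ⟨⟨y, φ⟩, hy⟩ := (Scheme.SpecToEquivOfField (Z.residueField z) (Spec (CommRingCat.of A))).symm.surjective t₀
  have hy' : Spec.map φ ≫ (Spec (CommRingCat.of A)).fromSpecResidueField y = t₀ := hy
  have ht : (Spec.map φ ≫ (Spec (CommRingCat.of A)).fromSpecResidueField y) ≫ g = Z.fromSpecResidueField z := by
    rw [hy']; exact IsOpenImmersion.lift_fac _ _ _
  let j : p.fiber z ⟶ f.fiber y :=
    pullback.lift (pullback.lift (p.fiberι z)
        (p.fiberToSpecResidueField z ≫ Spec.map φ ≫ (Spec (CommRingCat.of A)).fromSpecResidueField y) (by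
        rw [Scheme.Hom.fiber_fac, Category.assoc, ht]))
      (p.fiberToSpecResidueField z ≫ Spec.map φ) (by
        rw [pullback.lift_snd, Category.assoc])
  have hj : p.fiberι z = j ≫ f.fiberι y ≫ π := by
    rw [← Category.assoc]
    erw [pullback.lift_fst, pullback.lift_fst]
  rw [← cls_eq_one_iff, ← pull_cls, hj, ← pull_comp, ← pull_comp, pull_cls _ c, pull_cls _ (c.comap π),
    cls_eq_one_iff.2 (hall y), map_one]

/-- A line bundle trivial on a dense set of fibres and along a section, over a normal base, is trivial. -/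
theorem triv_of_dense_fibres {P Z : Scheme.{u}} {p : P ⟶ Z} {ε : Z ⟶ P} {c : Cocycle P} [IsIntegral Z]
    [IsLocallyNoetherian Z] [IsProper p] [Flat p]
    (hεp : ε ≫ p = 𝟙 Z) (hnorm : ∀ z : Z, IsIntegrallyClosed (Z.presheaf.stalk z))
    (hint : ∀ (K : Type u) [Field K] (g : Spec (CommRingCat.of K) ⟶ Z), IsIntegral (pullback p g))
    (hconst : ∀ V : Z.Opens, IsAffineOpen V → Function.Surjective (p.app V).hom)
    {D : Set Z} (hD : Dense D) (hcl : ∀ z ∈ D, Triv (c.comap (p.fiberι z))) (hε : Triv (c.comap ε)) : Triv c := by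
  refine triv_of_generic hεp hnorm hint hconst ?_ hε
  let η := genericPoint Z
  obtain ⟨⟨y, φ⟩, hy⟩ :=
    (Scheme.SpecToEquivOfField Z.functionField Z).symm.surjective (Z.fromSpecStalk η)
  have hy' : Spec.map φ ≫ Z.fromSpecResidueField y = Z.fromSpecStalk η := hy
  let j : pullback p (Z.fromSpecStalk η) ⟶ p.fiber y :=
    pullback.lift (pullback.fst p _) (pullback.snd p (Z.fromSpecStalk η) ≫ Spec.map φ)
      (by rw [pullback.condition, Category.assoc, hy'])
  have hj : pullback.fst p (Z.fromSpecStalk η) = j ≫ p.fiberι y := (pullback.lift_fst _ _ _).symm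
  rw [← cls_eq_one_iff, ← pull_cls, hj, ← pull_comp, pull_cls _ c,
    cls_eq_one_iff.2 (triv_fibre_of_dense' p c hint hD hcl y), map_one]

end GrothLib.Cube
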