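import Groth.Agent.Lib.Cube.Base
import Groth.Agent.Lib.DVRDom.Exists
import Mathlib.AlgebraicGeometry.Morphisms.FinitePresentation
import Mathlib.AlgebraicGeometry.Morphisms.UniversallyOpen
import Mathlib.AlgebraicGeometry.FunctionField

/-!
# The theorem of the cube over the generic point

A cocycle on `X × Y × Z` trivial on the three coordinate slices is trivial over the generic point of `Z`.
-/

universe u

open CategoryTheory CategoryTheory.Limits Opposite TopologicalSpace AlgebraicGeometry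
open MonoidalCategory CartesianMonoidalCategory
open GrothLib.Ample

set_option backward.isDefEq.respectTransparency false

noncomputable section

namespace GrothLib.Cube

variable {k : Type u} [Field k]

theorem comap_comp {X Y Z : Scheme.{u}} (c : Cocycle X) (a : Z ⟶ Y) (b : Y ⟶ X) :
    (c.comap b).comap a = c.comap (a ≫ b) := by
  unfold Cocycle.comap
  congr 1
  funext i k
  show (a.appLE _ _ _).hom ((b.appLE _ _ _).hom (c.g i k)) = _
  rw [← CommRingCat.comp_apply, Scheme.Hom.appLE_comp_appLE]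
  rfl

theorem triv_comap_comp {X Y Z : Scheme.{u}} {c : Cocycle X} (a : Z ⟶ Y) {b : Y ⟶ X} (h : Triv (c.comap b)) :
    Triv (c.comap (a ≫ b)) := comap_comp c a b ▸ triv_comap a h

variable {F : Type u} [Field F] (Th : Spec (CommRingCat.of F) ⟶ Spec (CommRingCat.of k))
  (X : Over (Spec (CommRingCat.of k)))

/-- Base change to a field extension. -/
abbrev bc : Over (Spec (CommRingCat.of F)) := Over.mk (snd X (Over.mk Th)).left

theorem isProper_bc [IsProper X.hom] : IsProper (bc Th X).hom :=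
  inferInstanceAs (IsProper (pullback.snd X.hom Th))

theorem flat_snd_left (X T : Over (Spec (CommRingCat.of k))) : Flat (snd X T).left :=
  inferInstanceAs (Flat (pullback.snd X.hom T.hom))

theorem isProper_snd_left (X T : Over (Spec (CommRingCat.of k))) [IsProper X.hom] : IsProper (snd X T).left :=
  inferInstanceAs (IsProper (pullback.snd X.hom T.hom))

theorem isIntegral_bc [IsProper X.hom] [GeometricallyIntegral X.hom] : IsIntegral (bc Th X).left :=
  inferInstanceAs (IsIntegral (pullback X.hom Th))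

/-- Rational points after base change. -/
def bcPoint (x₀ : 𝟙_ (Over (Spec (CommRingCat.of k))) ⟶ X) : 𝟙_ _ ⟶ bc Th X :=
  Over.homMk (lift (toUnit (Over.mk Th) ≫ x₀) (𝟙 (Over.mk Th))).left
    (by
      show (lift (toUnit (Over.mk Th) ≫ x₀) (𝟙 (Over.mk Th))).left ≫ (snd X (Over.mk Th)).left = _
      rw [← Over.comp_left, lift_snd]
      rfl)

theorem isAntiAffine_bc [IsProper X.hom] [GeometricallyIntegral X.hom]
    (x₀ : 𝟙_ (Over (Spec (CommRingCat.of k))) ⟶ X) : AntiAffine.IsAntiAffine (bc Th X) :=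
  haveI := isProper_bc Th X
  haveI := isIntegral_bc Th X
  isAntiAffine_of_point (bcPoint Th X x₀)

theorem isAntiAffine_of_proper [IsProper X.hom] [GeometricallyIntegral X.hom]
    (x₀ : 𝟙_ (Over (Spec (CommRingCat.of k))) ⟶ X) : AntiAffine.IsAntiAffine X :=
  haveI : IsIntegral X.left := GeometricallyIntegral.isIntegral_of_subsingleton X.hom
  isAntiAffine_of_point x₀

variable {X}
variable {Y : Over (Spec (CommRingCat.of k))}

/-- The product of the base changes is the base change of the product. -/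
def bcProdHom (X Y : Over (Spec (CommRingCat.of k))) :
    (bc Th X ⊗ bc Th Y).left ⟶ ((X ⊗ Y) ⊗ Over.mk Th).left :=
  (isPullback_whiskerRight_fst_left X Y (Over.mk Th)).isoPullback.inv

instance (X Y : Over (Spec (CommRingCat.of k))) : IsIso (bcProdHom Th X Y) :=
  inferInstanceAs (IsIso (Iso.inv _))

theorem bcProdHom_fst : bcProdHom Th X Y ≫ (fst X Y ▷ Over.mk Th).left = (fst (bc Th X) (bc Th Y)).left :=
  (isPullback_whiskerRight_fst_left X Y (Over.mk Th)).isoPullback_inv_fst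

theorem bcProdHom_snd : bcProdHom Th X Y ≫ (snd X Y ▷ Over.mk Th).left = (snd (bc Th X) (bc Th Y)).left :=
  (isPullback_whiskerRight_fst_left X Y (Over.mk Th)).isoPullback_inv_snd

theorem bcPoint_left (x₀ : 𝟙_ (Over (Spec (CommRingCat.of k))) ⟶ X) :
    (bcPoint Th X x₀).left = (lift (toUnit (Over.mk Th) ≫ x₀) (𝟙 (Over.mk Th))).left := rfl

theorem lift_bc_fst (y₀ : 𝟙_ (Over (Spec (CommRingCat.of k))) ⟶ Y) :
    (lift (𝟙 (bc Th X)) (toUnit (bc Th X) ≫ bcPoint Th Y y₀)).left ≫ bcProdHom Th X Y =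
      (lift (𝟙 X) (toUnit X ≫ y₀) ▷ Over.mk Th).left := by
  apply (isPullback_whiskerRight_fst_left X Y (Over.mk Th)).hom_ext
  · rw [Category.assoc, bcProdHom_fst, ← Over.comp_left, lift_fst, ← Over.comp_left, ← comp_whiskerRight, lift_fst,
      id_whiskerRight]
    rfl
  · rw [Category.assoc, bcProdHom_snd, ← Over.comp_left, lift_snd, ← Over.comp_left, ← comp_whiskerRight, lift_snd,
      Over.comp_left, bcPoint_left]
    show (snd X (Over.mk Th)).left ≫ _ = _
    rw [← Over.comp_left]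
    congr 1
    ext1
    · simp
    · simp

theorem lift_bc_snd (x₀ : 𝟙_ (Over (Spec (CommRingCat.of k))) ⟶ X) :
    (lift (toUnit (bc Th Y) ≫ bcPoint Th X x₀) (𝟙 (bc Th Y))).left ≫ bcProdHom Th X Y =
      (lift (toUnit Y ≫ x₀) (𝟙 Y) ▷ Over.mk Th).left := by
  apply (isPullback_whiskerRight_fst_left X Y (Over.mk Th)).hom_ext
  · rw [Category.assoc, bcProdHom_fst, ← Over.comp_left, lift_fst, ← Over.comp_left, ← comp_whiskerRight, lift_fst,
      Over.comp_left, bcPoint_left]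
    show (snd Y (Over.mk Th)).left ≫ _ = _
    rw [← Over.comp_left]
    congr 1
    ext1
    · simp
    · simp
  · rw [Category.assoc, bcProdHom_snd, ← Over.comp_left, lift_snd, ← Over.comp_left, ← comp_whiskerRight, lift_snd,
      id_whiskerRight]
    rfl

theorem sCob_pull_pull {P P' P'' : Scheme.{u}} {κ : Type u} {W : κ → P.Opens} {h : ∀ a b, Γ(P, W a ⊓ W b)}
    {i : P'' ⟶ P'} {j : P' ⟶ P} {σ : P'' ⟶ P} (e : i ≫ j = σ) (hs : SCob (fun a => σ ⁻¹ᵁ W a) (spull σ W h)) :
    SCob (fun a => i ⁻¹ᵁ (j ⁻¹ᵁ W a)) (spull i (fun a => j ⁻¹ᵁ W a) (spull j W h)) := by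
  subst e
  rw [spull_spull]
  exact hs

/-- Classes on the base changed product are detected by the slices, for `Y` with only constant functions. -/
theorem sCob_of_slices' [IsProper X.hom] [GeometricallyIntegral X.hom] [IsProper Y.hom]
    (hY : AntiAffine.IsAntiAffine (bc Th Y))
    (x₀ : 𝟙_ (Over (Spec (CommRingCat.of k))) ⟶ X) (y₀ : 𝟙_ (Over (Spec (CommRingCat.of k))) ⟶ Y)
    {κ : Type u} {U : κ → ((X ⊗ Y) ⊗ Over.mk Th).left.Opens} (hU : ⨆ a, U a = ⊤) {h} (hh : SCoc U h)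
    (hy : SCob (fun a => (lift (𝟙 X) (toUnit X ≫ y₀) ▷ Over.mk Th).left ⁻¹ᵁ U a)
      (spull (lift (𝟙 X) (toUnit X ≫ y₀) ▷ Over.mk Th).left U h))
    (hx : SCob (fun a => (lift (toUnit Y ≫ x₀) (𝟙 Y) ▷ Over.mk Th).left ⁻¹ᵁ U a)
      (spull (lift (toUnit Y ≫ x₀) (𝟙 Y) ▷ Over.mk Th).left U h)) :
    SCob U h := by
  haveI := isProper_bc Th X
  haveI := isProper_bc Th Y
  refine sCob_of_spull_isIso (j := bcProdHom Th X Y) ?_
  exact sCob_of_axes (isAntiAffine_bc Th X x₀) (surjective_appTop_of_isAntiAffine hY)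
    (bcPoint Th X x₀) (bcPoint Th Y y₀) (W := fun a => bcProdHom Th X Y ⁻¹ᵁ U a)
    ((Scheme.Hom.preimage_iSup _ _).symm.trans ((congrArg _ hU).trans (Scheme.Hom.preimage_top _)))
    (sCoc_spull hh _)
    (sCob_pull_pull (lift_bc_snd Th x₀) hx)
    (sCob_pull_pull (lift_bc_fst Th y₀) hy)

/-- Classes on the base changed product are detected by the slices. -/
theorem sCob_of_slices [IsProper X.hom] [GeometricallyIntegral X.hom] [IsProper Y.hom] [GeometricallyIntegral Y.hom]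
    (x₀ : 𝟙_ (Over (Spec (CommRingCat.of k))) ⟶ X) (y₀ : 𝟙_ (Over (Spec (CommRingCat.of k))) ⟶ Y)
    {κ : Type u} {U : κ → ((X ⊗ Y) ⊗ Over.mk Th).left.Opens} (hU : ⨆ a, U a = ⊤) {h} (hh : SCoc U h)
    (hy : SCob (fun a => (lift (𝟙 X) (toUnit X ≫ y₀) ▷ Over.mk Th).left ⁻¹ᵁ U a)
      (spull (lift (𝟙 X) (toUnit X ≫ y₀) ▷ Over.mk Th).left U h))
    (hx : SCob (fun a => (lift (toUnit Y ≫ x₀) (𝟙 Y) ▷ Over.mk Th).left ⁻¹ᵁ U a)
      (spull (lift (toUnit Y ≫ x₀) (𝟙 Y) ▷ Over.mk Th).left U h)) :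
    SCob U h := by
  exact sCob_of_slices' Th (isAntiAffine_bc Th Y y₀) x₀ y₀ hU hh hy hx

section Main

variable {X Y Z : Over (Spec (CommRingCat.of k))}

/-- Restriction of a cocycle on `X × Y × Z` to the slice `X × {y₀} × Z`, pulled back to `T`. -/
theorem triv_slice_comap {c : Cocycle ((X ⊗ Y) ⊗ Z).left} {A : Over (Spec (CommRingCat.of k))} (f : A ⟶ X ⊗ Y)
    (hc : Triv (c.comap (f ▷ Z).left)) {T : Over (Spec (CommRingCat.of k))} (g : T ⟶ Z) :
    Triv ((c.comap ((X ⊗ Y) ◁ g).left).comap (f ▷ T).left) := by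
  rw [comap_comp, ← Over.comp_left, ← whisker_exchange, Over.comp_left]
  exact triv_comap_comp _ hc

theorem triv_comap_const {c : Cocycle ((X ⊗ Y) ⊗ Z).left} (z₀ : 𝟙_ _ ⟶ Z)
    (hz : Triv (c.comap (lift (𝟙 (X ⊗ Y)) (toUnit (X ⊗ Y) ≫ z₀)).left))
    {T : Over (Spec (CommRingCat.of k))} {g : T ⟶ Z} (h : g = toUnit T ≫ z₀) :
    Triv (c.comap ((X ⊗ Y) ◁ g).left) := by
  have e : (X ⊗ Y) ◁ g = fst (X ⊗ Y) T ≫ lift (𝟙 (X ⊗ Y)) (toUnit (X ⊗ Y) ≫ z₀) := by
    subst h
    ext1
    · simp only [Category.assoc, whiskerLeft_fst, lift_fst, Category.comp_id]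
    · simp only [Category.assoc, whiskerLeft_snd, lift_snd, comp_toUnit_assoc]
  rw [e, Over.comp_left]
  exact triv_comap_comp _ hz

/-- The three-slice criterion over a discrete valuation ring mapping to `Z`, centred at the rational point, for `Y` with only constant functions. -/
theorem triv_over_dvr' [IsProper X.hom] [GeometricallyIntegral X.hom] [IsProper Y.hom]
    (hY : ∀ (F : Type u) [Field F] (Th : Spec (CommRingCat.of F) ⟶ Spec (CommRingCat.of k)),
      AntiAffine.IsAntiAffine (bc Th Y))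
    (hY₀ : AntiAffine.IsAntiAffine Y)
    (x₀ : 𝟙_ (Over (Spec (CommRingCat.of k))) ⟶ X) (y₀ : 𝟙_ (Over (Spec (CommRingCat.of k))) ⟶ Y)
    (z₀ : 𝟙_ (Over (Spec (CommRingCat.of k))) ⟶ Z) (c : Cocycle ((X ⊗ Y) ⊗ Z).left)
    (hy : Triv (c.comap (lift (𝟙 X) (toUnit X ≫ y₀) ▷ Z).left))
    (hx : Triv (c.comap (lift (toUnit Y ≫ x₀) (𝟙 Y) ▷ Z).left))
    (hz : Triv (c.comap (lift (𝟙 (X ⊗ Y)) (toUnit (X ⊗ Y) ≫ z₀)).left))
    {R : Type u} [CommRing R] [IsDomain R] [IsDiscreteValuationRing R]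
    (Rh : Spec (CommRingCat.of R) ⟶ Spec (CommRingCat.of k)) (g : Over.mk Rh ⟶ Z)
    (hg : g.left (IsLocalRing.closedPoint R) = z₀.left (IsLocalRing.closedPoint k)) :
    Triv (c.comap ((X ⊗ Y) ◁ g).left) := by
  obtain ⟨π, hπ⟩ := IsDiscreteValuationRing.exists_irreducible R
  have hker : RingHom.ker (IsLocalRing.residue R) = Ideal.span {π} := by
    rw [IsLocalRing.ker_residue]; exact (IsDiscreteValuationRing.irreducible_iff_uniformizer π).1 hπ
  let Th : Spec (CommRingCat.of (IsLocalRing.ResidueField R)) ⟶ Spec (CommRingCat.of k) :=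
    Spec.map (CommRingCat.ofHom (IsLocalRing.residue R)) ≫ Rh
  let i : Over.mk Th ⟶ Over.mk Rh := Over.homMk (Spec.map (CommRingCat.ofHom (IsLocalRing.residue R))) rfl
  have hig : i ≫ g = toUnit (Over.mk Th) ≫ z₀ := by
    refine eq_toUnit_comp_of_apply z₀ Th (i ≫ g) ?_
    rw [← hg]
    show g.left ((Spec.map (CommRingCat.ofHom (IsLocalRing.residue R))) _) = _
    congr 1
    exact PrimeSpectrum.ext (IsLocalRing.comap_closedPoint (IsLocalRing.residue R) ▸ rfl)
  let f := (snd (X ⊗ Y) (Over.mk Rh)).left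
  haveI : IsProper (X ⊗ Y).hom := inferInstanceAs (IsProper (pullback.fst X.hom Y.hom ≫ X.hom))
  haveI : IsProper f := isProper_snd_left (X ⊗ Y) (Over.mk Rh)
  haveI : Flat f := flat_snd_left (X ⊗ Y) (Over.mk Rh)
  let σX := lift (𝟙 X) (toUnit X ≫ y₀) ▷ Over.mk Rh
  let σY := lift (toUnit Y ≫ x₀) (𝟙 Y) ▷ Over.mk Rh
  have eX : σX.left ≫ f = (snd X (Over.mk Rh)).left := by
    rw [← Over.comp_left, whiskerRight_snd]
  have eY : σY.left ≫ f = (snd Y (Over.mk Rh)).left := by
    rw [← Over.comp_left, whiskerRight_snd]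
  haveI : IsSeparated ((X ⊗ Y) ⊗ Over.mk Rh).hom := by
    show IsSeparated (pullback.fst (X ⊗ Y).hom Rh ≫ (X ⊗ Y).hom)
    infer_instance
  have hcX : IsClosedImmersion σX.left := by
    refine isClosedImmersion_of_section σX (fst X Y ▷ Over.mk Rh) ?_
    rw [← Over.comp_left, ← comp_whiskerRight, lift_fst, id_whiskerRight, Over.id_left]
    infer_instance
  have hcY : IsClosedImmersion σY.left := by
    refine isClosedImmersion_of_section σY (snd X Y ▷ Over.mk Rh) ?_
    rw [← Over.comp_left, ← comp_whiskerRight, lift_snd, id_whiskerRight, Over.id_left]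
    infer_instance
  let A : Bool → Over (Spec (CommRingCat.of k)) := fun b => cond b X Y
  let a : ∀ b, A b ⟶ X ⊗ Y := fun b => match b with
    | true => lift (𝟙 X) (toUnit X ≫ y₀)
    | false => lift (toUnit Y ≫ x₀) (𝟙 Y)
  let σ : ∀ b, (A b ⊗ Over.mk Rh).left ⟶ ((X ⊗ Y) ⊗ Over.mk Rh).left := fun b => (a b ▷ Over.mk Rh).left
  have eσ : ∀ b, σ b ≫ f = (snd (A b) (Over.mk Rh)).left := fun b => by
    rw [← Over.comp_left, whiskerRight_snd]
  haveI : ∀ b, IsAffineHom (σ b) := fun b => by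
    have : IsClosedImmersion (σ b) := by cases b; exacts [hcY, hcX]
    infer_instance
  haveI : ∀ b, Flat (σ b ≫ f) := fun b => by rw [eσ b]; exact flat_snd_left _ _
  refine triv_of_slices (L := IsLocalRing.ResidueField R) (φ := IsLocalRing.residue R) (π := π) (f := f)
    (isPullback_whiskerLeft_left (X ⊗ Y) i) IsLocalRing.residue_surjective hker
    (isRegular_of_ne_zero hπ.ne_zero).right
    (by
      rw [IsLocalRing.jacobson_eq_maximalIdeal ⊥ bot_ne_top]
      exact hπ.not_isUnit)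
    (c.comap ((X ⊗ Y) ◁ g).left) ?_ (fun b => (A b ⊗ Over.mk Rh).left) (fun b => (A b ⊗ Over.mk Th).left) σ
    (fun b => (A b ◁ i).left) (fun b => (snd (A b) (Over.mk Th)).left) (fun b => ?_) (fun b => ?_) (fun b => ?_)
    (fun b => (a b ▷ Over.mk Th).left) (fun b => ?_) ?_
  · rw [comap_comp, ← Over.comp_left, ← MonoidalCategory.whiskerLeft_comp, hig]
    exact triv_comap_const z₀ hz rfl
  · rw [eσ b]
    exact isPullback_whiskerLeft_left (A b) i
  · have hA : AntiAffine.IsAntiAffine (A b) := by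
      cases b
      exacts [hY₀, isAntiAffine_of_proper (X := X) x₀]
    haveI : IsProper (A b).hom := by cases b <;> assumption
    haveI : IsAffine (Over.mk Th).left := inferInstanceAs (IsAffine (Spec _))
    haveI := AntiAffine.isIso_appTop_snd (X := A b) (T := Over.mk Th) hA
    exact ((ConcreteCategory.isIso_iff_bijective _).1 this).2
  · cases b
    exacts [triv_slice_comap _ hx g, triv_slice_comap _ hy g]
  · rw [← Over.comp_left, ← Over.comp_left, whisker_exchange]
  · intro κ U _ hU h hh hs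
    exact sCob_of_slices' Th (hY _ Th) x₀ y₀ hU hh (hs true) (hs false)

/-- The three-slice criterion over a discrete valuation ring mapping to `Z`, centred at the rational point. -/
theorem triv_over_dvr [IsProper X.hom] [GeometricallyIntegral X.hom] [IsProper Y.hom] [GeometricallyIntegral Y.hom]
    (x₀ : 𝟙_ (Over (Spec (CommRingCat.of k))) ⟶ X) (y₀ : 𝟙_ (Over (Spec (CommRingCat.of k))) ⟶ Y)
    (z₀ : 𝟙_ (Over (Spec (CommRingCat.of k))) ⟶ Z) (c : Cocycle ((X ⊗ Y) ⊗ Z).left)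
    (hy : Triv (c.comap (lift (𝟙 X) (toUnit X ≫ y₀) ▷ Z).left))
    (hx : Triv (c.comap (lift (toUnit Y ≫ x₀) (𝟙 Y) ▷ Z).left))
    (hz : Triv (c.comap (lift (𝟙 (X ⊗ Y)) (toUnit (X ⊗ Y) ≫ z₀)).left))
    {R : Type u} [CommRing R] [IsDomain R] [IsDiscreteValuationRing R]
    (Rh : Spec (CommRingCat.of R) ⟶ Spec (CommRingCat.of k)) (g : Over.mk Rh ⟶ Z)
    (hg : g.left (IsLocalRing.closedPoint R) = z₀.left (IsLocalRing.closedPoint k)) :
    Triv (c.comap ((X ⊗ Y) ◁ g).left) :=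
  triv_over_dvr' (fun _ _ Th => isAntiAffine_bc Th Y y₀) (isAntiAffine_of_proper (X := Y) y₀) x₀ y₀ z₀ c hy hx hz Rh g hg

/-- The three-slice criterion over the generic point, for `Y` with only constant functions. -/
theorem triv_generic' [IsProper X.hom] [GeometricallyIntegral X.hom] [IsProper Y.hom]
    (hY : ∀ (F : Type u) [Field F] (Th : Spec (CommRingCat.of F) ⟶ Spec (CommRingCat.of k)),
      AntiAffine.IsAntiAffine (bc Th Y))
    (hY₀ : AntiAffine.IsAntiAffine Y)
    [IsIntegral Z.left] [LocallyOfFiniteType Z.hom]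
    (x₀ : 𝟙_ (Over (Spec (CommRingCat.of k))) ⟶ X) (y₀ : 𝟙_ (Over (Spec (CommRingCat.of k))) ⟶ Y)
    (z₀ : 𝟙_ (Over (Spec (CommRingCat.of k))) ⟶ Z) (c : Cocycle ((X ⊗ Y) ⊗ Z).left)
    (hy : Triv (c.comap (lift (𝟙 X) (toUnit X ≫ y₀) ▷ Z).left))
    (hx : Triv (c.comap (lift (toUnit Y ≫ x₀) (𝟙 Y) ▷ Z).left))
    (hz : Triv (c.comap (lift (𝟙 (X ⊗ Y)) (toUnit (X ⊗ Y) ≫ z₀)).left)) :
    Triv (c.comap ((X ⊗ Y) ◁ (Over.homMk (Z.left.fromSpecStalk (genericPoint Z.left)) rfl :
      Over.mk (Z.left.fromSpecStalk (genericPoint Z.left) ≫ Z.hom) ⟶ Z)).left) := by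
  let z : Z.left := z₀.left (IsLocalRing.closedPoint k)
  let A := Z.left.presheaf.stalk z
  let K := Z.left.functionField
  haveI : IsLocallyNoetherian Z.left := LocallyOfFiniteType.isLocallyNoetherian Z.hom
  let η₀ := genericPoint Z.left
  by_cases hA : IsField A
  · let gη : Over.mk (Z.left.fromSpecStalk η₀ ≫ Z.hom) ⟶ Z := Over.homMk (Z.left.fromSpecStalk η₀) rfl
    have hη : η₀ = z := by
      have h1 : η₀ ⤳ z := genericPoint_specializes z
      obtain ⟨p, hp⟩ : η₀ ∈ Set.range (Z.left.fromSpecStalk z) := by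
        rw [Scheme.range_fromSpecStalk]; exact h1
      letI := hA.toField
      rw [← hp, show p = IsLocalRing.closedPoint A from Subsingleton.elim (α := PrimeSpectrum A) _ _,
        Scheme.fromSpecStalk_closedPoint]
    refine triv_comap_const z₀ hz (eq_toUnit_comp_of_apply (F := K) z₀ _ gη ?_)
    show Z.left.fromSpecStalk η₀ (IsLocalRing.closedPoint K) = _
    exact Scheme.fromSpecStalk_closedPoint.trans hη
  · have hs : Subfield.closure (Set.range (algebraMap A K) ∪ (∅ : Finset K)) = ⊤ := by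
      refine top_le_iff.1 fun x _ => ?_
      obtain ⟨r, s, -, rfl⟩ := IsFractionRing.div_surjective (A := A) x
      exact div_mem (Subfield.subset_closure (Or.inl ⟨r, rfl⟩)) (Subfield.subset_closure (Or.inl ⟨s, rfl⟩))
    obtain ⟨V, hV, hm, hlt⟩ := DVRDom.exists_dvr_dominating (L := K) hA (IsFractionRing.injective A K) ∅ hs
    let g' : A →+* V := (algebraMap A K).codRestrict V.toSubring hm
    let l : Spec (CommRingCat.of V) ⟶ Z.left := Spec.map (CommRingCat.ofHom g') ≫ Z.left.fromSpecStalk z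
    haveI : IsLocalHom g' := ⟨fun a ha => by
      by_contra hu
      exact (IsLocalRing.mem_maximalIdeal _).1 ((ValuationSubring.valuation_lt_one_iff V _).2
        (hlt a ((IsLocalRing.mem_maximalIdeal a).2 hu))) ha⟩
    let gR : Over.mk (l ≫ Z.hom) ⟶ Z := Over.homMk l rfl
    have hgR : gR.left (IsLocalRing.closedPoint V) = z₀.left (IsLocalRing.closedPoint k) := by
      show Z.left.fromSpecStalk z (Spec.map (CommRingCat.ofHom g') (IsLocalRing.closedPoint V)) = z
      rw [show Spec.map (CommRingCat.ofHom g') (IsLocalRing.closedPoint V) = IsLocalRing.closedPoint A from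
        IsLocalRing.comap_closedPoint g', Scheme.fromSpecStalk_closedPoint]
    have hT := triv_over_dvr' hY hY₀ x₀ y₀ z₀ c hy hx hz (l ≫ Z.hom) gR hgR
    have hl : Spec.map (CommRingCat.ofHom V.subtype) ≫ l = Z.left.fromSpecStalk η₀ := by
      show _ ≫ _ ≫ _ = _
      rw [← Category.assoc, ← Spec.map_comp]
      exact Scheme.SpecMap_stalkSpecializes_fromSpecStalk (genericPoint_specializes z)
    let q : Over.mk (Z.left.fromSpecStalk η₀ ≫ Z.hom) ⟶ Over.mk (l ≫ Z.hom) :=
      Over.homMk (Spec.map (CommRingCat.ofHom V.subtype)) (by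
        show _ ≫ l ≫ Z.hom = Z.left.fromSpecStalk η₀ ≫ Z.hom
        rw [← Category.assoc, hl])
    have hq : (Over.homMk (Z.left.fromSpecStalk η₀) rfl : Over.mk (Z.left.fromSpecStalk η₀ ≫ Z.hom) ⟶ Z) = q ≫ gR :=
      Over.OverMorphism.ext hl.symm
    rw [hq, MonoidalCategory.whiskerLeft_comp, Over.comp_left]
    exact triv_comap_comp _ hT

/-- The three-slice criterion over the generic point. -/
theorem triv_generic [IsProper X.hom] [GeometricallyIntegral X.hom] [IsProper Y.hom] [GeometricallyIntegral Y.hom]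
    [IsIntegral Z.left] [LocallyOfFiniteType Z.hom]
    (x₀ : 𝟙_ (Over (Spec (CommRingCat.of k))) ⟶ X) (y₀ : 𝟙_ (Over (Spec (CommRingCat.of k))) ⟶ Y)
    (z₀ : 𝟙_ (Over (Spec (CommRingCat.of k))) ⟶ Z) (c : Cocycle ((X ⊗ Y) ⊗ Z).left)
    (hy : Triv (c.comap (lift (𝟙 X) (toUnit X ≫ y₀) ▷ Z).left))
    (hx : Triv (c.comap (lift (toUnit Y ≫ x₀) (𝟙 Y) ▷ Z).left))
    (hz : Triv (c.comap (lift (𝟙 (X ⊗ Y)) (toUnit (X ⊗ Y) ≫ z₀)).left)) :
    Triv (c.comap ((X ⊗ Y) ◁ (Over.homMk (Z.left.fromSpecStalk (genericPoint Z.left)) rfl :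
      Over.mk (Z.left.fromSpecStalk (genericPoint Z.left) ≫ Z.hom) ⟶ Z)).left) :=
  triv_generic' (fun _ _ Th => isAntiAffine_bc Th Y y₀) (isAntiAffine_of_proper (X := Y) y₀) x₀ y₀ z₀ c hy hx hz

end Main

end GrothLib.Cube
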