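import Groth.Agent.Lib.Cube.Cube
import Groth.Agent.Lib.Cube.Pic
import Groth.Agent.Lib.GrpSchField.GrpSmooth
import Groth.Agent.Lib.WeilExt.Extend
import Groth.Agent.Lib.RegLoc.Normal

/-!
# The cube relation on an abelian variety
-/

universe u

open CategoryTheory CategoryTheory.Limits Opposite TopologicalSpace AlgebraicGeometry
open MonoidalCategory CartesianMonoidalCategory MonObj
open GrothLib.Ample

set_option backward.isDefEq.respectTransparency false

noncomputable section

namespace GrothLib.Cube

variable {K : Type u} [Field K]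

theorem smooth_abVar (A : Over (Spec (CommRingCat.of K))) [GrpObj A] [IsProper A.hom]
    [GeometricallyIntegral A.hom] : Smooth A.hom := by
  let b : Spec (CommRingCat.of (AlgebraicClosure K)) ⟶ Spec (CommRingCat.of K) :=
    Spec.map (CommRingCat.ofHom (algebraMap K (AlgebraicClosure K)))
  haveI : IsIntegral (pullback A.hom b) := inferInstance
  let y : ↥(pullback A.hom b) := Classical.arbitrary _
  exact GrpSchField.smooth_of_isReduced_stalk (G := A) y

theorem normal_abVar (A : Over (Spec (CommRingCat.of K))) [GrpObj A] [IsProper A.hom]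
    [GeometricallyIntegral A.hom] (z : A.left) : IsIntegrallyClosed (A.left.presheaf.stalk z) := by
  haveI := smooth_abVar A
  haveI := WeilExt.isRegularLocalRing_stalk_of_smooth A.hom (WeilExt.isRegularLocalRing_stalk_spec K) z
  exact RegLoc.isIntegrallyClosed_of_isRegularLocalRing _

/-- Invertible modules over the spectrum of a field are trivial. -/
theorem pic_spec_field_eq_one {F : Type u} [Field F] (x : Pic (Spec (CommRingCat.of F))) : x = 1 := by
  obtain ⟨c⟩ := x
  obtain ⟨i₀, hi₀⟩ := c.exists_mem (IsLocalRing.closedPoint F)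
  have h0 : (⊤ : (Spec (CommRingCat.of F)).Opens) ≤ c.D i₀ := fun q _ => by
    rw [show q = IsLocalRing.closedPoint F from Subsingleton.elim (α := PrimeSpectrum F) _ _]; exact hi₀
  refine Quotient.sound (eqv_of_map (c := c) (c' := Cocycle.triv _) (fun _ => PUnit.unit) (fun _ => le_top)
    (fun i => c.G i₀ i (le_top.trans h0) le_rfl) (fun i => c.isUnit_G _ _ _ _) fun i k O hi hk => ?_)
  rw [triv_G, _root_.mul_one, Cocycle.res_G, Cocycle.res_G, mul_comm]
  exact c.G_trans i₀ i k (le_top.trans h0) hi hk

variable {A S P : Over (Spec (CommRingCat.of K))}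

theorem pull_toUnit_comp (p : 𝟙_ _ ⟶ A) (x : Pic A.left) : pull (toUnit S ≫ p).left x = 1 := by
  rw [Over.comp_left, ← pull_comp]
  have h : pull p.left x = 1 := pic_spec_field_eq_one (F := K) _
  rw [h, map_one]

theorem pull_one_hom [GrpObj A] (x : Pic A.left) : pull (1 : S ⟶ A).left x = 1 := by
  rw [Hom.one_def]
  exact pull_toUnit_comp _ x

theorem pull_pull_over (σ : S ⟶ P) (f : P ⟶ A) (x : Pic A.left) :
    pull σ.left (pull f.left x) = pull (σ ≫ f).left x := by
  rw [pull_comp, Over.comp_left]

/-- The alternating combination appearing in the theorem of the cube. -/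
def cubeClass [GrpObj A] (f g h : S ⟶ A) (x : Pic A.left) : Pic S.left :=
  pull (f * g * h).left x * pull f.left x * pull g.left x * pull h.left x *
    (pull (f * g).left x * pull (f * h).left x * pull (g * h).left x)⁻¹

theorem pull_cubeClass [GrpObj A] (σ : P ⟶ S) (f g h : S ⟶ A) (x : Pic A.left) :
    pull σ.left (cubeClass f g h x) = cubeClass (σ ≫ f) (σ ≫ g) (σ ≫ h) x := by
  simp only [cubeClass, map_mul, map_inv, pull_pull_over, MonObj.comp_mul]

theorem cubeClass_degenerate [GrpObj A] (f g h : S ⟶ A) (x : Pic A.left) (H : f = 1 ∨ g = 1 ∨ h = 1) :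
    cubeClass f g h x = 1 := by
  rcases H with rfl | rfl | rfl <;>
    simp only [cubeClass, _root_.one_mul, _root_.mul_one, pull_one_hom, mul_inv_eq_one] <;> ac_rfl

/-- The cube relation. -/
theorem cubeClass_eq_one [GrpObj A] [IsProper A.hom] [GeometricallyIntegral A.hom] (f g h : S ⟶ A)
    (x : Pic A.left) : cubeClass f g h x = 1 := by
  let p1 : (A ⊗ A) ⊗ A ⟶ A := fst (A ⊗ A) A ≫ fst A A
  let p2 : (A ⊗ A) ⊗ A ⟶ A := fst (A ⊗ A) A ≫ snd A A
  let p3 : (A ⊗ A) ⊗ A ⟶ A := snd (A ⊗ A) A
  suffices huniv : cubeClass p1 p2 p3 x = 1 by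
    have := congrArg (pull (lift (lift f g) h).left) huniv
    rw [map_one, pull_cubeClass] at this
    simpa [p1, p2, p3] using this
  obtain ⟨c, hc⟩ := Quotient.exists_rep (cubeClass p1 p2 p3 x)
  change cls c = cubeClass p1 p2 p3 x at hc
  rw [← hc, cls_eq_one_iff]
  haveI : IsIntegral A.left := GeometricallyIntegral.isIntegral_of_subsingleton A.hom
  refine triv_cube (normal_abVar A) η[A] η[A] η[A] c ?_ ?_ ?_
  · rw [← cls_eq_one_iff, ← pull_cls, hc, pull_cubeClass]
    refine cubeClass_degenerate _ _ _ x (Or.inr (Or.inl ?_))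
    simp only [p2, whiskerRight_fst_assoc, lift_snd, comp_toUnit_assoc, Category.assoc]
    rw [Hom.one_def]
  · rw [← cls_eq_one_iff, ← pull_cls, hc, pull_cubeClass]
    refine cubeClass_degenerate _ _ _ x (Or.inl ?_)
    simp only [p1, whiskerRight_fst_assoc, lift_fst, comp_toUnit_assoc, Category.assoc]
    rw [Hom.one_def]
  · rw [← cls_eq_one_iff, ← pull_cls, hc, pull_cubeClass]
    refine cubeClass_degenerate _ _ _ x (Or.inr (Or.inr ?_))
    simp only [p3, lift_snd]
    rw [Hom.one_def]

end GrothLib.Cube
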