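import Groth.Agent.Lib.NormalSerre.AssPrincipal
import Mathlib.RingTheory.Flat.Basic
import Mathlib.RingTheory.Ideal.AssociatedPrime.Finiteness
import Mathlib.RingTheory.DiscreteValuationRing.TFAE
import Mathlib.LinearAlgebra.TensorProduct.Pi
import Mathlib.RingTheory.Ideal.Height

/-!
# Height one primes of normal Noetherian domains and flat algebras
-/

universe u

open scoped TensorProduct
open IsLocalRing

noncomputable section

namespace GrothLib.Cube

variable {A : Type u} [CommRing A] [IsDomain A] [IsNoetherianRing A] [IsIntegrallyClosed A]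

/-- A uniformiser at a height one prime. -/
theorem exists_uniformiser {p : Ideal A} [p.IsPrime] (hp : p.height = 1) :
    ∃ π : A, π ∈ p ∧ π ≠ 0 ∧
      (∀ x : A, x ≠ 0 → ∃ (N : ℕ) (u v : A), u ∉ p ∧ v ∉ p ∧ u * x = v * π ^ N) ∧
      ∀ x ∈ p, ∃ u y : A, u ∉ p ∧ u * x = π * y := by
  have hp0 : p ≠ ⊥ := p.ne_bot_of_height_eq_one hp
  let L := Localization.AtPrime p
  haveI : IsDomain L := IsLocalization.isDomain_localization p.primeCompl_le_nonZeroDivisors
  haveI : IsIntegrallyClosed L :=
    isIntegrallyClosed_of_isLocalization L p.primeCompl p.primeCompl_le_nonZeroDivisors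
  have hinj : Function.Injective (algebraMap A L) :=
    IsLocalization.injective L p.primeCompl_le_nonZeroDivisors
  have huniq : ∀ P : Ideal L, P ≠ ⊥ → P.IsPrime → P = maximalIdeal L := by
    intro P hP hPp
    by_contra hne
    have hlt : P < maximalIdeal L := lt_of_le_of_ne (le_maximalIdeal hPp.ne_top) hne
    have h2 := Ideal.height_strict_mono_of_isPrime_of_isPrime (bot_lt_iff_ne_bot.2 hP)
    have h3 := Ideal.height_strict_mono_of_isPrime_of_isPrime hlt
    have h4 : (maximalIdeal L).height = 1 := by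
      rw [← IsLocalization.height_under p.primeCompl (maximalIdeal L),
        show (maximalIdeal L).under A = p from IsLocalization.AtPrime.comap_maximalIdeal L p, hp]
    rw [h4, Order.lt_one_iff] at h3
    rw [h3] at h2
    exact absurd h2 not_lt_zero
  have hiff : IsPrincipalIdealRing L ↔
      IsIntegrallyClosed L ∧ ∀ P : Ideal L, P ≠ ⊥ → P.IsPrime → P = maximalIdeal L :=
    (tfae_of_isNoetherianRing_of_isLocalRing_of_isDomain (R := L)).out 0 3
  haveI : IsPrincipalIdealRing L := hiff.2 ⟨inferInstance, huniq⟩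
  have hnf : ¬ IsField L := by
    intro hf
    obtain ⟨x, hx, hx0⟩ := Submodule.exists_mem_ne_zero_of_ne_bot hp0
    have h1 : algebraMap A L x ∈ maximalIdeal L := (IsLocalization.AtPrime.to_map_mem_maximal_iff L p x).2 hx
    rw [IsLocalRing.isField_iff_maximalIdeal_eq.1 hf, Ideal.mem_bot, map_eq_zero_iff _ hinj] at h1
    exact hx0 h1
  haveI : IsDiscreteValuationRing L :=
    { not_a_field' := fun h => hnf (IsLocalRing.isField_iff_maximalIdeal_eq.2 h) }
  obtain ⟨ϖ, hϖ⟩ := IsDiscreteValuationRing.exists_irreducible L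
  obtain ⟨⟨π, t⟩, ht⟩ := IsLocalization.surj p.primeCompl ϖ
  obtain ⟨tu, htu⟩ : IsUnit (algebraMap A L t) := IsLocalization.map_units L t
  have hπ : algebraMap A L π = ϖ * tu := by rw [htu]; exact ht.symm
  have hmax : maximalIdeal L = Ideal.span {algebraMap A L π} := by
    rw [hπ, (IsDiscreteValuationRing.irreducible_iff_uniformizer ϖ).1 hϖ]
    exact (Ideal.span_singleton_mul_right_unit tu.isUnit ϖ).symm
  have key : ∀ (x w : A) (l : L), algebraMap A L x = algebraMap A L w * l →
      ∃ u y : A, u ∉ p ∧ u * x = w * y ∧ (IsUnit l → y ∉ p) := by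
    intro x w l hl
    obtain ⟨⟨y, u⟩, hu⟩ := IsLocalization.surj p.primeCompl l
    refine ⟨u, y, u.2, hinj ?_, fun hlu => ?_⟩
    · rw [map_mul, map_mul, hl, ← hu]
      ring
    · have h1 : IsUnit (algebraMap A L y) := by
        rw [← hu]; exact hlu.mul (IsLocalization.map_units L u)
      exact (IsLocalization.AtPrime.isUnit_to_map_iff L p y).1 h1
  refine ⟨π, ?_, ?_, fun x hx => ?_, fun x hx => ?_⟩
  · refine (IsLocalization.AtPrime.to_map_mem_maximal_iff L p π).1 ?_
    rw [hmax]; exact Ideal.mem_span_singleton_self _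
  · intro h
    rw [h, map_zero] at hπ
    exact hϖ.ne_zero ((Units.mul_left_eq_zero tu).1 hπ.symm)
  · obtain ⟨n, v, hv⟩ := IsDiscreteValuationRing.eq_unit_mul_pow_irreducible
      ((map_ne_zero_iff _ hinj).2 hx) hϖ
    obtain ⟨u, y, hu, huy, hy⟩ := key x (π ^ n) (v * (↑(tu ^ n)⁻¹ : L)) (by
      rw [map_pow, hπ, hv, mul_pow, ← Units.val_pow_eq_pow_val]
      calc (v : L) * ϖ ^ n = v * ϖ ^ n * (↑(tu ^ n) * ↑(tu ^ n)⁻¹) := by rw [Units.mul_inv, mul_one]
        _ = _ := by ring)
    exact ⟨n, u, y, hu, hy (v.isUnit.mul (Units.isUnit _)), huy.trans (mul_comm _ _)⟩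
  · have h1 : algebraMap A L x ∈ maximalIdeal L := (IsLocalization.AtPrime.to_map_mem_maximal_iff L p x).2 hx
    rw [hmax, Ideal.mem_span_singleton] at h1
    obtain ⟨l, hl⟩ := h1
    obtain ⟨u, y, hu, huy, -⟩ := key x π l hl
    exact ⟨u, y, hu, huy⟩

/-- Divisibility in a flat algebra can be checked at height one primes. -/
theorem mem_span_of_forall_height_one {B : Type u} [CommRing B] [Algebra A B] [Module.Flat A B]
    {e : A} (he : e ≠ 0) (b : B)
    (h : ∀ p : Ideal A, p.IsPrime → p.height = 1 →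
      ∃ s : A, s ∉ p ∧ algebraMap A B s * b ∈ Ideal.span {algebraMap A B e}) :
    b ∈ Ideal.span {algebraMap A B e} := by
  classical
  let N := A ⧸ Ideal.span {e}
  let S := (associatedPrimes.finite A N).toFinset
  have hS : ∀ P : S, P.1.IsPrime ∧ P.1.height = 1 := fun P =>
    have hP := (associatedPrimes.finite A N).mem_toFinset.1 P.2
    ⟨hP.isPrime, NormalSerre.height_eq_one_of_mem_associatedPrimes he hP⟩
  let comp : ∀ P : S, N →ₗ[A] LocalizedModule (P.1.primeCompl (hp := (hS P).1)) N := fun P =>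
    LocalizedModule.mkLinearMap _ N
  let f : N →ₗ[A] ∀ P : S, LocalizedModule (P.1.primeCompl (hp := (hS P).1)) N := LinearMap.pi comp
  have hf : Function.Injective f := by
    rw [injective_iff_map_eq_zero]
    intro x hx
    by_contra hx0
    obtain ⟨P, hP, hle⟩ := exists_le_isAssociatedPrime_of_isNoetherianRing A x hx0
    have hPS : P ∈ S := (associatedPrimes.finite A N).mem_toFinset.2 (AssociatedPrimes.mem_iff.2 hP)
    have h1 : comp ⟨P, hPS⟩ x = 0 := congrFun hx ⟨P, hPS⟩
    obtain ⟨c, hc⟩ := (IsLocalizedModule.eq_zero_iff (P.primeCompl (hp := hP.isPrime)) _).1 h1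
    refine c.2 (hle ?_)
    rw [Submodule.mem_colon_singleton, Submodule.mem_bot]
    exact hc
  have hbN : b ⊗ₜ[A] (1 : N) = 0 := by
    apply Module.Flat.lTensor_preserves_injective_linearMap (M := B) f hf
    apply (TensorProduct.piRight A A B _).injective
    rw [map_zero, map_zero, LinearMap.lTensor_tmul, TensorProduct.piRight_apply, TensorProduct.piRightHom_tmul]
    funext P
    show b ⊗ₜ[A] comp P 1 = 0
    obtain ⟨s, hs, hsb⟩ := h P.1 (hS P).1 (hS P).2
    obtain ⟨c, hc⟩ := Ideal.mem_span_singleton'.1 hsb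
    have hu : Function.Bijective fun y : LocalizedModule (P.1.primeCompl (hp := (hS P).1)) N => s • y :=
      (Module.End.isUnit_iff _).1 (IsLocalizedModule.map_units (comp P) (⟨s, hs⟩ : P.1.primeCompl (hp := (hS P).1)))
    obtain ⟨y, hy⟩ := hu.2 (comp P 1)
    have he0 : e • y = 0 := by
      refine hu.1 ?_
      show s • (e • y) = s • 0
      rw [smul_comm, show s • y = comp P 1 from hy, smul_zero, ← map_smul]
      have : e • (1 : N) = 0 := by
        show Ideal.Quotient.mk _ (e * 1) = 0
        rw [mul_one, Ideal.Quotient.eq_zero_iff_mem]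
        exact Ideal.mem_span_singleton_self e
      rw [this, map_zero]
    rw [← show s • y = comp P 1 from hy, ← TensorProduct.smul_tmul, Algebra.smul_def, ← hc,
      mul_comm, ← Algebra.smul_def, TensorProduct.smul_tmul, he0, TensorProduct.tmul_zero]
  have h2 := congrArg (TensorProduct.tensorQuotEquivQuotSMul B (Ideal.span {e})) hbN
  rw [map_zero, show (1 : N) = Ideal.Quotient.mk (Ideal.span {e}) 1 from rfl,
    TensorProduct.tensorQuotEquivQuotSMul_tmul_mk, one_smul, Submodule.Quotient.mk_eq_zero,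
    Ideal.smul_top_eq_map, Ideal.map_span, Set.image_singleton] at h2
  exact h2

end GrothLib.Cube
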