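import Groth.Agent.Lib.Cube.Step
import Groth.Agent.Lib.AntiAffine.Basic
import Mathlib.CategoryTheory.Monoidal.Cartesian.Over

/-!
# Functions on products of affine opens over a field
-/

universe u

open CategoryTheory CategoryTheory.Limits Opposite TopologicalSpace AlgebraicGeometry
open MonoidalCategory CartesianMonoidalCategory
open GrothLib.Ample
open scoped TensorProduct

set_option backward.isDefEq.respectTransparency false

noncomputable section

namespace GrothLib.Cube

variable {L : Type u} [Field L]

/-- Functions on an open of a scheme over a field form an algebra. -/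
scoped instance overAlgebra (X : Over (Spec (CommRingCat.of L))) (U : X.left.Opens) : Algebra L Γ(X.left, U) :=
  (cst X.hom U).toAlgebra

theorem algebraMap_eq (X : Over (Spec (CommRingCat.of L))) (U : X.left.Opens) (r : L) :
    algebraMap L Γ(X.left, U) r = cst X.hom U r := rfl

variable {X Y Z : Over (Spec (CommRingCat.of L))}

/-- Pullback of functions along a morphism over the field, as an algebra map. -/
def appAlg (g : Z ⟶ X) {U : X.left.Opens} {W : Z.left.Opens} (e : W ≤ g.left ⁻¹ᵁ U) :
    Γ(X.left, U) →ₐ[L] Γ(Z.left, W) :=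
  { (g.left.appLE U W e).hom with
    commutes' := fun r => by
      show (g.left.appLE U W e).hom (cst X.hom U r) = cst Z.hom W r
      rw [appLE_cst, Over.w g] }

theorem appAlg_apply (g : Z ⟶ X) {U : X.left.Opens} {W : Z.left.Opens} (e : W ≤ g.left ⁻¹ᵁ U) (a : Γ(X.left, U)) :
    appAlg g e a = (g.left.appLE U W e).hom a := rfl

/-- Restriction as an algebra map. -/
def resAlg (X : Over (Spec (CommRingCat.of L))) {U U' : X.left.Opens} (h : U' ≤ U) :
    Γ(X.left, U) →ₐ[L] Γ(X.left, U') :=
  { res h with commutes' := fun r => res_cst X.hom h r }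

theorem resAlg_apply {U U' : X.left.Opens} (h : U' ≤ U) (a : Γ(X.left, U)) : resAlg X h a = res h a := rfl

/-- The product of two opens. -/
def box (U : X.left.Opens) (V : Y.left.Opens) : (X ⊗ Y).left.Opens :=
  (fst X Y).left ⁻¹ᵁ U ⊓ (snd X Y).left ⁻¹ᵁ V

theorem box_mono {U U' : X.left.Opens} {V V' : Y.left.Opens} (hU : U' ≤ U) (hV : V' ≤ V) :
    box U' V' ≤ box U V :=
  inf_le_inf ((fst X Y).left.preimage_mono hU) ((snd X Y).left.preimage_mono hV)

theorem box_inf (U U' : X.left.Opens) (V : Y.left.Opens) : box U V ⊓ box U' V = box (U ⊓ U') V := by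
  simp only [box, Scheme.Hom.preimage_inf]
  exact (inf_inf_distrib_right _ _ _).symm

/-- The product map on functions. -/
def boxMap (U : X.left.Opens) (V : Y.left.Opens) :
    Γ(X.left, U) ⊗[L] Γ(Y.left, V) →ₐ[L] Γ((X ⊗ Y).left, box U V) :=
  Algebra.TensorProduct.lift (appAlg (fst X Y) inf_le_left) (appAlg (snd X Y) inf_le_right)
    fun _ _ => Commute.all _ _

theorem boxMap_tmul (U : X.left.Opens) (V : Y.left.Opens) (a : Γ(X.left, U)) (b : Γ(Y.left, V)) :
    boxMap U V (a ⊗ₜ b) = ((fst X Y).left.appLE U (box U V) inf_le_left).hom a *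
      ((snd X Y).left.appLE V (box U V) inf_le_right).hom b :=
  Algebra.TensorProduct.lift_tmul _ _ _ a b

theorem res_boxMap {U U' : X.left.Opens} {V V' : Y.left.Opens} (hU : U' ≤ U) (hV : V' ≤ V)
    (e : Γ(X.left, U) ⊗[L] Γ(Y.left, V)) :
    res (box_mono hU hV) (boxMap U V e) = boxMap U' V' (Algebra.TensorProduct.map (resAlg X hU) (resAlg Y hV) e) := by
  induction e with
  | zero => simp only [map_zero]
  | tmul a b =>
    simp only [Algebra.TensorProduct.map_tmul, boxMap_tmul, map_mul, resAlg_apply, res_appLE, appLE_res]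
  | add e e' he he' => simp only [map_add, he, he']

theorem isAffineOpen_box {U : X.left.Opens} {V : Y.left.Opens} (hU : IsAffineOpen U) (hV : IsAffineOpen V) :
    IsAffineOpen (box U V) := by
  have H : IsPullback (fst X Y).left (snd X Y).left X.hom Y.hom := IsPullback.of_hasPullback _ _
  have : IsAffine _ := isAffineOpen_top (Spec (CommRingCat.of L))
  have : IsAffine _ := hU
  have : IsAffine _ := hV
  exact .of_isIso (Scheme.Hom.isPullback_resLE H (US := ⊤) (UT := V) (UX := U) (UY := box U V) le_top le_top rfl).isoPullback.hom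

theorem bijective_boxMap {U : X.left.Opens} {V : Y.left.Opens} (hU : IsAffineOpen U) (hV : IsAffineOpen V) :
    Function.Bijective (boxMap U V) := by
  have H : IsPullback (fst X Y).left (snd X Y).left X.hom Y.hom := IsPullback.of_hasPullback _ _
  have hP := (AlgebraicGeometry.isIso_pushoutSection_iff H (US := ⊤) (UT := V) (UX := U) (UY := box U V)
    le_top le_top rfl).1 (AlgebraicGeometry.isIso_pushoutSection_of_isAffineOpen H le_top le_top rfl
      (isAffineOpen_top _) hV hU)
  have hP' : IsPushout (CommRingCat.ofHom (algebraMap L Γ(X.left, U))) (CommRingCat.ofHom (algebraMap L Γ(Y.left, V)))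
      ((fst X Y).left.appLE U (box U V) inf_le_left) ((snd X Y).left.appLE V (box U V) inf_le_right) := by
    refine hP.of_iso (Scheme.ΓSpecIso (CommRingCat.of L)) (Iso.refl _) (Iso.refl _) (Iso.refl _) ?_ ?_ ?_ ?_
    · rw [Iso.refl_hom, Category.comp_id, ← Iso.inv_comp_eq]; rfl
    · rw [Iso.refl_hom, Category.comp_id, ← Iso.inv_comp_eq]; rfl
    · simp
    · simp
  have hT := CommRingCat.isPushout_tensorProduct L Γ(X.left, U) Γ(Y.left, V)
  let ι := hT.isoIsPushout _ _ hP'
  have hι : ∀ x, ι.hom.hom x = boxMap U V x := by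
    intro (x : Γ(X.left, U) ⊗[L] Γ(Y.left, V))
    induction x using TensorProduct.induction_on with
    | zero => exact (map_zero ι.hom.hom).trans (map_zero (boxMap U V)).symm
    | tmul a b =>
      have e1 := congrArg (fun g => (CommRingCat.Hom.hom g) a) (hT.inl_isoIsPushout_hom _ _ hP')
      have e2 := congrArg (fun g => (CommRingCat.Hom.hom g) b) (hT.inr_isoIsPushout_hom _ _ hP')
      have e3 : a ⊗ₜ[L] b = (a ⊗ₜ[L] (1 : Γ(Y.left, V))) * ((1 : Γ(X.left, U)) ⊗ₜ[L] b) := by
        rw [Algebra.TensorProduct.tmul_mul_tmul, mul_one, one_mul]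
      rw [boxMap_tmul]
      conv_lhs => rw [e3]
      exact (map_mul ι.hom.hom _ _).trans (congrArg₂ (· * ·) e1 e2)
    | add x y hx hy => rw [map_add, map_add, hx, hy]
  have hb : Function.Bijective ι.hom.hom := ι.commRingCatIsoToRingEquiv.bijective
  exact (funext hι : (ι.hom.hom : _ → _) = boxMap U V) ▸ hb

/-- Functions on a product with a complete factor come from the other factor. -/
theorem snd_appLE_surjective [QuasiCompact X.hom] [QuasiSeparated X.hom] (hX : AntiAffine.IsAntiAffine X)
    {V : Y.left.Opens} (hV : IsAffineOpen V) :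
    Function.Surjective ((snd X Y).left.appLE V ((snd X Y).left ⁻¹ᵁ V) le_rfl).hom := by
  have H : IsPullback (fst X Y).left (snd X Y).left X.hom Y.hom := IsPullback.of_hasPullback _ _
  have : CompactSpace X.left := QuasiCompact.compactSpace_of_compactSpace X.hom
  have : QuasiSeparatedSpace X.left := quasiSeparatedSpace_of_quasiSeparated X.hom
  have e : (snd X Y).left ⁻¹ᵁ V = (fst X Y).left ⁻¹ᵁ ⊤ ⊓ (snd X Y).left ⁻¹ᵁ V := (top_inf_eq _).symm
  have hP := (AlgebraicGeometry.isIso_pushoutSection_iff H (US := ⊤) (UT := V) (UX := ⊤)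
    (UY := (snd X Y).left ⁻¹ᵁ V) le_top le_top e).1
    (AlgebraicGeometry.isIso_pushoutSection_of_isQuasiSeparated_of_flat_right H le_top le_top e
      (isAffineOpen_top _) hV isCompact_univ (by rw [Opens.coe_top]; exact isQuasiSeparated_univ_iff.2 inferInstance))
  have hi : IsIso (X.hom.appLE ⊤ ⊤ le_top) := by
    have := hX.isIso
    rw [show X.hom.appLE ⊤ ⊤ le_top = X.hom.appTop from Scheme.Hom.appLE_eq_app _]
    infer_instance
  have := hP.isIso_inr_of_isIso
  exact ((ConcreteCategory.isIso_iff_bijective _).1 this).2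

end GrothLib.Cube
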