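import Groth.Agent.Lib.Cube.FieldSections
import Groth.Agent.Lib.Cube.Torsion
import Groth.Agent.Lib.Ample.ProjSections
import Groth.Agent.Lib.Ample.RelAmple

/-!
# Ampleness descends along field extensions for proper schemes
-/

universe u

open CategoryTheory CategoryTheory.Limits Opposite TopologicalSpace AlgebraicGeometry
open GrothLib.Ample

set_option backward.isDefEq.respectTransparency false

noncomputable section

namespace GrothLib.Cube

/-- A proper quasi-affine scheme over a field has finitely many points. -/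
theorem finite_of_isQuasiAffine {K : Type u} [Field K] {Z : Scheme.{u}} (f : Z ⟶ Spec (CommRingCat.of K))
    [IsProper f] [Z.IsQuasiAffine] : Finite Z := by
  let γ : CommRingCat.of K ⟶ Γ(Z, ⊤) := (Scheme.ΓSpecIso _).inv ≫ f.appTop
  have hf : Z.toSpecΓ ≫ Spec.map γ = f := by
    simp only [γ, Spec.map_comp, ← Category.assoc, ← Scheme.toSpecΓ_naturality]
    simp
  haveI : IsProper (Z.toSpecΓ ≫ Spec.map γ) := by rw [hf]; infer_instance
  haveI : IsProper Z.toSpecΓ := IsProper.of_comp Z.toSpecΓ (Spec.map γ)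
  haveI : IsClosedImmersion Z.toSpecΓ :=
    .of_isPreimmersion _ Z.toSpecΓ.isClosedMap.isClosed_range
  haveI : IsAffine Z := isAffine_of_isAffineHom Z.toSpecΓ
  haveI : IsFinite f := IsFinite.iff_isProper_and_isAffineHom.2 ⟨inferInstance, inferInstance⟩
  refine Set.finite_univ_iff.1 ?_
  have huniv : (f ⁻¹' {IsLocalRing.closedPoint K} : Set Z) = Set.univ :=
    Set.eq_univ_of_forall fun b => Subsingleton.elim (α := ↥(Spec (CommRingCat.of K))) _ _
  rw [← huniv]
  exact f.finite_preimage_singleton _

variable {k K : Type u} [Field k] [Field K] [Algebra k K] {X X' : Scheme.{u}}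
  {f : X ⟶ Spec (CommRingCat.of k)} {f' : X' ⟶ Spec (CommRingCat.of K)} {g : X' ⟶ X}
  (H : IsPullback g f' f (Spec.map (CommRingCat.ofHom (algebraMap k K))))

include H in
/-- An invertible module on a proper scheme over a field is ample if it becomes ample over a larger field. -/
theorem isAmple_of_baseChange_field [IsProper f] {L : X.Modules} (hL : PicF.IsInvertible L)
    (h : CohB1.IsAmple ((Scheme.Modules.pullback g).obj L)) : CohB1.IsAmple L := by
  classical
  haveI : IsLocallyNoetherian X := LocallyOfFiniteType.isLocallyNoetherian f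
  haveI : CompactSpace X := QuasiCompact.compactSpace_of_compactSpace f
  haveI : IsNoetherian X := {}
  haveI : Surjective (Spec.map (CommRingCat.ofHom (algebraMap k K))) :=
    ⟨fun _ => ⟨Classical.arbitrary _, Subsingleton.elim (α := Spec (CommRingCat.of k)) _ _⟩⟩
  haveI : Surjective g := MorphismProperty.of_isPullback H.flip inferInstance
  haveI : IsProper f' := MorphismProperty.of_isPullback H inferInstance
  obtain ⟨c, ⟨e⟩⟩ := exists_cocycle hL
  obtain ⟨e'⟩ := c.nonempty_pullback_iso g e
  -- generating sections over the base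
  have hgen : ∀ q : X, ∃ (n : ℕ) (a : c.sect (n + 1) ⊤), q ∈ c.locus a := by
    intro q
    obtain ⟨q', rfl⟩ := g.surjective q
    obtain ⟨n, σ, hq, -⟩ := (((c.comap g).isAmple_iff e').1 h).2 q'
    exact ⟨n, exists_sect_of_mem_locus H c σ hq⟩
  choose n a hqa using hgen
  obtain ⟨S, hS⟩ := (isCompact_univ (X := X)).elim_finite_subcover (fun q => (c.locus (a q) : Set X))
    (fun q => (c.locus (a q)).isOpen) (fun q _ => Set.mem_iUnion.2 ⟨q, hqa q⟩)
  rcases isEmpty_or_nonempty X with hX | hX
  · exact ⟨hL, inferInstance, fun q => isEmptyElim q⟩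
  have hSne : S.Nonempty := by
    obtain ⟨t, ht, -⟩ := Set.mem_iUnion₂.1 (hS (Set.mem_univ (Classical.arbitrary X)))
    exact ⟨t, ht⟩
  obtain ⟨m, hm⟩ : ∃ m, S.card = m + 1 := ⟨S.card - 1, by have := hSne.card_pos; omega⟩
  let pt : Fin (m + 1) → X := fun i => (S.equivFinOfCardEq hm).symm i
  let N := ∏ i, (n (pt i) + 1)
  have hN : 0 < N := Finset.prod_pos fun i _ => Nat.succ_pos _
  let d := c.pow N
  have hsec : ∀ i, ∃ b : d.sect 1 ⊤, d.locus b = c.locus (a (pt i)) := fun i => by
    obtain ⟨l, hl⟩ : n (pt i) + 1 ∣ N := Finset.dvd_prod_of_mem _ (Finset.mem_univ i)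
    have hl0 : 0 < l := Nat.pos_of_ne_zero fun h0 => by rw [h0, mul_zero] at hl; omega
    refine ⟨c.toPow N (c.sectCast (by rw [mul_one, hl]) (c.sectPow (a (pt i)) l)), ?_⟩
    rw [c.locus_toPow, c.locus_sectCast, c.locus_sectPow _ hl0]
  choose b hb using hsec
  have hcov : ⨆ i, d.locus (ProjMap.sec d (Iso.refl _) b i) = ⊤ := by
    rw [← top_le_iff]
    intro q _
    obtain ⟨t, ht, hq⟩ := Set.mem_iUnion₂.1 (hS (Set.mem_univ q))
    refine Opens.mem_iSup.2 ⟨S.equivFinOfCardEq hm ⟨t, ht⟩, ?_⟩
    show q ∈ d.locus (b _)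
    rw [hb]
    have e1 : pt (S.equivFinOfCardEq hm ⟨t, ht⟩) = t := congrArg Subtype.val ((S.equivFinOfCardEq hm).symm_apply_apply ⟨t, ht⟩)
    rw [e1]
    exact hq
  let D := ProjMap.dataOfSections d (Iso.refl _) b hcov f
  let r := D.map
  haveI : IsProper r := by
    haveI : IsProper (r ≫ CohB1.ProjSpace.toSpec m k) := by rw [D.map_toSpec]; infer_instance
    haveI : IsSeparated (CohB1.ProjSpace.toSpec m k) := by
      unfold CohB1.ProjSpace.toSpec
      exact MorphismProperty.comp_mem @IsSeparated _ _ (Proj.isSeparated _) inferInstance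
    exact IsProper.of_comp r (CohB1.ProjSpace.toSpec m k)
  -- the power after extension
  let M := CohB1.tensorPow L N
  have hM : PicF.IsInvertible M := isInvertible_tensorPow hL N
  obtain ⟨eM⟩ := c.nonempty_tensorPow_iso_pow e N
  have hMK : CohB1.IsAmple ((Scheme.Modules.pullback g).obj M) := by
    obtain ⟨u⟩ := nonempty_pullback_tensorPow g hL N
    exact (isAmple_iff_of_iso u).2 ((isAmple_tensorPow_iff h.1 hN).1 h)
  -- fibres over closed points are finite
  have hfib : ∀ q : X, IsClosed ({q} : Set X) → (r ⁻¹' {r q}).Finite := by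
    intro q hq
    have hclosed : IsClosed (r ⁻¹' {r q}) := by
      refine IsClosed.preimage r.continuous ?_
      have := r.isClosedMap _ hq
      rwa [Set.image_singleton] at this
    obtain ⟨j, hj⟩ := Opens.mem_iSup.1 (hcov.ge (Opens.mem_top q))
    let J := Scheme.IdealSheafData.vanishingIdeal ⟨_, hclosed⟩
    have hr : Set.range J.subschemeι = r ⁻¹' {r q} := by
      rw [Scheme.IdealSheafData.range_subschemeι, Scheme.IdealSheafData.coe_support_vanishingIdeal]; rfl
    let ι' := pullback.snd J.subschemeι g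
    let π := pullback.fst J.subschemeι g
    have h1 : pull J.subschemeι (clsMod hM) = 1 := by
      rw [clsMod_eq hM eM, pull_cls, cls_eq_one_iff]
      refine ⟨d.pullSect J.subschemeι (le_top : (⊤ : J.subscheme.Opens) ≤ J.subschemeι ⁻¹ᵁ ⊤) (b j), ?_⟩
      rw [d.locus_pullSect, ← top_le_iff]
      intro z _
      have hz : r (J.subschemeι z) = r q := hr.le ⟨z, rfl⟩
      show J.subschemeι z ∈ d.locus (b j)
      have hpre := D.map_preimage j
      change r ⁻¹ᵁ _ = d.locus (b j) at hpre
      rw [← hpre]
      show r (J.subschemeι z) ∈ Proj.basicOpen _ (MvPolynomial.X j)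
      rw [hz]
      show q ∈ r ⁻¹ᵁ Proj.basicOpen _ (MvPolynomial.X j)
      rw [hpre]
      exact hj
    have hA : CohB1.IsAmple ((Scheme.Modules.pullback ι').obj ((Scheme.Modules.pullback g).obj M)) :=
      isAmple_pullback_of_isAffineHom ι' hMK
    have hcl : clsMod hA.1 = 1 := by
      have e1 : clsMod hA.1 = pull ι' (pull g (clsMod hM)) := by
        rw [← clsMod_pullback g hM, ← clsMod_pullback ι' (isInvertible_pullback g hM)]
      rw [e1, pull_comp, ← pullback.condition, ← pull_comp, h1, map_one]
    obtain ⟨u⟩ := (clsMod_eq_one_iff _).1 hcl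
    haveI : (pullback J.subschemeι g).IsQuasiAffine := isQuasiAffine_iff.2 ((isAmple_iff_of_iso u).1 hA)
    haveI : IsProper (ι' ≫ f') := inferInstance
    haveI := finite_of_isQuasiAffine (ι' ≫ f')
    haveI : Surjective π := MorphismProperty.pullback_fst _ _ ‹Surjective g›
    haveI : Finite J.subscheme := Finite.of_surjective π π.surjective
    rw [← hr]
    exact Set.finite_range _
  haveI : JacobsonSpace X := LocallyOfFiniteType.jacobsonSpace (Y := Spec _) f
  haveI : LocallyQuasiFinite r := by
    rw [← Scheme.Hom.quasiFiniteLocus_eq_top_iff]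
    by_contra hne'
    obtain ⟨q, hq, hqc⟩ := (r.quasiFiniteLocus.isOpen.isClosed_compl).exists_closed_singleton
      (Set.nonempty_compl.2 fun h => hne' (Opens.ext h))
    refine hq ?_
    rw [SetLike.mem_coe, Scheme.Hom.mem_quasiFiniteLocus, Scheme.Hom.quasiFiniteAt_iff_isOpen_singleton_asFiber]
    have hclosed : IsClosed (r ⁻¹' {r q}) := by
      refine IsClosed.preimage r.continuous ?_
      have := r.isClosedMap _ hqc
      rwa [Set.image_singleton] at this
    have hsub : r ⁻¹' {r q} ⊆ closedPoints X := by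
      have hcl : IsClosed (r ⁻¹' {r q} ∩ closedPoints X) := by
        rw [← Set.biUnion_of_singleton (r ⁻¹' {r q} ∩ closedPoints X)]
        exact ((hfib q hqc).inter_of_left _).isClosed_biUnion fun z hz => hz.2
      intro z hz
      have := closure_inter_closedPoints hclosed
      rw [hcl.closure_eq] at this
      exact (this.ge hz).2
    haveI : DiscreteTopology ↥(r ⁻¹' {r q}) := ((hfib q hqc).isDiscrete_of_subset_closedPoints hsub).to_subtype
    haveI : DiscreteTopology ↥(r.fiber (r q)) := (r.fiberHomeo (r q)).symm.discreteTopology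
    exact isOpen_discrete _
  haveI : IsFinite r := IsFinite.of_isProper_of_locallyQuasiFinite r
  refine (c.isAmple_iff e).2 ⟨inferInstance, (c.isAmp_pow_iff hN).1 fun q => ?_⟩
  obtain ⟨j, hj⟩ := Opens.mem_iSup.1 (hcov.ge (Opens.mem_top q))
  refine ⟨0, b j, hj, ?_⟩
  show IsAffineOpen (D.U j)
  rw [← D.map_preimage j]
  exact (Proj.isAffineOpen_basicOpen _ _ (ProjMap.X_mem j) one_pos).preimage r

end GrothLib.Cube
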