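import Groth.Agent.Lib.Cube.Kunneth
import Mathlib.AlgebraicGeometry.Geometrically.Integral
import Mathlib.AlgebraicGeometry.Morphisms.Proper

/-!
# Base change of schemes over a field, and transport of scalar cocycles
-/

universe u

open CategoryTheory CategoryTheory.Limits Opposite TopologicalSpace AlgebraicGeometry
open MonoidalCategory CartesianMonoidalCategory
open GrothLib.Ample

set_option backward.isDefEq.respectTransparency false

noncomputable section

namespace GrothLib.Cube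

variable {k : Type u} [Field k]

section Cartesian

variable {Q X Y T T' : Over (Spec (CommRingCat.of k))}

/-- Base change squares in a cartesian category. -/
theorem isPullback_whiskerLeft (Q : Over (Spec (CommRingCat.of k))) (i : T' ⟶ T) :
    IsPullback (Q ◁ i) (snd Q T') (snd Q T) i := by
  refine ⟨⟨whiskerLeft_snd _ _⟩, ⟨PullbackCone.IsLimit.mk _ (fun s => lift (s.fst ≫ fst _ _) s.snd) (fun s => ?_)
    (fun s => lift_snd _ _) fun s m h₁ h₂ => ?_⟩⟩
  · ext1
    · rw [Category.assoc, whiskerLeft_fst, lift_fst]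
    · rw [Category.assoc, whiskerLeft_snd, lift_snd_assoc]
      exact s.condition.symm
  · ext1
    · rw [lift_fst, ← h₁, Category.assoc, whiskerLeft_fst]
    · rw [lift_snd, h₂]

/-- The first projection of a product, base changed. -/
theorem isPullback_whiskerRight_fst (X Y T : Over (Spec (CommRingCat.of k))) :
    IsPullback (fst X Y ▷ T) (snd X Y ▷ T) (snd X T) (snd Y T) := by
  refine ⟨⟨by rw [whiskerRight_snd, whiskerRight_snd]⟩,
    ⟨PullbackCone.IsLimit.mk _ (fun s => lift (lift (s.fst ≫ fst _ _) (s.snd ≫ fst _ _)) (s.fst ≫ snd _ _))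
      (fun s => ?_) (fun s => ?_) fun s m h₁ h₂ => ?_⟩⟩
  · ext1
    · rw [Category.assoc, whiskerRight_fst, lift_fst_assoc, lift_fst]
    · rw [Category.assoc, whiskerRight_snd, lift_snd]
  · ext1
    · rw [Category.assoc, whiskerRight_fst, lift_fst_assoc, lift_snd]
    · rw [Category.assoc, whiskerRight_snd, lift_snd]
      exact s.condition
  · ext1
    · ext1
      · rw [lift_fst, lift_fst, ← h₁, Category.assoc, Category.assoc, whiskerRight_fst]
      · rw [lift_fst, lift_snd, ← h₂, Category.assoc, Category.assoc, whiskerRight_fst]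
    · rw [lift_snd, ← h₁, Category.assoc, whiskerRight_snd]

/-- On the underlying schemes. -/
theorem isPullback_whiskerLeft_left (Q : Over (Spec (CommRingCat.of k))) (i : T' ⟶ T) :
    IsPullback (Q ◁ i).left (snd Q T').left (snd Q T).left i.left :=
  (isPullback_whiskerLeft Q i).map (Over.forget _)

theorem isPullback_whiskerRight_fst_left (X Y T : Over (Spec (CommRingCat.of k))) :
    IsPullback (fst X Y ▷ T).left (snd X Y ▷ T).left (snd X T).left (snd Y T).left :=
  (isPullback_whiskerRight_fst X Y T).map (Over.forget _)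

theorem isClosedImmersion_of_section {S' : Over (Spec (CommRingCat.of k))} [IsSeparated Q.hom] (f : T ⟶ Q)
    (g : Q ⟶ S') (h : IsClosedImmersion (f.left ≫ g.left)) : IsClosedImmersion f.left := by
  haveI := h
  haveI : IsSeparated (g.left ≫ S'.hom) := by rw [Over.w g]; infer_instance
  haveI : IsSeparated g.left := IsSeparated.of_comp g.left S'.hom
  exact IsClosedImmersion.of_comp f.left g.left

end Cartesian

/-- A scheme over a field whose only functions are constants. -/
theorem isAntiAffine_of_point {X : Over (Spec (CommRingCat.of k))} [UniversallyClosed X.hom]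
    [IsIntegral X.left] (x₀ : 𝟙_ _ ⟶ X) : AntiAffine.IsAntiAffine X := by
  let F := (Scheme.ΓSpecIso (CommRingCat.of k)).inv ≫ X.hom.appTop
  let G := x₀.left.appTop ≫ (Scheme.ΓSpecIso (CommRingCat.of k)).hom
  have hFG : F ≫ G = 𝟙 _ := by
    show ((Scheme.ΓSpecIso (CommRingCat.of k)).inv ≫ X.hom.appTop) ≫ x₀.left.appTop ≫ _ = _
    rw [Category.assoc, ← Scheme.Hom.comp_appTop_assoc, Over.w x₀]
    show (Scheme.ΓSpecIso (CommRingCat.of k)).inv ≫ (𝟙 (Spec (CommRingCat.of k)) : _ ⟶ _).appTop ≫ _ = _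
    rw [Scheme.Hom.id_appTop, Category.id_comp, Iso.inv_hom_id]
  have hb : ∀ a, G.hom (F.hom a) = a := fun a => ConcreteCategory.congr_hom hFG a
  let _ := (isField_of_universallyClosed k X.hom).toField
  have hG : Function.Injective G.hom := RingHom.injective G.hom
  exact ⟨fun a b h => (hb a).symm.trans ((congrArg G.hom h).trans (hb b)),
    fun y => ⟨G.hom y, hG (hb _)⟩⟩

theorem surjective_appTop_of_isAntiAffine {X : Over (Spec (CommRingCat.of k))} (hX : AntiAffine.IsAntiAffine X) :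
    Function.Surjective X.hom.appTop.hom := fun y => by
  obtain ⟨a, ha⟩ := hX.2 y
  exact ⟨_, ha⟩

section Points

variable {Z : Over (Spec (CommRingCat.of k))}

/-- A field point lying over a rational point is constant. -/
theorem eq_toUnit_comp_of_apply (z₀ : 𝟙_ _ ⟶ Z) {F : Type u} [Field F]
    (Th : Spec (CommRingCat.of F) ⟶ Spec (CommRingCat.of k)) (g : Over.mk Th ⟶ Z)
    (h : g.left (IsLocalRing.closedPoint F) = z₀.left (IsLocalRing.closedPoint k)) :
    g = toUnit (Over.mk Th) ≫ z₀ := by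
  obtain ⟨V, hV, hzV, -⟩ := exists_isAffineOpen_mem_and_subset
    (x := (z₀.left (IsLocalRing.closedPoint k) : ↥Z.left)) (U := ⊤) trivial
  let g' : Spec (CommRingCat.of F) ⟶ Z.left := g.left
  let z' : Spec (CommRingCat.of k) ⟶ Z.left := z₀.left
  have hr : (⊤ : (Spec (CommRingCat.of F)).Opens) ≤ g' ⁻¹ᵁ V := fun t _ => by
    rw [show t = IsLocalRing.closedPoint F from Subsingleton.elim (α := PrimeSpectrum F) _ _]
    show g.left (IsLocalRing.closedPoint F) ∈ V
    rw [h]; exact hzV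
  have hr' : (⊤ : (Spec (CommRingCat.of k)).Opens) ≤ z' ⁻¹ᵁ V := fun q _ => by
    rw [show q = IsLocalRing.closedPoint k from Subsingleton.elim (α := PrimeSpectrum k) _ _]; exact hzV
  let a : Γ(Z.left, V) ⟶ CommRingCat.of F := g'.appLE V ⊤ hr ≫ (Scheme.ΓSpecIso _).hom
  let b : Γ(Z.left, V) ⟶ CommRingCat.of k := z'.appLE V ⊤ hr' ≫ (Scheme.ΓSpecIso _).hom
  let c : CommRingCat.of k ⟶ CommRingCat.of F :=
    (Scheme.ΓSpecIso (CommRingCat.of k)).inv ≫ Th.appTop ≫ (Scheme.ΓSpecIso _).hom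
  have hgw : g' ≫ Z.hom = Th := Over.w g
  have hzw : z' ≫ Z.hom = 𝟙 _ := Over.w z₀
  have hc : ∀ r : k, a.hom (cst Z.hom V r) = c.hom r ∧ b.hom (cst Z.hom V r) = r := fun r => by
    constructor
    · show (Scheme.ΓSpecIso _).hom.hom ((g'.appLE V ⊤ _).hom (cst Z.hom V r)) = _
      rw [appLE_cst, hgw]
      show (Scheme.ΓSpecIso _).hom.hom ((Th.appLE ⊤ ⊤ le_top).hom _) = _
      rw [show Th.appLE ⊤ ⊤ le_top = Th.appTop from Scheme.Hom.appLE_eq_app _]
      rfl
    · show (Scheme.ΓSpecIso _).hom.hom ((z'.appLE V ⊤ _).hom (cst Z.hom V r)) = r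
      rw [appLE_cst, hzw]
      have e : ((𝟙 (Spec (CommRingCat.of k)) : _ ⟶ _).appLE ⊤ ⊤ le_top) = 𝟙 _ := by simp [Scheme.Hom.appLE]
      show (Scheme.ΓSpecIso (CommRingCat.of k)).hom.hom (((Scheme.ΓSpecIso (CommRingCat.of k)).inv ≫
        (𝟙 (Spec (CommRingCat.of k)) : _ ⟶ _).appLE ⊤ ⊤ le_top).hom r) = r
      rw [e, Category.comp_id]
      show ((Scheme.ΓSpecIso (CommRingCat.of k)).inv ≫ (Scheme.ΓSpecIso (CommRingCat.of k)).hom).hom r = r
      rw [Iso.inv_hom_id]
      rfl
  have hab : a = b ≫ c := by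
    ext x
    show a.hom x = c.hom (b.hom x)
    rw [← (hc (b.hom x)).1, ← sub_eq_zero, ← map_sub]
    set y := x - cst Z.hom V (b.hom x) with hy
    have hyb : b.hom y = 0 := by rw [hy, map_sub, (hc _).2, sub_self]
    by_contra hne
    have h1 : IsUnit ((g'.appLE V ⊤ hr).hom y) :=
      (MulEquiv.isUnit_map (Scheme.ΓSpecIso (CommRingCat.of F)).commRingCatIsoToRingEquiv.toMulEquiv).1
        (isUnit_iff_ne_zero.2 hne)
    have h3 := Scheme.basicOpen_of_isUnit _ h1
    rw [Scheme.basicOpen_appLE] at h3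
    have h2 : g' (IsLocalRing.closedPoint F) ∈ Z.left.basicOpen y :=
      (h3.ge (Opens.mem_top _)).2
    have h5 : IsLocalRing.closedPoint k ∈ (Spec (CommRingCat.of k)).basicOpen ((z'.appLE V ⊤ hr').hom y) := by
      rw [Scheme.basicOpen_appLE]
      refine ⟨trivial, ?_⟩
      show z₀.left (IsLocalRing.closedPoint k) ∈ Z.left.basicOpen y
      rw [← h]; exact h2
    have h6 : (z'.appLE V ⊤ hr').hom y = 0 :=
      (Scheme.ΓSpecIso (CommRingCat.of k)).commRingCatIsoToRingEquiv.injective (hyb.trans (map_zero _).symm)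
    rw [h6, Scheme.basicOpen_zero] at h5
    exact h5
  have hg : g' = Spec.map a ≫ hV.fromSpec := by
    rw [show a = g'.appLE V ⊤ hr ≫ (Scheme.ΓSpecIso _).hom from rfl, Spec.map_comp,
      Category.assoc, IsAffineOpen.SpecMap_appLE_fromSpec g' hV (isAffineOpen_top _)]
    simp [IsAffineOpen.fromSpec_top, Scheme.isoSpec_Spec]
  have hz : z' = Spec.map b ≫ hV.fromSpec := by
    rw [show b = z'.appLE V ⊤ hr' ≫ (Scheme.ΓSpecIso _).hom from rfl, Spec.map_comp,
      Category.assoc, IsAffineOpen.SpecMap_appLE_fromSpec z' hV (isAffineOpen_top _)]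
    simp [IsAffineOpen.fromSpec_top, Scheme.isoSpec_Spec]
  have hcTh : Spec.map c = Th := by
    show Spec.map ((Scheme.ΓSpecIso (CommRingCat.of k)).inv ≫ Th.appTop ≫ (Scheme.ΓSpecIso _).hom) = Th
    rw [Spec.map_comp, Spec.map_comp, Category.assoc, SpecMap_ΓSpecIso_hom, ← Scheme.toSpecΓ_naturality_assoc,
      ← SpecMap_ΓSpecIso_hom, ← Spec.map_comp, Iso.inv_hom_id, Spec.map_id, Category.comp_id]
  ext1
  show g' = _
  rw [hg, hab, Spec.map_comp, Category.assoc, ← hz, hcTh]
  rfl

end Points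

section Transport

variable {P P' P'' : Scheme.{u}} {κ : Type u} {W : κ → P.Opens} {h : ∀ a b, Γ(P, W a ⊓ W b)}

theorem sCoc_spull (hh : SCoc W h) (j : P' ⟶ P) : SCoc (fun a => j ⁻¹ᵁ W a) (spull j W h) := by
  intro a b d V ha hb hd
  have e : V ≤ j ⁻¹ᵁ (W a ⊓ W b ⊓ W d) := le_inf (le_inf ha hb) hd
  have h1 := congrArg (j.appLE _ V e).hom
    (hh a b d (W a ⊓ W b ⊓ W d) (inf_le_left.trans inf_le_left) (inf_le_left.trans inf_le_right) inf_le_right)
  simp only [map_add, appLE_res] at h1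
  simp only [spull, res_appLE]
  exact h1

theorem sCob_spull_congr {j j' : P' ⟶ P} (e : j = j') :
    SCob (fun a => j ⁻¹ᵁ W a) (spull j W h) ↔ SCob (fun a => j' ⁻¹ᵁ W a) (spull j' W h) := by
  subst e; rfl

theorem spull_spull (i : P'' ⟶ P') (j : P' ⟶ P) :
    spull i (fun a => j ⁻¹ᵁ W a) (spull j W h) = spull (i ≫ j) W h := by
  funext a b
  show (i.appLE _ _ le_rfl).hom ((j.appLE _ _ le_rfl).hom (h a b)) = _
  rw [← CommRingCat.comp_apply, Scheme.Hom.appLE_comp_appLE]
  rfl

theorem sCob_of_spull_isIso {j : P' ⟶ P} [IsIso j] (hj : SCob (fun a => j ⁻¹ᵁ W a) (spull j W h)) : SCob W h := by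
  obtain ⟨v, hv⟩ := hj
  have hb : ∀ U : P.Opens, Function.Bijective (j.appLE U (j ⁻¹ᵁ U) le_rfl).hom := fun U =>
    bijective_appLE_of_eq j (by rw [Scheme.Hom.opensRange_of_isIso]; exact le_top) rfl
  choose w hw using fun a => (hb (W a)).2 (v a)
  refine ⟨w, fun a b => (hb (W a ⊓ W b)).1 ?_⟩
  have h1 := hv a b
  rw [← hw a, ← hw b] at h1
  simp only [spull, res_appLE] at h1
  rw [map_sub, appLE_res, appLE_res]
  exact h1

end Transport

end GrothLib.Cube
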