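import Groth.Agent.Lib.Cube.Global
import Groth.Agent.Lib.AntiAffine.Prod

/-!
# The theorem of the cube

For proper geometrically integral schemes `X`, `Y` and a normal integral scheme `Z` of finite type over a field, a line
bundle on `X × Y × Z` trivial on the three slices through rational points is trivial.
-/

universe u

open CategoryTheory CategoryTheory.Limits Opposite TopologicalSpace AlgebraicGeometry
open MonoidalCategory CartesianMonoidalCategory
open GrothLib.Ample

set_option backward.isDefEq.respectTransparency false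

noncomputable section

namespace GrothLib.Cube

variable {k : Type u} [Field k] {X Y Z : Over (Spec (CommRingCat.of k))}

theorem isIntegral_prod_of_field [IsProper X.hom] [GeometricallyIntegral X.hom] [IsProper Y.hom]
    [GeometricallyIntegral Y.hom] {F : Type u} [Field F] (Th : Spec (CommRingCat.of F) ⟶ Spec (CommRingCat.of k)) :
    IsIntegral ((X ⊗ Y) ⊗ Over.mk Th).left := by
  haveI : IsIntegral (Y ⊗ Over.mk Th).left := inferInstanceAs (IsIntegral (pullback Y.hom Th))
  haveI : IsLocallyNoetherian (Y ⊗ Over.mk Th).left :=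
    LocallyOfFiniteType.isLocallyNoetherian (pullback.snd Y.hom Th)
  haveI hI : IsIntegral (X ⊗ (Y ⊗ Over.mk Th)).left :=
    inferInstanceAs (IsIntegral (pullback X.hom (Y ⊗ Over.mk Th).hom))
  let e : ((X ⊗ Y) ⊗ Over.mk Th).left ≅ (X ⊗ (Y ⊗ Over.mk Th)).left :=
    (Over.forget _).mapIso (α_ X Y (Over.mk Th))
  haveI : Nonempty ((X ⊗ Y) ⊗ Over.mk Th).left := ⟨e.inv (Classical.arbitrary _)⟩
  exact isIntegral_of_isOpenImmersion e.hom

/-- The theorem of the cube, for cocycles. -/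
theorem triv_cube [IsProper X.hom] [GeometricallyIntegral X.hom] [IsProper Y.hom] [GeometricallyIntegral Y.hom]
    [IsIntegral Z.left] [LocallyOfFiniteType Z.hom]
    (hnorm : ∀ z : Z.left, IsIntegrallyClosed (Z.left.presheaf.stalk z))
    (x₀ : 𝟙_ (Over (Spec (CommRingCat.of k))) ⟶ X) (y₀ : 𝟙_ (Over (Spec (CommRingCat.of k))) ⟶ Y)
    (z₀ : 𝟙_ (Over (Spec (CommRingCat.of k))) ⟶ Z) (c : Cocycle ((X ⊗ Y) ⊗ Z).left)
    (hy : Triv (c.comap (lift (𝟙 X) (toUnit X ≫ y₀) ▷ Z).left))
    (hx : Triv (c.comap (lift (toUnit Y ≫ x₀) (𝟙 Y) ▷ Z).left))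
    (hz : Triv (c.comap (lift (𝟙 (X ⊗ Y)) (toUnit (X ⊗ Y) ≫ z₀)).left)) : Triv c := by
  haveI : IsLocallyNoetherian Z.left := LocallyOfFiniteType.isLocallyNoetherian Z.hom
  haveI : IsProper (X ⊗ Y).hom := inferInstanceAs (IsProper (pullback.fst X.hom Y.hom ≫ X.hom))
  haveI := isProper_snd_left (X ⊗ Y) Z
  haveI := flat_snd_left (X ⊗ Y) Z
  let p := (snd (X ⊗ Y) Z).left
  have hQ : AntiAffine.IsAntiAffine (X ⊗ Y) :=
    AntiAffine.antiAffine_tensor (isAntiAffine_of_proper (X := X) x₀) (isAntiAffine_of_proper (X := Y) y₀) x₀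
  let q₀ : 𝟙_ (Over (Spec (CommRingCat.of k))) ⟶ X ⊗ Y := lift x₀ y₀
  let ε := lift (toUnit Z ≫ q₀) (𝟙 Z)
  refine triv_of_generic (p := p) (ε := ε.left) ?_ hnorm (fun K _ g => ?_) (fun V hV => ?_) ?_ ?_
  · rw [← Over.comp_left, lift_snd, Over.id_left]
  · let gg : Over.mk (g ≫ Z.hom) ⟶ Z := Over.homMk g rfl
    haveI := isIntegral_prod_of_field (X := X) (Y := Y) (g ≫ Z.hom)
    let e := (isPullback_whiskerLeft_left (X ⊗ Y) gg).isoPullback
    haveI : Nonempty ↥(pullback p g) := ⟨e.hom (Classical.arbitrary _)⟩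
    exact isIntegral_of_isOpenImmersion e.inv
  · rw [Scheme.Hom.app_eq_appLE]
    exact snd_appLE_surjective (X := X ⊗ Y) (Y := Z) hQ hV
  · let η := genericPoint Z.left
    let gη : Over.mk (Z.left.fromSpecStalk η ≫ Z.hom) ⟶ Z := Over.homMk (Z.left.fromSpecStalk η) rfl
    let e := (isPullback_whiskerLeft_left (X ⊗ Y) gη).isoPullback
    have he : e.inv ≫ ((X ⊗ Y) ◁ gη).left = pullback.fst p (Z.left.fromSpecStalk η) :=
      (isPullback_whiskerLeft_left (X ⊗ Y) gη).isoPullback_inv_fst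
    rw [← he]
    exact triv_comap_comp _ (triv_generic x₀ y₀ z₀ c hy hx hz)
  · have he : ε = lift (toUnit Z ≫ y₀) (𝟙 Z) ≫ (lift (toUnit Y ≫ x₀) (𝟙 Y) ▷ Z) := by
      ext1
      · simp only [ε, q₀, lift_fst, Category.assoc, whiskerRight_fst, lift_fst_assoc, comp_lift, comp_toUnit_assoc,
          Category.comp_id]
      · simp only [ε, lift_snd, Category.assoc, whiskerRight_snd]
    rw [he, Over.comp_left]
    exact triv_comap_comp _ hx

end GrothLib.Cube
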