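import Groth.Agent.Lib.Cube.Generic
import Mathlib.RingTheory.Localization.BaseChange

/-!
# Functions on the fibre over a point of an affine open

For `P → Z`, an affine open `V` of `Z` and `θ : Γ(Z, V) → K` presenting the residue field of a prime, the functions on the
fibre over an affine open `O` of `P` over `V` are fractions of functions on `O` modulo the prime.
-/

universe u

open CategoryTheory CategoryTheory.Limits Opposite TopologicalSpace AlgebraicGeometry
open GrothLib.Ample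
open scoped TensorProduct

set_option backward.isDefEq.respectTransparency false

noncomputable section

namespace GrothLib.Cube

section Algebra

variable {A K : Type u} [CommRing A] [Field K] [Algebra A K] {M : Type u} [AddCommGroup M] [Module A M]

/-- Every element of `M ⊗ K` is a fraction. -/
theorem exists_smul_eq_tmul_one (hfrac : ∀ x : K, ∃ r s : A, algebraMap A K s ≠ 0 ∧ x * algebraMap A K s = algebraMap A K r)
    (y : M ⊗[A] K) : ∃ (m : M) (s : A), algebraMap A K s ≠ 0 ∧ s • y = m ⊗ₜ[A] (1 : K) := by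
  induction y using TensorProduct.induction_on with
  | zero => exact ⟨0, 1, by simp, by simp⟩
  | tmul m x =>
    obtain ⟨r, s, hs, hx⟩ := hfrac x
    refine ⟨r • m, s, hs, ?_⟩
    rw [TensorProduct.smul_tmul', TensorProduct.smul_tmul, TensorProduct.smul_tmul, Algebra.smul_def,
      Algebra.smul_def, mul_one, mul_comm, hx]
  | add x y hx hy =>
    obtain ⟨m, s, hs, hx⟩ := hx
    obtain ⟨n, t, ht, hy⟩ := hy
    refine ⟨t • m + s • n, s * t, by rw [map_mul]; exact mul_ne_zero hs ht, ?_⟩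
    rw [smul_add, TensorProduct.add_tmul, mul_smul, mul_smul, smul_comm s t x, hx, hy, TensorProduct.smul_tmul',
      TensorProduct.smul_tmul']

/-- An element vanishing on the residue field is, up to a unit, in the prime times the module. -/
theorem exists_smul_mem_of_tmul_one_eq_zero
    (hfrac : ∀ x : K, ∃ r s : A, algebraMap A K s ≠ 0 ∧ x * algebraMap A K s = algebraMap A K r)
    {m : M} (hm : m ⊗ₜ[A] (1 : K) = 0) :
    ∃ s : A, algebraMap A K s ≠ 0 ∧ s • m ∈ RingHom.ker (algebraMap A K) • (⊤ : Submodule A M) := by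
  set p := RingHom.ker (algebraMap A K)
  let S : Submonoid A := (RingHom.ker (algebraMap A K)).primeCompl (hp := RingHom.ker_isPrime _)
  let g : (A ⧸ p) →ₗ[A] K := (Ideal.Quotient.liftₐ p (Algebra.ofId A K) fun a ha => ha).toLinearMap
  have hg : ∀ a : A, g (Ideal.Quotient.mk p a) = algebraMap A K a := fun a => rfl
  haveI : IsLocalizedModule S g := by
    constructor
    · intro s
      have hu : IsUnit (algebraMap A K (s : A)) := isUnit_iff_ne_zero.2 fun h => s.2 h
      refine (Module.End.isUnit_iff _).2 ⟨fun x y h => ?_, fun y => ⟨(↑hu.unit⁻¹ : K) * y, ?_⟩⟩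
      · have h' : algebraMap A K (s : A) * x = algebraMap A K (s : A) * y := by
          simpa [Module.algebraMap_end_apply, Algebra.smul_def] using h
        exact hu.mul_left_cancel h'
      · simp [Module.algebraMap_end_apply, Algebra.smul_def, ← mul_assoc, mul_inv_cancel₀ hu.ne_zero]
    · intro y
      obtain ⟨r, s, hs, hy⟩ := hfrac y
      refine ⟨⟨Ideal.Quotient.mk p r, ⟨s, hs⟩⟩, ?_⟩
      show s • y = g _
      rw [hg, Algebra.smul_def, mul_comm, hy]
    · intro x y h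
      obtain ⟨a, rfl⟩ := Ideal.Quotient.mk_surjective x
      obtain ⟨b, rfl⟩ := Ideal.Quotient.mk_surjective y
      refine ⟨1, ?_⟩
      rw [one_smul, one_smul, Ideal.Quotient.eq]
      show algebraMap A K (a - b) = 0
      rw [map_sub, ← hg, ← hg, h, sub_self]
  let gT : (A ⧸ p) ⊗[A] M →ₗ[A] K ⊗[A] M := TensorProduct.AlgebraTensorModule.rTensor A M g
  haveI : IsLocalizedModule S gT := inferInstanceAs (IsLocalizedModule S (TensorProduct.AlgebraTensorModule.rTensor A M g))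
  have h0 : gT ((Ideal.Quotient.mk p 1) ⊗ₜ[A] m) = gT 0 := by
    have hc := congrArg (TensorProduct.comm A M K) hm
    rw [TensorProduct.comm_tmul, map_zero] at hc
    rw [map_zero]
    show g (Ideal.Quotient.mk p 1) ⊗ₜ[A] m = 0
    rw [hg, map_one]
    exact hc
  obtain ⟨s, hs⟩ := (IsLocalizedModule.eq_iff_exists S gT).1 h0
  refine ⟨s, fun h => s.2 h, ?_⟩
  have hs' := congrArg (TensorProduct.quotTensorEquivQuotSMul M p) hs
  rw [smul_zero, map_zero, show (s • ((Ideal.Quotient.mk p 1) ⊗ₜ[A] m) : (A ⧸ p) ⊗[A] M) =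
    (Ideal.Quotient.mk p 1) ⊗ₜ[A] ((s : A) • m) from (TensorProduct.tmul_smul _ _ _).symm] at hs'
  rw [TensorProduct.quotTensorEquivQuotSMul_mk_tmul, one_smul, Submodule.Quotient.mk_eq_zero] at hs'
  exact hs'

end Algebra

variable {P Z F : Scheme.{u}} (p : P ⟶ Z) {V : Z.Opens} (hV : IsAffineOpen V)
  {K : Type u} [Field K] (θ : Γ(Z, V) →+* K)

/-- Pulled back functions from the base. -/
abbrev pc {O : P.Opens} (e : O ≤ p ⁻¹ᵁ V) : Γ(Z, V) →+* Γ(P, O) := (p.appLE V O e).hom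

variable {j : F ⟶ P} {q : F ⟶ Spec (CommRingCat.of K)}

/-- Fractions, and the kernel, of restriction to a fibre. -/
theorem fibre_structure (H : IsPullback j q p (Spec.map (CommRingCat.ofHom θ) ≫ hV.fromSpec))
    (hfrac : ∀ x : K, ∃ r s : Γ(Z, V), θ s ≠ 0 ∧ x * θ s = θ r)
    {O : P.Opens} (hO : IsAffineOpen O) (e : O ≤ p ⁻¹ᵁ V) :
    (∀ x : Γ(F, j ⁻¹ᵁ O), ∃ (b : Γ(P, O)) (s : Γ(Z, V)), θ s ≠ 0 ∧
      (j.app O).hom (pc p e s) * x = (j.app O).hom b) ∧
    (∀ b : Γ(P, O), (j.app O).hom b = 0 →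
      ∃ s : Γ(Z, V), θ s ≠ 0 ∧ pc p e s * b ∈ Ideal.map (pc p e) (RingHom.ker θ)) := by
  set g := Spec.map (CommRingCat.ofHom θ) ≫ hV.fromSpec
  have hgV : (⊤ : (Spec (CommRingCat.of K)).Opens) ≤ g ⁻¹ᵁ V := fun t _ => by
    show hV.fromSpec (Spec.map (CommRingCat.ofHom θ) t) ∈ V
    have := Set.mem_range_self (f := hV.fromSpec) (Spec.map (CommRingCat.ofHom θ) t)
    rwa [hV.range_fromSpec] at this
  have hgθ : ∀ a, (g.appLE V ⊤ hgV).hom a = (Scheme.ΓSpecIso (CommRingCat.of K)).inv.hom (θ a) := fun a => by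
    have h0 : g.appLE V ⊤ hgV = CommRingCat.ofHom θ ≫ (Scheme.ΓSpecIso (CommRingCat.of K)).inv := by
      show (Spec.map (CommRingCat.ofHom θ) ≫ hV.fromSpec).appLE V ⊤ hgV = _
      rw [← Scheme.Hom.appLE_comp_appLE _ _ V ⊤ ⊤ (by rw [IsAffineOpen.fromSpec_preimage_self]) le_top,
        show (Spec.map (CommRingCat.ofHom θ)).appLE ⊤ ⊤ le_top = (Spec.map (CommRingCat.ofHom θ)).appTop
          from Scheme.Hom.appLE_eq_app _]
      rw [show hV.fromSpec.appLE V ⊤ (by rw [IsAffineOpen.fromSpec_preimage_self]) =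
        (Scheme.ΓSpecIso Γ(Z, V)).inv from by
          simp [Scheme.Hom.appLE, IsAffineOpen.fromSpec_app_self, ← Functor.map_comp]]
      rw [← Scheme.ΓSpecIso_inv_naturality]
    exact ConcreteCategory.congr_hom h0 a
  have eF : j ⁻¹ᵁ O = j ⁻¹ᵁ O ⊓ q ⁻¹ᵁ ⊤ := by simp
  have hP := (AlgebraicGeometry.isIso_pushoutSection_iff H (US := V) (UT := ⊤) (UX := O) (UY := j ⁻¹ᵁ O)
    hgV e eF).1 (AlgebraicGeometry.isIso_pushoutSection_of_isAffineOpen H hgV e eF hV
      (isAffineOpen_top _) hO)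
  letI := (pc p e).toAlgebra
  letI := θ.toAlgebra
  let inr : CommRingCat.of K ⟶ Γ(F, j ⁻¹ᵁ O) :=
    (Scheme.ΓSpecIso (CommRingCat.of K)).inv ≫ q.appLE ⊤ (j ⁻¹ᵁ O) le_top
  have hP' : IsPushout (CommRingCat.ofHom (algebraMap Γ(Z, V) Γ(P, O))) (CommRingCat.ofHom (algebraMap Γ(Z, V) K))
      (j.appLE O (j ⁻¹ᵁ O) le_rfl) inr := by
    refine hP.of_iso (Iso.refl _) (Iso.refl _) (Scheme.ΓSpecIso (CommRingCat.of K)) (Iso.refl _) ?_ ?_ ?_ ?_
    · simp; rfl
    · ext a
      show (Scheme.ΓSpecIso (CommRingCat.of K)).hom.hom ((g.appLE V ⊤ hgV).hom a) = θ a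
      rw [hgθ, ← CommRingCat.comp_apply, Iso.inv_hom_id]
      rfl
    · simp
    · simp [inr]
  have hT := CommRingCat.isPushout_tensorProduct Γ(Z, V) Γ(P, O) K
  let ι := hT.isoIsPushout _ _ hP'
  have hb : Function.Bijective ι.hom.hom := ι.commRingCatIsoToRingEquiv.bijective
  have e1 : ∀ b : Γ(P, O), ι.hom.hom (b ⊗ₜ[Γ(Z, V)] (1 : K)) = (j.app O).hom b := fun b => by
    have h1 := congrArg (fun f => (CommRingCat.Hom.hom f) b) (hT.inl_isoIsPushout_hom _ _ hP')
    rw [Scheme.Hom.app_eq_appLE]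
    exact h1
  refine ⟨fun x => ?_, fun b hb0 => ?_⟩
  · obtain ⟨y, hy⟩ := hb.2 x
    obtain ⟨m, s, hs, hsy⟩ := exists_smul_eq_tmul_one hfrac (y : Γ(P, O) ⊗[Γ(Z, V)] K)
    refine ⟨m, s, hs, ?_⟩
    rw [← e1, ← e1, ← hy, ← map_mul ι.hom.hom, ← hsy]
    congr 1
    show (pc p e s ⊗ₜ[Γ(Z, V)] (1 : K)) * _ = s • _
    rw [Algebra.smul_def]
    rfl
  · rw [← e1] at hb0
    have h0 : b ⊗ₜ[Γ(Z, V)] (1 : K) = 0 := hb.1 (hb0.trans (map_zero _).symm)
    obtain ⟨s, hs, hmem⟩ := exists_smul_mem_of_tmul_one_eq_zero hfrac h0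
    refine ⟨s, hs, ?_⟩
    rw [Ideal.smul_top_eq_map] at hmem
    rw [Algebra.smul_def] at hmem
    exact hmem

/-- Over a point with zero kernel, restriction to the fibre is injective. -/
theorem eq_zero_of_app_eq_zero [Flat p] [IsDomain Γ(Z, V)]
    (H : IsPullback j q p (Spec.map (CommRingCat.ofHom θ) ≫ hV.fromSpec))
    (hfrac : ∀ x : K, ∃ r s : Γ(Z, V), θ s ≠ 0 ∧ x * θ s = θ r) (hθ : RingHom.ker θ = ⊥)
    {O : P.Opens} (e : O ≤ p ⁻¹ᵁ V) {b : Γ(P, O)} (hb : (j.app O).hom b = 0) : b = 0 := by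
  refine eq_of_cover (fun W : {W : P.affineOpens // W.1 ≤ O} => W.1.1) (fun W => W.2) (fun y hy => ?_) fun W => ?_
  · obtain ⟨W, hW, hyW, hWO⟩ := exists_isAffineOpen_mem_and_subset hy
    exact Opens.mem_iSup.2 ⟨⟨⟨W, hW⟩, hWO⟩, hyW⟩
  · rw [map_zero]
    have eW : W.1.1 ≤ p ⁻¹ᵁ V := W.2.trans e
    have hb' : (j.app W.1.1).hom (res W.2 b) = 0 := by
      rw [Scheme.Hom.app_eq_appLE, appLE_res]
      rw [Scheme.Hom.app_eq_appLE] at hb
      have := congrArg (res (j.preimage_mono W.2)) hb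
      rwa [res_appLE, map_zero] at this
    obtain ⟨s, hs, hmem⟩ := (fibre_structure p hV θ H hfrac W.1.2 eW).2 _ hb'
    rw [hθ, Ideal.map_bot, Ideal.mem_bot] at hmem
    have hs0 : s ≠ 0 := fun h => hs (by rw [h, map_zero])
    have hf := p.flat_appLE hV W.1.2 eW
    algebraize [(p.appLE V W.1.1 eW).hom]
    have hreg : IsSMulRegular Γ(P, W.1.1) s :=
      (show IsSMulRegular Γ(Z, V) s from fun x y h => mul_left_cancel₀ hs0 h).of_flat (S := Γ(P, W.1.1))
    refine hreg ?_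
    simp only [Algebra.smul_def, mul_zero]
    exact hmem

end GrothLib.Cube
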