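import Groth.Agent.Lib.Cube.Mod
import Groth.Agent.Lib.Ample.CocPullback
import Mathlib.RingTheory.TensorProduct.IsBaseChangeFree
import Mathlib.AlgebraicGeometry.Morphisms.Flat

/-!
# Sections of a cocycle after a field extension are combinations of sections
-/

universe u

open CategoryTheory CategoryTheory.Limits Opposite TopologicalSpace AlgebraicGeometry
open GrothLib.Ample

set_option backward.isDefEq.respectTransparency false

noncomputable section

namespace GrothLib.Cube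

variable {k K : Type u} [Field k] [Field K] [Algebra k K] {X X' : Scheme.{u}}
  {f : X ⟶ Spec (CommRingCat.of k)} {f' : X' ⟶ Spec (CommRingCat.of K)} {g : X' ⟶ X}
  (H : IsPullback g f' f (Spec.map (CommRingCat.ofHom (algebraMap k K))))

/-- Functions on the preimage as combinations of functions with coefficients in a basis. -/
def comb (g : X' ⟶ X) (f' : X' ⟶ Spec (CommRingCat.of K)) {ι : Type*} (e : ι → K) (W : X.Opens)
    (a : ι →₀ Γ(X, W)) : Γ(X', g ⁻¹ᵁ W) :=
  a.sum fun j r => (g.appLE W (g ⁻¹ᵁ W) le_rfl).hom r * cst f' (g ⁻¹ᵁ W) (e j)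

include H in
theorem bijective_comb [IsNoetherian X] {ι : Type*} (e : Module.Basis ι k K) (W : X.Opens) :
    Function.Bijective (comb g f' e W) := by
  haveI : Flat (Spec.map (CommRingCat.ofHom (algebraMap k K))) := inferInstance
  have hP : IsPushout (f.appLE ⊤ W le_top) ((Spec.map (CommRingCat.ofHom (algebraMap k K))).appLE ⊤ ⊤ le_top)
      (g.appLE W (g ⁻¹ᵁ W) le_rfl) (f'.appLE ⊤ (g ⁻¹ᵁ W) le_top) :=
    (AlgebraicGeometry.isIso_pushoutSection_iff H (US := ⊤) (UT := ⊤) (UX := W) (UY := g ⁻¹ᵁ W) le_top le_top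
      (by simp)).1 (isIso_pushoutSection_of_isQuasiSeparated_of_flat_right H _ _ _
        (isAffineOpen_top _) (isAffineOpen_top _) (NoetherianSpace.isCompact _)
        (fun _ _ _ _ _ _ _ _ => NoetherianSpace.isCompact _))
  have hP' : IsPushout (CommRingCat.ofHom (cst f W)) (CommRingCat.ofHom (algebraMap k K))
      (g.appLE W (g ⁻¹ᵁ W) le_rfl) (CommRingCat.ofHom (cst f' (g ⁻¹ᵁ W))) := by
    refine hP.of_iso (Scheme.ΓSpecIso _) (Iso.refl _) (Scheme.ΓSpecIso _) (Iso.refl _) ?_ ?_ ?_ ?_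
    · ext r
      simp [cst]
    · rw [show (Spec.map (CommRingCat.ofHom (algebraMap k K))).appLE ⊤ ⊤ le_top =
        (Spec.map (CommRingCat.ofHom (algebraMap k K))).appTop from Scheme.Hom.appLE_eq_app _]
      exact Scheme.ΓSpecIso_naturality _
    · simp
    · ext r
      simp [cst]
  letI : Algebra k Γ(X, W) := (cst f W).toAlgebra
  letI : Algebra K Γ(X', g ⁻¹ᵁ W) := (cst f' (g ⁻¹ᵁ W)).toAlgebra
  letI : Algebra Γ(X, W) Γ(X', g ⁻¹ᵁ W) := (g.appLE W (g ⁻¹ᵁ W) le_rfl).hom.toAlgebra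
  letI : Algebra k Γ(X', g ⁻¹ᵁ W) := ((cst f' (g ⁻¹ᵁ W)).comp (algebraMap k K)).toAlgebra
  haveI : IsScalarTower k K Γ(X', g ⁻¹ᵁ W) := IsScalarTower.of_algebraMap_eq fun _ => rfl
  haveI : IsScalarTower k Γ(X, W) Γ(X', g ⁻¹ᵁ W) := IsScalarTower.of_algebraMap_eq fun r =>
    (ConcreteCategory.congr_hom hP'.w r).symm
  haveI hA : Algebra.IsPushout k Γ(X, W) K Γ(X', g ⁻¹ᵁ W) := CommRingCat.isPushout_iff_isPushout.1 hP'
  let b := IsBaseChange.basis e hA.out
  have hb : ∀ a, comb g f' e W a = Finsupp.linearCombination Γ(X, W) b a := fun a => by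
    rw [comb, Finsupp.linearCombination_apply]
    refine Finsupp.sum_congr fun j _ => ?_
    rw [IsBaseChange.basis_apply, Algebra.smul_def]
    rfl
  have hbij : Function.Bijective (Finsupp.linearCombination Γ(X, W) b) := by
    rw [show ⇑(Finsupp.linearCombination Γ(X, W) b) = ⇑b.repr.symm from funext fun a => (b.repr_symm_apply a).symm]
    exact b.repr.symm.bijective
  rw [show comb g f' e W = _ from funext hb]
  exact hbij

theorem res_comb {ι : Type*} (e : ι → K) {W V : X.Opens} (h : V ≤ W) (a : ι →₀ Γ(X, W)) :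
    res (g.preimage_mono h) (comb g f' e W a) = comb g f' e V (a.mapRange (res h) (map_zero _)) := by
  rw [comb, comb, Finsupp.sum_mapRange_index (fun _ => by simp), map_finsuppSum]
  refine Finsupp.sum_congr fun j _ => ?_
  rw [map_mul, res_cst, res_appLE, appLE_res]

theorem comb_smul {ι : Type*} (e : ι → K) {W : X.Opens} (r : Γ(X, W)) (a : ι →₀ Γ(X, W)) :
    comb g f' e W (r • a) = (g.appLE W (g ⁻¹ᵁ W) le_rfl).hom r * comb g f' e W a := by
  rw [comb, comb, Finsupp.sum_smul_index (fun _ => by simp), Finsupp.mul_sum]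
  refine Finsupp.sum_congr fun j _ => ?_
  rw [map_mul, _root_.mul_assoc]

include H in
/-- Sections after the extension only generate where sections over the base generate. -/
theorem exists_sect_of_mem_locus [IsNoetherian X] (c : Cocycle X) {n : ℕ} (σ : (c.comap g).sect n ⊤)
    {q : X'} (hq : q ∈ (c.comap g).locus σ) : ∃ a : c.sect n ⊤, g q ∈ c.locus a := by
  classical
  let e := Module.Free.chooseBasis k K
  have hex : ∀ i, ∃ a, comb g f' e (⊤ ⊓ c.D i) a = res (fun z hz => ⟨trivial, hz.2⟩ : g ⁻¹ᵁ (⊤ ⊓ c.D i) ≤ ⊤ ⊓ g ⁻¹ᵁ c.D i) (σ.1 i) :=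
    fun i => (bijective_comb H e (⊤ ⊓ c.D i)).2 (res (fun z hz => ⟨trivial, hz.2⟩ : g ⁻¹ᵁ (⊤ ⊓ c.D i) ≤ ⊤ ⊓ g ⁻¹ᵁ c.D i) (σ.1 i))
  choose a ha using hex
  have hspec : ∀ (i l : c.ι) (W : X.Opens) (hi : W ≤ ⊤ ⊓ c.D i) (hl : W ≤ ⊤ ⊓ c.D l),
      (a i).mapRange (res hi) (map_zero _) =
        c.G i l (hi.trans inf_le_right) (hl.trans inf_le_right) ^ n • (a l).mapRange (res hl) (map_zero _) := by
    intro i l W hi hl
    refine (bijective_comb H e W).1 ?_
    rw [← res_comb e hi, ha i, comb_smul, ← res_comb e hl, ha l, res_res, res_res]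
    have h := (c.comap g).sect_spec σ i l (W := g ⁻¹ᵁ W) (le_inf le_top ((g.preimage_mono hi).trans fun z hz => hz.2))
      (le_inf le_top ((g.preimage_mono hl).trans fun z hz => hz.2))
    rw [map_pow, c.appLE_G]
    exact h
  let s : ∀ j, c.sect n ⊤ := fun j => ⟨fun i => a i j, fun i l W hi hl => by
    have h := congrArg (fun v => v j) (hspec i l W hi hl)
    simpa [Finsupp.mapRange_apply, Finsupp.smul_apply, smul_eq_mul] using h⟩
  obtain ⟨i, hi⟩ := (c.comap g).exists_mem q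
  have hgi : g q ∈ ⊤ ⊓ c.D i := ⟨trivial, hi⟩
  rw [(c.comap g).mem_locus_iff σ hi] at hq
  by_contra hcon
  push Not at hcon
  have hq' : q ∈ g ⁻¹ᵁ (⊤ ⊓ c.D i) := hgi
  have hu : IsUnit (X'.presheaf.germ _ q hq' (comb g f' e (⊤ ⊓ c.D i) (a i))) := by
    rw [← Scheme.mem_basicOpen _ _ q hq', ha i, Scheme.basicOpen_res]
    exact ⟨hq', hq⟩
  rw [comb, map_finsuppSum] at hu
  obtain ⟨j, hj⟩ : ∃ j, IsUnit (X'.presheaf.germ _ q hq'
      ((g.appLE (⊤ ⊓ c.D i) (g ⁻¹ᵁ (⊤ ⊓ c.D i)) le_rfl).hom (a i j) * cst f' (g ⁻¹ᵁ (⊤ ⊓ c.D i)) (e j))) := by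
    by_contra hall
    push Not at hall
    exact (IsLocalRing.mem_maximalIdeal _).1
      (Submodule.sum_mem _ fun j _ => (IsLocalRing.mem_maximalIdeal _).2 (hall j)) hu
  rw [map_mul] at hj
  have h1 := isUnit_of_mul_isUnit_left hj
  rw [← Scheme.mem_basicOpen _ _ q hq', Scheme.basicOpen_appLE] at h1
  exact hcon (s j) ((c.mem_locus_iff (s j) hi).2 h1.2)

end GrothLib.Cube
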