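import Groth.Agent.Lib.Cube.Spread

/-!
# Glueing normalised trivialisations over a normal base
-/

universe u

open CategoryTheory CategoryTheory.Limits Opposite TopologicalSpace AlgebraicGeometry
open GrothLib.Ample
open GrothLib.InvExt (mres)

set_option backward.isDefEq.respectTransparency false

noncomputable section

namespace GrothLib.Cube

variable {P Z : Scheme.{u}} (p : P ⟶ Z) (c : Cocycle P) (ε : Z ⟶ P) {β : (c.comap ε).sect 1 ⊤}

/-- A nowhere vanishing section over the preimage of `V`, normalised along the section of `p`. -/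
def IsNormSect (β : (c.comap ε).sect 1 ⊤) (V : Z.Opens) (α : c.sect 1 (p ⁻¹ᵁ V)) : Prop :=
  (∀ i, IsUnit (α.1 i)) ∧ ∀ i, (ε.app (p ⁻¹ᵁ V ⊓ c.D i)).hom (α.1 i) =
    res (le_inf le_top (ε.preimage_mono inf_le_right)) (β.1 i)

variable {p c ε}

theorem IsNormSect.restrict {V V' : Z.Opens} (h : V' ≤ V) {α : c.sect 1 (p ⁻¹ᵁ V)} (hα : IsNormSect p c ε β V α) :
    IsNormSect p c ε β V' (c.sectRes (p.preimage_mono h) α) := by
  refine ⟨fun i => (hα.1 i).map _, fun i => ?_⟩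
  have h1 := congrArg (res (ε.preimage_mono (inf_le_inf_right (c.D i) (p.preimage_mono h)))) (hα.2 i)
  simp only [Scheme.Hom.app_eq_appLE, res_appLE, res_res] at h1
  simp only [Cocycle.sectRes_apply, Scheme.Hom.app_eq_appLE, appLE_res]
  exact h1

variable (hεp : ε ≫ p = 𝟙 Z) (hβ : (c.comap ε).locus β = ⊤)

include hεp hβ in
/-- Normalised sections are unique. -/
theorem IsNormSect.eq {V : Z.Opens} (hconst : Function.Surjective (p.app V).hom) {α α' : c.sect 1 (p ⁻¹ᵁ V)}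
    (hα : IsNormSect p c ε β V α) (hα' : IsNormSect p c ε β V α') : α = α' := by
  choose w hw using fun i => (hα.1 i).exists_right_inv
  obtain ⟨r, hr⟩ := exists_glue (fun i => p ⁻¹ᵁ V ⊓ c.D i) (fun i => inf_le_left) (c.iSup_inf_D _)
    (fun i => α'.1 i * w i) (fun i k => by
      let O := (p ⁻¹ᵁ V ⊓ c.D i) ⊓ (p ⁻¹ᵁ V ⊓ c.D k)
      have e1 := c.sect_spec α i k (W := O) inf_le_left inf_le_right
      have e2 := c.sect_spec α' i k (W := O) inf_le_left inf_le_right
      rw [pow_one] at e1 e2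
      have wi : res (inf_le_left : O ≤ p ⁻¹ᵁ V ⊓ c.D i) (α.1 i) * res inf_le_left (w i) = 1 := by
        rw [← map_mul, hw i, map_one]
      have wk : res (inf_le_right : O ≤ p ⁻¹ᵁ V ⊓ c.D k) (α.1 k) * res inf_le_right (w k) = 1 := by
        rw [← map_mul, hw k, map_one]
      simp only [map_mul]
      linear_combination (res (inf_le_right : O ≤ p ⁻¹ᵁ V ⊓ c.D k) (α'.1 k) * res inf_le_right (w k)) * wi +
        (res (inf_le_left : O ≤ p ⁻¹ᵁ V ⊓ c.D i) (w i)) * e2 -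
        (res (inf_le_left : O ≤ p ⁻¹ᵁ V ⊓ c.D i) (w i) * res inf_le_right (α'.1 k) * res inf_le_right (w k)) * e1 -
        (c.G i k (inf_le_left.trans inf_le_right) (inf_le_right.trans inf_le_right) *
          res inf_le_right (α'.1 k) * res (inf_le_left : O ≤ p ⁻¹ᵁ V ⊓ c.D i) (w i)) * wk)
  obtain ⟨a, rfl⟩ := hconst r
  have hαα : ∀ i, α'.1 i = pc p (inf_le_left : p ⁻¹ᵁ V ⊓ c.D i ≤ p ⁻¹ᵁ V) a * α.1 i := fun i => by
    have h1 := hr i
    rw [Scheme.Hom.app_eq_appLE, res_appLE] at h1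
    rw [h1, mul_assoc, mul_comm (w i), hw i, mul_one]
  have hle : ∀ i, ε ⁻¹ᵁ (p ⁻¹ᵁ V ⊓ c.D i) ≤ V := fun i => le_of_section p hεp (fun _ => inf_le_left) i
  have ha : a = 1 := by
    refine eq_of_cover (fun i => ε ⁻¹ᵁ (p ⁻¹ᵁ V ⊓ c.D i)) hle ?_ fun i => ?_
    · rw [← Scheme.Hom.preimage_iSup]
      refine le_trans (le_of_eq ?_) (ε.preimage_mono (c.iSup_inf_D _))
      rw [← Scheme.Hom.comp_preimage, hεp]
      rfl
    · have h2 := congrArg (ε.app (p ⁻¹ᵁ V ⊓ c.D i)).hom (hαα i)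
      rw [map_mul, app_section_pc p hεp (W := fun i => p ⁻¹ᵁ V ⊓ c.D i) (fun _ => inf_le_left) i a, hα.2 i,
        hα'.2 i] at h2
      have hu : IsUnit (res (le_inf le_top (ε.preimage_mono inf_le_right) :
          ε ⁻¹ᵁ (p ⁻¹ᵁ V ⊓ c.D i) ≤ ⊤ ⊓ (c.comap ε).D i) (β.1 i)) :=
        isUnit_component (c := c.comap ε) hβ i (ε.preimage_mono inf_le_right)
      rw [map_one]
      exact hu.mul_right_cancel (h2.symm.trans (one_mul _).symm)
  refine c.sect_ext fun i => ?_
  rw [hαα i, ha, map_one, one_mul]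

include hεp hβ in
/-- Normalised sections exist over affine opens. -/
theorem exists_isNormSect [IsIntegral Z] [IsLocallyNoetherian Z] [Flat p] [QuasiCompact p]
    (hnorm : ∀ z : Z, IsIntegrallyClosed (Z.presheaf.stalk z))
    (hint : ∀ (K : Type u) [Field K] (g : Spec (CommRingCat.of K) ⟶ Z), IsIntegral (pullback p g))
    (hη : Triv (c.comap (pullback.fst p (Z.fromSpecStalk (genericPoint Z)))))
    {V : Z.Opens} (hV : IsAffineOpen V) [Nonempty V] : ∃ α, IsNormSect p c ε β V α := by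
  classical
  have hex : ∀ x : (p ⁻¹ᵁ V : P.Opens), ∃ (i : c.ι) (W : P.Opens), IsAffineOpen W ∧ x.1 ∈ W ∧ W ≤ p ⁻¹ᵁ V ⊓ c.D i := by
    intro x
    obtain ⟨i, hi⟩ := c.exists_mem x.1
    obtain ⟨W, hW, hxW, hWi⟩ := exists_isAffineOpen_mem_and_subset (x := x.1) (U := p ⁻¹ᵁ V ⊓ c.D i) ⟨x.2, hi⟩
    exact ⟨i, W, hW, hxW, hWi⟩
  choose idx W haff hxW hle using hex
  obtain ⟨S, hS⟩ := (p.isCompact_preimage hV.isCompact).elim_finite_subcover (fun x => (W x : Set P))
    (fun x => (W x).isOpen) fun x hx => Set.mem_iUnion.2 ⟨⟨x, hx⟩, hxW _⟩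
  let κ : Type u := ↥S
  let W' : κ → P.Opens := fun a => W a.1
  let idx' : κ → c.ι := fun a => idx a.1
  have hle' : ∀ a, W' a ≤ c.D (idx' a) := fun a => (hle a.1).trans inf_le_right
  have heV : ∀ a, W' a ≤ p ⁻¹ᵁ V := fun a => (hle a.1).trans inf_le_left
  have hcov : p ⁻¹ᵁ V ≤ ⨆ a, W' a := fun x hx => by
    obtain ⟨a, ha, hxa⟩ := Set.mem_iUnion₂.1 (hS hx)
    exact Opens.mem_iSup.2 ⟨⟨a, ha⟩, hxa⟩
  let T : ∀ a, Γ(Z, ε ⁻¹ᵁ W' a) := fun a => res (le_inf le_top (ε.preimage_mono (hle' a))) (β.1 (idx' a))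
  choose T' hT' using fun a =>
    (show IsUnit (T a) from isUnit_component (c := c.comap ε) hβ (idx' a) (ε.preimage_mono (hle' a))).exists_right_inv
  have hT : Rel (c.comap ε) (fun a => ε ⁻¹ᵁ W' a) idx' (fun a => ε.preimage_mono (hle' a)) T := fun a b O ha hb => by
    simp only [T, res_res]
    have := (c.comap ε).sect_spec β (idx' a) (idx' b) (W := O)
      (le_inf le_top (ha.trans (ε.preimage_mono (hle' a)))) (le_inf le_top (hb.trans (ε.preimage_mono (hle' b))))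
    rwa [pow_one] at this
  obtain ⟨s, hsu, hs, hsT⟩ := exists_unit_family (hle := hle') p hV hεp hnorm hint (fun a : κ => haff a.1) heV hcov hη T T' hT' hT
  have key : ∀ i, ∃ x : Γ(P, p ⁻¹ᵁ V ⊓ c.D i), ∀ a,
      res (inf_le_inf_right (c.D i) (heV a)) x =
        c.G i (idx' a) inf_le_right (inf_le_left.trans (hle' a)) *
          (res inf_le_left (s a) : Γ(P, W' a ⊓ c.D i)) := fun i =>
    exists_glue (fun a => W' a ⊓ c.D i) (fun a => inf_le_inf_right _ (heV a))
      ((inf_le_inf_right _ hcov).trans (le_of_eq (iSup_inf_eq _ _))) _ (fun a b => by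
        simp only [map_mul, res_res, Cocycle.res_G]
        rw [hs a b _ (inf_le_left.trans inf_le_left) (inf_le_right.trans inf_le_left),
          c.G_trans i (idx' a) (idx' b) (inf_le_left.trans inf_le_right)
            ((inf_le_left.trans inf_le_left).trans (hle' a)) ((inf_le_right.trans inf_le_left).trans (hle' b))]
        ring)
  choose x hx using key
  have hxr : ∀ (a : κ) (i : c.ι) (O : P.Opens) (h : O ≤ p ⁻¹ᵁ V ⊓ c.D i) (ha : O ≤ W' a),
      res h (x i) = c.G i (idx' a) (h.trans inf_le_right) (ha.trans (hle' a)) * res ha (s a) := fun a i O h ha => by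
    have h1 := congrArg (res (le_inf ha (h.trans inf_le_right) : O ≤ W' a ⊓ c.D i)) (hx i a)
    simp only [map_mul, res_res, Cocycle.res_G] at h1
    exact h1
  refine ⟨⟨x, fun i k O hi hk => ?_⟩, fun i => ?_, fun i => ?_⟩
  · refine eq_of_cover (fun a => O ⊓ W' a) (fun _ => inf_le_left)
      ((le_inf le_rfl (hi.trans (inf_le_left.trans hcov))).trans (le_of_eq (inf_iSup_eq _ _))) fun a => ?_
    simp only [map_mul, map_pow, res_res, Cocycle.res_G]
    rw [hxr a i _ _ inf_le_right, hxr a k _ _ inf_le_right, pow_one,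
      c.G_trans i k (idx' a) ((inf_le_left.trans hi).trans inf_le_right) ((inf_le_left.trans hk).trans inf_le_right)
        (inf_le_right.trans (hle' a))]
    ring
  · show IsUnit (x i)
    refine RingedSpace.isUnit_of_isUnit_germ P.toRingedSpace _ (x i) fun y hy => ?_
    obtain ⟨a, ha⟩ := Opens.mem_iSup.1 (hcov hy.1)
    have h1 : IsUnit (res (inf_le_inf_right (c.D i) (heV a)) (x i)) := by
      rw [hx i a]
      exact (IsUnit.of_mul_eq_one _ (c.G_mul_G i (idx' a) inf_le_right (inf_le_left.trans (hle' a)))).mul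
        ((hsu a).map _)
    have h2 := h1.map (P.presheaf.germ (W' a ⊓ c.D i) y ⟨ha, hy.2⟩).hom
    erw [TopCat.Presheaf.germ_res_apply] at h2
    exact h2
  · show (ε.app _).hom (x i) = _
    refine eq_of_cover (fun a => ε ⁻¹ᵁ (W' a ⊓ c.D i))
      (fun a => ε.preimage_mono (inf_le_inf_right _ (heV a))) ?_ fun a => ?_
    · rw [← Scheme.Hom.preimage_iSup]
      exact ε.preimage_mono ((inf_le_inf_right _ hcov).trans (le_of_eq (iSup_inf_eq _ _)))
    · have h1 := congrArg (ε.app (W' a ⊓ c.D i)).hom (hx i a)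
      have h2 : (ε.appLE (W' a ⊓ c.D i) (ε ⁻¹ᵁ (W' a ⊓ c.D i)) le_rfl).hom (res inf_le_left (s a)) =
          res (ε.preimage_mono inf_le_left) (T a) := by
        rw [appLE_res, ← hsT a, Scheme.Hom.app_eq_appLE, res_appLE]
      simp only [Scheme.Hom.app_eq_appLE, map_mul] at h1
      rw [h2, c.appLE_G] at h1
      simp only [appLE_res] at h1
      rw [Scheme.Hom.app_eq_appLE, res_appLE, h1]
      simp only [T, res_res]
      have := (c.comap ε).sect_spec β i (idx' a) (W := ε ⁻¹ᵁ (W' a ⊓ c.D i))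
        (le_inf le_top (ε.preimage_mono inf_le_right))
        (le_inf le_top (ε.preimage_mono (inf_le_left.trans (hle' a))))
      rw [pow_one] at this
      exact this.symm

/-- A line bundle trivial on the generic fibre and along a section is trivial. -/
theorem triv_of_generic [IsIntegral Z] [IsLocallyNoetherian Z] [Flat p] [QuasiCompact p]
    (hεp : ε ≫ p = 𝟙 Z) (hnorm : ∀ z : Z, IsIntegrallyClosed (Z.presheaf.stalk z))
    (hint : ∀ (K : Type u) [Field K] (g : Spec (CommRingCat.of K) ⟶ Z), IsIntegral (pullback p g))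
    (hconst : ∀ V : Z.Opens, IsAffineOpen V → Function.Surjective (p.app V).hom)
    (hη : Triv (c.comap (pullback.fst p (Z.fromSpecStalk (genericPoint Z)))))
    (hε : Triv (c.comap ε)) : Triv c := by
  obtain ⟨β, hβ⟩ := hε
  let I := {V : Z.affineOpens // Nonempty V.1}
  choose α hα using fun V : I =>
    haveI := V.2
    exists_isNormSect (β := β) hεp hβ hnorm hint hη V.1.2
  let M := c.twist 1
  have hcov : ⊤ ≤ ⨆ V : I, p ⁻¹ᵁ V.1.1 := fun y _ => by
    obtain ⟨V, hV, hyV, -⟩ := exists_isAffineOpen_mem_and_subset (x := p y) (U := ⊤) trivial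
    exact Opens.mem_iSup.2 ⟨⟨⟨V, hV⟩, ⟨⟨p y, hyV⟩⟩⟩, hyV⟩
  obtain ⟨t, ht, -⟩ := TopCat.Sheaf.existsUnique_gluing' ⟨M.presheaf, M.isSheaf⟩ (fun V : I => p ⁻¹ᵁ V.1.1) ⊤
    (fun V => homOfLE le_top) hcov α (fun V V' => by
      show c.sectRes inf_le_left (α V) = c.sectRes inf_le_right (α V')
      refine c.sect_ext fun i => ?_
      refine eq_of_cover (fun V'' : {V'' : Z.affineOpens // V''.1 ≤ V.1.1 ⊓ V'.1.1} => p ⁻¹ᵁ V''.1.1 ⊓ c.D i)
        (fun V'' => inf_le_inf_right _ (p.preimage_mono V''.2)) ?_ fun V'' => ?_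
      · rintro y ⟨hy, hyi⟩
        obtain ⟨O, hO, hyO, hOV⟩ := exists_isAffineOpen_mem_and_subset (x := p y) (U := V.1.1 ⊓ V'.1.1) hy
        exact Opens.mem_iSup.2 ⟨⟨⟨O, hO⟩, hOV⟩, hyO, hyi⟩
      · have h1 := IsNormSect.eq hεp hβ (hconst _ V''.1.2) ((hα V).restrict (V''.2.trans inf_le_left))
          ((hα V').restrict (V''.2.trans inf_le_right))
        have h2 := congrArg (fun γ : c.sect 1 (p ⁻¹ᵁ V''.1.1) => γ.1 i) h1
        simp only [Cocycle.sectRes_apply, res_res] at h2 ⊢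
        exact (res_res _ _ _).trans (h2.trans (res_res _ _ _).symm))
  refine ⟨t, top_le_iff.1 fun y _ => ?_⟩
  obtain ⟨V, hV⟩ := Opens.mem_iSup.1 (hcov (Opens.mem_top y))
  obtain ⟨i, hi⟩ := c.exists_mem y
  rw [c.mem_locus_iff t hi]
  have h1 : c.sectRes (le_top : p ⁻¹ᵁ V.1.1 ≤ ⊤) t = α V := ht V
  have h2 : IsUnit (res (inf_le_inf_right (c.D i) le_top : p ⁻¹ᵁ V.1.1 ⊓ c.D i ≤ ⊤ ⊓ c.D i) ((t : c.sect 1 ⊤).1 i)) := by
    rw [← c.sectRes_apply (le_top : p ⁻¹ᵁ V.1.1 ≤ ⊤), h1]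
    exact (hα V).1 i
  have h3 := (Scheme.basicOpen_of_isUnit P h2).ge (show y ∈ p ⁻¹ᵁ V.1.1 ⊓ c.D i from ⟨hV, hi⟩)
  rw [Scheme.basicOpen_res] at h3
  exact h3.2

end GrothLib.Cube
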