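import Groth.Agent.Lib.Cube.KunnethDiff

/-!
# A class in `H¹(X × Y, O)` is determined by its restrictions to the two axes

For schemes over a field whose only functions are constants.
-/

universe u

open CategoryTheory CategoryTheory.Limits Opposite TopologicalSpace AlgebraicGeometry
open MonoidalCategory CartesianMonoidalCategory
open GrothLib.Ample
open scoped TensorProduct

set_option backward.isDefEq.respectTransparency false

noncomputable section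

namespace GrothLib.Cube

variable {L : Type u} [Field L] {X Y Z T : Over (Spec (CommRingCat.of L))}

theorem appAlg_comp (f : T ⟶ Z) (g : Z ⟶ X) {U : X.left.Opens} {V : Z.left.Opens} {W : T.left.Opens}
    (e : V ≤ g.left ⁻¹ᵁ U) (e' : W ≤ f.left ⁻¹ᵁ V) (a : Γ(X.left, U)) :
    (f.left.appLE V W e').hom ((g.left.appLE U V e).hom a) =
      ((f ≫ g).left.appLE U W (e'.trans (f.left.preimage_mono e))).hom a := by
  show (g.left.appLE U V e ≫ f.left.appLE V W e').hom a = _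
  simp only [Scheme.Hom.appLE_comp_appLE]
  rfl

theorem appLE_congr_hom {f g : Z ⟶ X} (h : f = g) {U : X.left.Opens} {W : Z.left.Opens}
    (e : W ≤ f.left ⁻¹ᵁ U) (a : Γ(X.left, U)) :
    (f.left.appLE U W e).hom a = (g.left.appLE U W (h ▸ e)).hom a := by
  subst h; rfl

theorem id_appLE_res {U W : X.left.Opens} (e : W ≤ U) (a : Γ(X.left, U)) :
    ((𝟙 X : X ⟶ X).left.appLE U W e).hom a = res e a := by
  simp [Scheme.Hom.appLE, res]

theorem mem_range_of_surjective_appTop (hY : Function.Surjective Y.hom.appTop.hom) (φ : Γ(Y.left, ⊤)) :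
    ∃ r : L, φ = cst Y.hom ⊤ r := by
  obtain ⟨l, rfl⟩ := hY φ
  refine ⟨(Scheme.ΓSpecIso (CommRingCat.of L)).hom.hom l, ?_⟩
  show _ = (Y.hom.appLE ⊤ ⊤ le_top).hom ((Scheme.ΓSpecIso (CommRingCat.of L)).inv.hom _)
  rw [← CommRingCat.comp_apply (Scheme.ΓSpecIso (CommRingCat.of L)).hom, Iso.hom_inv_id,
    show Y.hom.appLE ⊤ ⊤ le_top = Y.hom.appTop from Scheme.Hom.appLE_eq_app _]
  rfl

theorem exists_finite_affine_cover [CompactSpace X.left] :
    ∃ (I : Type u) (_ : Fintype I) (U : I → X.left.Opens), (∀ i, IsAffineOpen (U i)) ∧ ⨆ i, U i = ⊤ := by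
  obtain ⟨S, hS⟩ := isCompact_univ.elim_finite_subcover (fun U : X.left.affineOpens => (U.1 : Set X.left))
    (fun U => U.1.isOpen) fun x _ => by
      obtain ⟨U, hU, hxU, -⟩ := exists_isAffineOpen_mem_and_subset (x := x) (U := ⊤) trivial
      exact Set.mem_iUnion.2 ⟨⟨U, hU⟩, hxU⟩
  exact ⟨↥S, inferInstance, fun i => i.1.1, fun i => i.1.2, top_le_iff.1 fun x _ => by
    obtain ⟨V, hV, hxV⟩ := Set.mem_iUnion₂.1 (hS (Set.mem_univ x))
    exact Opens.mem_iSup.2 ⟨⟨V, hV⟩, hxV⟩⟩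

theorem exists_point_nhd (y₀ : 𝟙_ _ ⟶ Y) :
    ∃ V0 : Y.left.Opens, IsAffineOpen V0 ∧
      (⊤ : (𝟙_ (Over (Spec (CommRingCat.of L)))).left.Opens) ≤ y₀.left ⁻¹ᵁ V0 := by
  obtain ⟨V0, hV0, hpt, -⟩ := exists_isAffineOpen_mem_and_subset
    (x := (y₀.left (IsLocalRing.closedPoint L) : ↥Y.left)) (U := ⊤) trivial
  refine ⟨V0, hV0, fun q _ => ?_⟩
  rw [show q = IsLocalRing.closedPoint L from Subsingleton.elim (α := PrimeSpectrum L) _ _]
  exact hpt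

/-- Evaluation at a rational point. -/
def evalAlg (y₀ : 𝟙_ _ ⟶ Y) {V0 : Y.left.Opens} (he0 : ⊤ ≤ y₀.left ⁻¹ᵁ V0) : Γ(Y.left, V0) →ₐ[L] L :=
  { (Scheme.ΓSpecIso (CommRingCat.of L)).hom.hom.comp (y₀.left.appLE V0 ⊤ he0).hom with
    commutes' := fun r => by
      show (Scheme.ΓSpecIso (CommRingCat.of L)).hom.hom ((y₀.left.appLE V0 ⊤ he0).hom (cst Y.hom V0 r)) = r
      rw [appLE_cst, Over.w y₀]
      have e : ((𝟙 (Spec (CommRingCat.of L)) : _ ⟶ _).appLE ⊤ ⊤ le_top) = 𝟙 _ := by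
        simp [Scheme.Hom.appLE]
      show (Scheme.ΓSpecIso (CommRingCat.of L)).hom.hom (((Scheme.ΓSpecIso (CommRingCat.of L)).inv ≫
        (𝟙 (Spec (CommRingCat.of L)) : _ ⟶ _).appLE ⊤ ⊤ le_top).hom r) = r
      rw [e, Category.comp_id]
      show ((Scheme.ΓSpecIso (CommRingCat.of L)).inv ≫ (Scheme.ΓSpecIso (CommRingCat.of L)).hom).hom r = r
      rw [Iso.inv_hom_id]
      rfl }

theorem le_preimage_axis (y₀ : 𝟙_ _ ⟶ Y) {V0 : Y.left.Opens} (he0 : ⊤ ≤ y₀.left ⁻¹ᵁ V0) (O : X.left.Opens) :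
    O ≤ (lift (𝟙 X) (toUnit X ≫ y₀)).left ⁻¹ᵁ box O V0 := by
  rw [box, Scheme.Hom.preimage_inf]
  refine le_inf ?_ ?_
  · rw [← Scheme.Hom.comp_preimage, ← Over.comp_left, lift_fst]
    rfl
  · rw [← Scheme.Hom.comp_preimage, ← Over.comp_left, lift_snd, Over.comp_left, Scheme.Hom.comp_preimage]
    exact fun q _ => he0 trivial

theorem appLE_axis_boxMap (y₀ : 𝟙_ _ ⟶ Y) {V0 : Y.left.Opens} (he0 : ⊤ ≤ y₀.left ⁻¹ᵁ V0) (O : X.left.Opens)
    (e : Γ(X.left, O) ⊗[L] Γ(Y.left, V0)) :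
    ((lift (𝟙 X) (toUnit X ≫ y₀)).left.appLE (box O V0) O (le_preimage_axis y₀ he0 O)).hom (boxMap O V0 e) =
      TensorProduct.rid L Γ(X.left, O) ((evalAlg y₀ he0).toLinearMap.lTensor _ e) := by
  induction e using TensorProduct.induction_on with
  | zero => simp only [map_zero]
  | tmul a b =>
    rw [boxMap_tmul, map_mul, LinearMap.lTensor_tmul, TensorProduct.rid_tmul, appAlg_comp, appAlg_comp,
      appLE_congr_hom (lift_fst (𝟙 X) (toUnit X ≫ y₀)), appLE_congr_hom (lift_snd (𝟙 X) (toUnit X ≫ y₀)),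
      ← appAlg_comp (toUnit X) y₀ he0 (by exact fun q _ => trivial), Algebra.smul_def, mul_comm]
    congr 1
    · show _ = (X.hom.appLE ⊤ O le_top).hom ((Scheme.ΓSpecIso (CommRingCat.of L)).inv.hom
        ((Scheme.ΓSpecIso (CommRingCat.of L)).hom.hom _))
      rw [Iso.hom_inv_id_apply]
      rfl
    · exact (id_appLE_res le_rfl a).trans (res_self _ a)
  | add x y hx hy => simp only [map_add, hx, hy]

variable {κ : Type u} {W : κ → (X ⊗ Y).left.Opens} {h : ∀ a b, Γ((X ⊗ Y).left, W a ⊓ W b)}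
  {I : Type u} {U : I → X.left.Opens}

/-- Evaluated at the point, differences are coboundaries. -/
theorem IsDiff.eval_mem_range (hW : ⨆ a, W a = ⊤) (y₀ : 𝟙_ _ ⟶ Y) {V0 : Y.left.Opens}
    (he0 : ⊤ ≤ y₀.left ⁻¹ᵁ V0)
    (hy : SCob (fun a => (lift (𝟙 X) (toUnit X ≫ y₀)).left ⁻¹ᵁ W a) (spull (lift (𝟙 X) (toUnit X ≫ y₀)).left W h))
    {t : ∀ i a, Γ((X ⊗ Y).left, W a ⊓ box (U i) V0)} (ht : ∀ i, Trivs W h (box (U i) V0) (t i))
    {E} (hE : IsDiff U V0 t E) :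
    TensorProduct.rid L (∀ p : I × I, Γ(X.left, U p.1 ⊓ U p.2)) ((evalAlg y₀ he0).toLinearMap.lTensor _ E) ∈
      LinearMap.range (cechδ U) := by
  obtain ⟨wX, hwX⟩ := hy
  let iX := lift (𝟙 X) (toUnit X ≫ y₀)
  have hq : ∀ i, ∃ q : Γ(X.left, U i), ∀ a, res inf_le_right q =
      (pullTriv iX.left (le_preimage_axis y₀ he0 (U i)) (t i) a - res inf_le_left (wX a) :
        Γ(X.left, iX.left ⁻¹ᵁ W a ⊓ U i)) := fun i =>
    ((ht i).pull iX.left (le_preimage_axis y₀ he0 (U i))).exists_diff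
      (by rw [← Scheme.Hom.preimage_iSup, hW, Scheme.Hom.preimage_top]) (trivs_of_sCob hwX (U i))
  choose q hq using hq
  refine ⟨q, funext fun p => ?_⟩
  rw [rid_lTensor_proj, ← appLE_axis_boxMap, cechδ_apply]
  refine eq_of_pieces (fun a => iX.left ⁻¹ᵁ W a)
    (by rw [← Scheme.Hom.preimage_iSup, hW, Scheme.Hom.preimage_top]) fun a => ?_
  have h1 := congrArg (iX.left.appLE _ (iX.left ⁻¹ᵁ W a ⊓ (U p.1 ⊓ U p.2))
    (inf_le_inf_left _ (le_preimage_axis y₀ he0 (U p.1 ⊓ U p.2)))).hom (hE p a)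
  have h2 := congrArg (res (inf_le_inf_left _ inf_le_left :
    iX.left ⁻¹ᵁ W a ⊓ (U p.1 ⊓ U p.2) ≤ iX.left ⁻¹ᵁ W a ⊓ U p.1)) (hq p.1 a)
  have h3 := congrArg (res (inf_le_inf_left _ inf_le_right :
    iX.left ⁻¹ᵁ W a ⊓ (U p.1 ⊓ U p.2) ≤ iX.left ⁻¹ᵁ W a ⊓ U p.2)) (hq p.2 a)
  simp only [iX, restrictTriv, pullTriv, map_sub, appLE_res, res_appLE, res_res] at h1 h2 h3 ⊢
  linear_combination h2 - h3 - h1

theorem le_preimage_snd_axis (x₀ : 𝟙_ _ ⟶ X) (O : Y.left.Opens) :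
    O ≤ (lift (toUnit Y ≫ x₀) (𝟙 Y)).left ⁻¹ᵁ ((snd X Y).left ⁻¹ᵁ O) := by
  rw [← Scheme.Hom.comp_preimage, ← Over.comp_left, lift_snd]
  rfl

theorem appLE_snd_axis (x₀ : 𝟙_ _ ⟶ X) {U' V : Y.left.Opens} (e : V ≤ U') (p : Γ(Y.left, U')) :
    ((lift (toUnit Y ≫ x₀) (𝟙 Y)).left.appLE ((snd X Y).left ⁻¹ᵁ U') V
      (e.trans (le_preimage_snd_axis x₀ U'))).hom
        (((snd X Y).left.appLE U' ((snd X Y).left ⁻¹ᵁ U') le_rfl).hom p) = res e p := by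
  rw [appAlg_comp, appLE_congr_hom (lift_snd (toUnit Y ≫ x₀) (𝟙 Y))]
  exact id_appLE_res e p

/-- Trivialisations over preimages can be normalised along the section. -/
theorem exists_trivs_normalised (hW : ⨆ a, W a = ⊤) (x₀ : 𝟙_ _ ⟶ X)
    {wY : ∀ a, Γ(Y.left, (lift (toUnit Y ≫ x₀) (𝟙 Y)).left ⁻¹ᵁ W a)}
    (hwY : ∀ a b, spull (lift (toUnit Y ≫ x₀) (𝟙 Y)).left W h a b = res inf_le_left (wY a) - res inf_le_right (wY b))
    {V : Y.left.Opens} {T} (hT : Trivs W h ((snd X Y).left ⁻¹ᵁ V) T) :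
    ∃ T', Trivs W h ((snd X Y).left ⁻¹ᵁ V) T' ∧ ∀ a,
      pullTriv (lift (toUnit Y ≫ x₀) (𝟙 Y)).left (le_preimage_snd_axis x₀ V) T' a = res inf_le_left (wY a) := by
  let iY := lift (toUnit Y ≫ x₀) (𝟙 Y)
  obtain ⟨p, hp⟩ := (hT.pull iY.left (le_preimage_snd_axis x₀ V)).exists_diff
    (by rw [← Scheme.Hom.preimage_iSup, hW, Scheme.Hom.preimage_top]) (trivs_of_sCob hwY V)
  refine ⟨_, hT.sub_const (((snd X Y).left.appLE V ((snd X Y).left ⁻¹ᵁ V) le_rfl).hom p), fun a => ?_⟩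
  have h1 := hp a
  simp only [pullTriv, map_sub, appLE_res] at h1 ⊢
  rw [appLE_snd_axis x₀ inf_le_right p, h1]
  ring

/-- Normalised trivialisations agree. -/
theorem restrictTriv_eq_of_normalised [QuasiCompact X.hom] [QuasiSeparated X.hom]
    (hX : AntiAffine.IsAntiAffine X) (hW : ⨆ a, W a = ⊤) (x₀ : 𝟙_ _ ⟶ X)
    {wY : ∀ a, Γ(Y.left, (lift (toUnit Y ≫ x₀) (𝟙 Y)).left ⁻¹ᵁ W a)}
    {V V' V'' : Y.left.Opens} (hV : V'' ≤ V) (hV' : V'' ≤ V') (hV'' : IsAffineOpen V'')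
    {T} (hT : Trivs W h ((snd X Y).left ⁻¹ᵁ V) T) {T'} (hT' : Trivs W h ((snd X Y).left ⁻¹ᵁ V') T')
    (hTn : ∀ a, pullTriv (lift (toUnit Y ≫ x₀) (𝟙 Y)).left (le_preimage_snd_axis x₀ V) T a = res inf_le_left (wY a))
    (hTn' : ∀ a,
      pullTriv (lift (toUnit Y ≫ x₀) (𝟙 Y)).left (le_preimage_snd_axis x₀ V') T' a = res inf_le_left (wY a)) :
    restrictTriv ((snd X Y).left.preimage_mono hV) T = restrictTriv ((snd X Y).left.preimage_mono hV') T' := by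
  let iY := lift (toUnit Y ≫ x₀) (𝟙 Y)
  obtain ⟨d, hd⟩ := (hT.restrict ((snd X Y).left.preimage_mono hV)).exists_diff hW
    (hT'.restrict ((snd X Y).left.preimage_mono hV'))
  obtain ⟨β, hβ⟩ := snd_appLE_surjective (Y := Y) hX hV'' d
  have hβ0 : β = 0 := by
    refine eq_of_pieces (fun b => iY.left ⁻¹ᵁ W b)
      (by rw [← Scheme.Hom.preimage_iSup, hW, Scheme.Hom.preimage_top]) fun b => ?_
    rw [map_zero]
    have h1 := congrArg (iY.left.appLE (W b ⊓ (snd X Y).left ⁻¹ᵁ V'') (iY.left ⁻¹ᵁ W b ⊓ V'')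
      (inf_le_inf_left _ (le_preimage_snd_axis x₀ V''))).hom (hd b)
    rw [← hβ] at h1
    simp only [restrictTriv, map_sub, appLE_res] at h1
    have h2 := congrArg (res (inf_le_inf_left _ hV : iY.left ⁻¹ᵁ W b ⊓ V'' ≤ iY.left ⁻¹ᵁ W b ⊓ V)) (hTn b)
    have h3 := congrArg (res (inf_le_inf_left _ hV' : iY.left ⁻¹ᵁ W b ⊓ V'' ≤ iY.left ⁻¹ᵁ W b ⊓ V')) (hTn' b)
    simp only [iY, pullTriv, res_appLE, res_res] at h1 h2 h3 ⊢
    rw [appLE_snd_axis x₀ inf_le_right β, h2, h3, sub_self] at h1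
    exact h1
  funext a
  have h5 := hd a
  rw [← hβ, hβ0, map_zero, map_zero] at h5
  exact sub_eq_zero.1 h5.symm

/-- The main statement. -/
theorem sCob_of_axes [QuasiCompact X.hom] [IsSeparated X.hom] [IsSeparated Y.hom]
    (hX : AntiAffine.IsAntiAffine X) (hY : Function.Surjective Y.hom.appTop.hom)
    (x₀ : 𝟙_ _ ⟶ X) (y₀ : 𝟙_ _ ⟶ Y)
    {κ : Type u} {W : κ → (X ⊗ Y).left.Opens} (hW : ⨆ a, W a = ⊤) {h : ∀ a b, Γ((X ⊗ Y).left, W a ⊓ W b)}
    (hh : SCoc W h)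
    (hx : SCob (fun a => (lift (toUnit Y ≫ x₀) (𝟙 Y)).left ⁻¹ᵁ W a) (spull (lift (toUnit Y ≫ x₀) (𝟙 Y)).left W h))
    (hy : SCob (fun a => (lift (𝟙 X) (toUnit X ≫ y₀)).left ⁻¹ᵁ W a) (spull (lift (𝟙 X) (toUnit X ≫ y₀)).left W h)) :
    SCob W h := by
  haveI : X.left.IsSeparated := ⟨by rw [← terminal.comp_from X.hom]; infer_instance⟩
  haveI : Y.left.IsSeparated := ⟨by rw [← terminal.comp_from Y.hom]; infer_instance⟩
  haveI : CompactSpace X.left := QuasiCompact.compactSpace_of_compactSpace X.hom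
  obtain ⟨I, _, U, hU, hUcov⟩ := exists_finite_affine_cover (X := X)
  choose t ht using fun (V : Y.left.affineOpens) (i : I) =>
    exists_trivs_of_isAffineOpen hW hh (isAffineOpen_box (hU i) V.2)
  choose E hE using fun V : Y.left.affineOpens => exists_isDiff hW hU V.2 (ht V)
  obtain ⟨Sd, hSd⟩ := exists_splitting (cechδ U)
  let Rd := LinearMap.id - cechδ U ∘ₗ Sd
  have hRd : ∀ q, Rd (cechδ U q) = 0 := fun q => by
    show cechδ U q - cechδ U (Sd (cechδ U q)) = 0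
    rw [hSd, sub_self]
  -- the residual part of the differences vanishes
  have hE0 : ∀ V : Y.left.affineOpens, Rd.rTensor Γ(Y.left, V.1) (E V) = 0 := by
    intro V
    refine eq_zero_of_lid_rTensor _ fun ℓ => ?_
    rw [← LinearMap.rTensor_comp_apply]
    let Φ : ∀ V : Y.left.affineOpens, Γ(Y.left, V.1) := fun V =>
      TensorProduct.lid L Γ(Y.left, V.1) ((ℓ ∘ₗ Rd).rTensor Γ(Y.left, V.1) (E V))
    have hnat : ∀ (V V' : Y.left.affineOpens) (hV : V'.1 ≤ V.1), res hV (Φ V) = Φ V' := by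
      intro V V' hV
      obtain ⟨S, hS⟩ := (hE V).sub_mem_range hW hU V'.2 hV (ht V) (ht V') (hE V')
      have h0 := congrArg ((ℓ ∘ₗ Rd).rTensor Γ(Y.left, V'.1)) hS
      have h00 : (ℓ ∘ₗ Rd) ∘ₗ cechδ U = 0 := LinearMap.ext fun q => by
        show ℓ (Rd (cechδ U q)) = 0
        rw [hRd, map_zero]
      rw [← LinearMap.rTensor_comp_apply, h00, LinearMap.rTensor_zero, LinearMap.zero_apply, map_sub] at h0
      show (resAlg Y hV).toLinearMap (Φ V) = Φ V'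
      simp only [Φ]
      rw [map_lid_rTensor, ← sub_eq_zero.1 h0.symm]
    obtain ⟨V0, hV0, he0⟩ := exists_point_nhd y₀
    obtain ⟨φ, hφ⟩ := exists_glue (fun V : Y.left.affineOpens => V.1) (O := ⊤) (fun _ => le_top)
      (fun y _ => by
        obtain ⟨V, hV, hyV, -⟩ := exists_isAffineOpen_mem_and_subset (x := y) (U := ⊤) trivial
        exact Opens.mem_iSup.2 ⟨⟨V, hV⟩, hyV⟩)
      Φ (fun V V' => by
        have hVV : IsAffineOpen (V.1 ⊓ V'.1) := V.2.inf V'.2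
        rw [hnat V ⟨V.1 ⊓ V'.1, hVV⟩ inf_le_left, hnat V' ⟨V.1 ⊓ V'.1, hVV⟩ inf_le_right])
    obtain ⟨r, hr⟩ := mem_range_of_surjective_appTop hY φ
    have h1 : evalAlg y₀ he0 (Φ ⟨V0, hV0⟩) = r := by
      rw [← hφ ⟨V0, hV0⟩, hr, res_cst]
      exact (evalAlg y₀ he0).commutes r
    obtain ⟨q, hq⟩ := (hE ⟨V0, hV0⟩).eval_mem_range hW y₀ he0 hy (ht ⟨V0, hV0⟩)
    have h2 : (evalAlg y₀ he0).toLinearMap (Φ ⟨V0, hV0⟩) = 0 := by
      rw [apply_lid_rTensor, ← hq, LinearMap.comp_apply, hRd, map_zero]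
    have h3 : r = 0 := h1.symm.trans h2
    show Φ V = 0
    rw [← hφ V, hr, h3, map_zero, map_zero]
  obtain ⟨wY, hwY⟩ := hx
  have hex : ∀ V : Y.left.affineOpens, ∃ T, Trivs W h ((snd X Y).left ⁻¹ᵁ V.1) T ∧ ∀ a,
      pullTriv (lift (toUnit Y ≫ x₀) (𝟙 Y)).left (le_preimage_snd_axis x₀ V.1) T a = res inf_le_left (wY a) := by
    intro V
    have hr : E V ∈ LinearMap.range ((cechδ U).rTensor Γ(Y.left, V.1)) := by
      refine ⟨Sd.rTensor _ (E V), ?_⟩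
      have h1 := hE0 V
      simp only [Rd, LinearMap.rTensor_sub, LinearMap.rTensor_id, LinearMap.sub_apply, LinearMap.id_apply,
        sub_eq_zero, LinearMap.rTensor_comp_apply] at h1
      exact h1.symm
    obtain ⟨T, hT⟩ := (hE V).exists_trivs hUcov (ht V) hr
    exact exists_trivs_normalised hW x₀ hwY hT
  choose T hT hTn using hex
  have hag : ∀ V V' : Y.left.affineOpens,
      restrictTriv (inf_le_left : (snd X Y).left ⁻¹ᵁ V.1 ⊓ (snd X Y).left ⁻¹ᵁ V'.1 ≤ _) (T V) =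
        restrictTriv (inf_le_right : (snd X Y).left ⁻¹ᵁ V.1 ⊓ (snd X Y).left ⁻¹ᵁ V'.1 ≤ _) (T V') := fun V V' =>
    restrictTriv_eq_of_normalised hX hW x₀ (V'' := V.1 ⊓ V'.1) inf_le_left inf_le_right (V.2.inf V'.2)
      (hT V) (hT V') (hTn V) (hTn V')
  obtain ⟨T', hT', -⟩ := exists_trivs_glue (O := (⊤ : (X ⊗ Y).left.Opens))
    (fun V : Y.left.affineOpens => (snd X Y).left ⁻¹ᵁ V.1) (fun _ => le_top)
    (fun q _ => by
      obtain ⟨V, hV, hqV, -⟩ := exists_isAffineOpen_mem_and_subset (x := (snd X Y).left q) (U := ⊤) trivial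
      exact Opens.mem_iSup.2 ⟨⟨V, hV⟩, hqV⟩)
    hT hag
  exact sCob_of_trivs hT'

end GrothLib.Cube
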