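import Groth.Agent.Lib.Cube.Lift

/-!
# Local trivialisations of scalar cocycles
-/

universe u

open CategoryTheory CategoryTheory.Limits Opposite TopologicalSpace AlgebraicGeometry
open GrothLib.Ample

set_option backward.isDefEq.respectTransparency false

noncomputable section

namespace GrothLib.Cube

variable {X T : Scheme.{u}} {κ : Type u}

/-- `t` trivialises the scalar cocycle `h` over `O`. -/
def Trivs (W : κ → X.Opens) (h : ∀ a b, Γ(X, W a ⊓ W b)) (O : X.Opens) (t : ∀ a, Γ(X, W a ⊓ O)) : Prop :=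
  ∀ (a b : κ) (V : X.Opens) (ha : V ≤ W a ⊓ O) (hb : V ≤ W b ⊓ O),
    res (le_inf (ha.trans inf_le_left) (hb.trans inf_le_left)) (h a b) = res ha (t a) - res hb (t b)

theorem exists_glue {κ : Type*} (W : κ → X.Opens) {O : X.Opens} (hW : ∀ a, W a ≤ O) (hc : O ≤ ⨆ a, W a)
    (x : ∀ a, Γ(X, W a)) (hx : ∀ a b, res inf_le_left (x a) = (res inf_le_right (x b) : Γ(X, W a ⊓ W b))) :
    ∃ t, ∀ a, res (hW a) t = x a := by
  obtain ⟨t, ht, -⟩ := X.sheaf.existsUnique_gluing' W O (fun a => homOfLE (hW a)) hc x hx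
  exact ⟨t, ht⟩

theorem eq_of_pieces {κ : Type*} (W : κ → X.Opens) (hW : ⨆ a, W a = ⊤) {O : X.Opens} {x y : Γ(X, O)}
    (h : ∀ a, res (inf_le_right : W a ⊓ O ≤ O) x = res inf_le_right y) : x = y :=
  eq_of_cover (fun a => W a ⊓ O) (fun _ => inf_le_right) (by rw [← iSup_inf_eq, hW, top_inf_eq]) h

variable {W : κ → X.Opens} {h : ∀ a b, Γ(X, W a ⊓ W b)} {O O' : X.Opens}

/-- Restriction of trivialisations. -/
def restrictTriv (hO : O' ≤ O) (t : ∀ a, Γ(X, W a ⊓ O)) (a : κ) : Γ(X, W a ⊓ O') :=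
  res (inf_le_inf_left _ hO) (t a)

theorem Trivs.restrict {t : ∀ a, Γ(X, W a ⊓ O)} (ht : Trivs W h O t) (hO : O' ≤ O) :
    Trivs W h O' (restrictTriv hO t) := by
  intro a b V ha hb
  simp only [restrictTriv, res_res]
  exact ht a b V _ _

theorem res_restrictTriv {O'' : X.Opens} (hO : O' ≤ O) (hO' : O'' ≤ O') (t : ∀ a, Γ(X, W a ⊓ O)) :
    restrictTriv hO' (restrictTriv hO t) = restrictTriv (hO'.trans hO) t :=
  funext fun _ => res_res _ _ _

/-- The difference of two trivialisations is a function. -/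
theorem Trivs.exists_diff (hW : ⨆ a, W a = ⊤) {t t' : ∀ a, Γ(X, W a ⊓ O)} (ht : Trivs W h O t)
    (ht' : Trivs W h O t') : ∃ g : Γ(X, O), ∀ a, res inf_le_right g = t a - t' a := by
  refine exists_glue (fun a => W a ⊓ O) (fun a => inf_le_right) (by rw [← iSup_inf_eq, hW, top_inf_eq]) _
    fun a b => ?_
  have h1 := ht a b ((W a ⊓ O) ⊓ (W b ⊓ O)) inf_le_left inf_le_right
  have h2 := ht' a b ((W a ⊓ O) ⊓ (W b ⊓ O)) inf_le_left inf_le_right
  simp only [map_sub]
  linear_combination h2 - h1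

theorem Trivs.sub_const {t : ∀ a, Γ(X, W a ⊓ O)} (ht : Trivs W h O t) (g : Γ(X, O)) :
    Trivs W h O fun a => t a - res inf_le_right g := by
  intro a b V ha hb
  have h1 := ht a b V ha hb
  simp only [map_sub, res_res]
  linear_combination h1

theorem trivs_of_sCob {w : ∀ a, Γ(X, W a)} (hw : ∀ a b, h a b = res inf_le_left (w a) - res inf_le_right (w b))
    (O : X.Opens) : Trivs W h O fun a => res inf_le_left (w a) := by
  intro a b V ha hb
  simp only [hw a b, map_sub, res_res]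

/-- Pullback of trivialisations. -/
def pullTriv (f : T ⟶ X) {O' : T.Opens} (hO : O' ≤ f ⁻¹ᵁ O) (t : ∀ a, Γ(X, W a ⊓ O)) (a : κ) :
    Γ(T, f ⁻¹ᵁ W a ⊓ O') :=
  (f.appLE (W a ⊓ O) (f ⁻¹ᵁ W a ⊓ O') (inf_le_inf_left _ hO)).hom (t a)

theorem Trivs.pull {t : ∀ a, Γ(X, W a ⊓ O)} (ht : Trivs W h O t) (f : T ⟶ X) {O' : T.Opens}
    (hO : O' ≤ f ⁻¹ᵁ O) : Trivs (fun a => f ⁻¹ᵁ W a) (spull f W h) O' (pullTriv f hO t) := by
  intro a b V ha hb
  have e : V ≤ f ⁻¹ᵁ ((W a ⊓ O) ⊓ (W b ⊓ O)) :=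
    le_inf (ha.trans (inf_le_inf_left _ hO)) (hb.trans (inf_le_inf_left _ hO))
  have h1 := congrArg (f.appLE _ V e).hom (ht a b _ inf_le_left inf_le_right)
  simp only [map_sub, appLE_res] at h1
  simp only [pullTriv, spull, res_appLE]
  exact h1

/-- Agreeing trivialisations glue. -/
theorem exists_trivs_glue {I : Type*} (Oi : I → X.Opens) (hOi : ∀ i, Oi i ≤ O) (hc : O ≤ ⨆ i, Oi i)
    {t : ∀ i a, Γ(X, W a ⊓ Oi i)} (ht : ∀ i, Trivs W h (Oi i) (t i))
    (hag : ∀ i j, restrictTriv (inf_le_left : Oi i ⊓ Oi j ≤ Oi i) (t i) =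
      restrictTriv (inf_le_right : Oi i ⊓ Oi j ≤ Oi j) (t j)) :
    ∃ T, Trivs W h O T ∧ ∀ i, restrictTriv (hOi i) T = t i := by
  have key : ∀ a, ∃ T : Γ(X, W a ⊓ O), ∀ i, res (inf_le_inf_left _ (hOi i)) T = t i a := fun a =>
    exists_glue (fun i => W a ⊓ Oi i) (fun i => inf_le_inf_left _ (hOi i))
      ((inf_le_inf_left _ hc).trans (le_of_eq (inf_iSup_eq _ _))) (fun i => t i a) fun i j => by
      have h1 := congrArg (res (le_inf (inf_le_left.trans inf_le_left)
        (le_inf (inf_le_left.trans inf_le_right) (inf_le_right.trans inf_le_right)) :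
        (W a ⊓ Oi i) ⊓ (W a ⊓ Oi j) ≤ W a ⊓ (Oi i ⊓ Oi j))) (congrFun (hag i j) a)
      simp only [restrictTriv, res_res] at h1
      exact h1
  choose T hT using key
  refine ⟨T, fun a b V ha hb => ?_, fun i => funext fun a => hT a i⟩
  refine eq_of_cover (fun i => V ⊓ Oi i) (fun _ => inf_le_left)
    (by rw [← inf_iSup_eq]; exact le_inf le_rfl ((ha.trans inf_le_right).trans hc)) fun i => ?_
  have h1 := ht i a b (V ⊓ Oi i) (le_inf ((inf_le_left.trans ha).trans inf_le_left) inf_le_right)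
    (le_inf ((inf_le_left.trans hb).trans inf_le_left) inf_le_right)
  simp only [← hT, res_res] at h1
  simp only [map_sub, res_res]
  exact h1

theorem sCob_of_trivs {t : ∀ a, Γ(X, W a ⊓ ⊤)} (ht : Trivs W h ⊤ t) : SCob W h := by
  refine ⟨fun a => res (le_inf le_rfl le_top) (t a), fun a b => ?_⟩
  have h1 := ht a b (W a ⊓ W b) (le_inf inf_le_left le_top) (le_inf inf_le_right le_top)
  rw [res_self] at h1
  simp only [res_res]
  exact h1

/-- Scalar cocycles are trivial over affine opens. -/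
theorem exists_trivs_of_isAffineOpen (hW : ⨆ a, W a = ⊤) (hh : SCoc W h) (hO : IsAffineOpen O) :
    ∃ t, Trivs W h O t := by
  have : IsAffine O.toScheme := hO
  let W' : κ → O.toScheme.Opens := fun a => O.ι ⁻¹ᵁ W a
  have hW' : ⨆ a, W' a = ⊤ := by rw [← Scheme.Hom.preimage_iSup, hW]; rfl
  let z : C1 W' (Coh.structureModule O.toScheme) := fun a b =>
    (O.ι.appLE (W a ⊓ W b) (W' a ⊓ W' b) le_rfl).hom (h a b)
  have hz : IsCoc z := by
    intro a b d V ha hb hd
    have e : V ≤ O.ι ⁻¹ᵁ (W a ⊓ W b ⊓ W d) := le_inf (le_inf ha hb) hd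
    have h1 := congrArg (O.ι.appLE _ V e).hom
      (hh a b d (W a ⊓ W b ⊓ W d) (inf_le_left.trans inf_le_left) (inf_le_left.trans inf_le_right) inf_le_right)
    simp only [map_add, appLE_res] at h1
    show res (le_inf ha hd) (z a d) = res (le_inf ha hb) (z a b) + res (le_inf hb hd) (z b d)
    simp only [z, res_appLE]
    exact h1
  haveI : (Coh.structureModule O.toScheme).IsQuasicoherent :=
    (Euler.isCoh_of_isInvertible Euler.isInvertible_structure).1
  obtain ⟨m, hm⟩ := isCob_of_isAffine hW' hz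
  have hpre : ∀ a, W' a ≤ O.ι ⁻¹ᵁ (W a ⊓ O) := fun a => by
    rw [Scheme.Hom.preimage_inf, Scheme.Opens.ι_preimage_self, inf_top_eq]
  have hbij : ∀ a, Function.Bijective (O.ι.appLE (W a ⊓ O) (W' a) (hpre a)).hom := fun a => by
    refine bijective_appLE_of_eq O.ι (by rw [Scheme.Opens.opensRange_ι]; exact inf_le_right) ?_
    rw [Scheme.Hom.preimage_inf, Scheme.Opens.ι_preimage_self, inf_top_eq]
  choose t ht using fun a => (hbij a).2 (m a : Γ(O.toScheme, W' a))
  refine ⟨t, fun a b V ha hb => ?_⟩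
  have hV : V ≤ O := ha.trans inf_le_right
  refine (bijective_appLE_of_eq O.ι (U := V) (V := O.ι ⁻¹ᵁ V)
    (by rw [Scheme.Opens.opensRange_ι]; exact hV) rfl).1 ?_
  rw [map_sub, appLE_res, appLE_res, appLE_res]
  have e : O.ι ⁻¹ᵁ V ≤ W' a ⊓ W' b :=
    le_inf (O.ι.preimage_mono (ha.trans inf_le_left)) (O.ι.preimage_mono (hb.trans inf_le_left))
  have h1 : res e (res inf_le_left (m a : Γ(O.toScheme, W' a)) - res inf_le_right (m b : Γ(O.toScheme, W' b))) =
      res e (z a b) := congrArg (res e) (congrFun (congrFun hm a) b)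
  rw [map_sub, res_res, res_res, ← ht a, ← ht b] at h1
  simp only [z, res_appLE] at h1
  exact h1.symm

end GrothLib.Cube
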