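import Groth.Agent.Lib.Cube.Prod
import Groth.Agent.Lib.Cube.Trivs
import Mathlib.LinearAlgebra.TensorProduct.Pi

/-!
# Differences of trivialisations over products of affine opens

The Čech complex of one factor, tensored with the functions on an affine open of the other factor.
-/

universe u

open CategoryTheory CategoryTheory.Limits Opposite TopologicalSpace AlgebraicGeometry
open MonoidalCategory CartesianMonoidalCategory
open GrothLib.Ample
open scoped TensorProduct

set_option backward.isDefEq.respectTransparency false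

noncomputable section

namespace GrothLib.Cube

section LinAlg

variable {L : Type u} [Field L] {M M' N : Type u} [AddCommGroup M] [Module L M] [AddCommGroup M'] [Module L M']
  [AddCommGroup N] [Module L N] {ι : Type u} {φ : ι → Type u} [∀ i, AddCommGroup (φ i)] [∀ i, Module L (φ i)]

theorem proj_rTensor_sum_single [Fintype ι] [DecidableEq ι] (x : ∀ q, φ q ⊗[L] M) (p : ι) :
    (LinearMap.proj (φ := φ) p).rTensor M (∑ q, (LinearMap.single L φ q).rTensor M (x q)) = x p := by
  rw [map_sum, Finset.sum_eq_single p]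
  · rw [← LinearMap.rTensor_comp_apply, LinearMap.proj_comp_single_same, LinearMap.rTensor_id]
    rfl
  · intro q _ hq
    rw [← LinearMap.rTensor_comp_apply, LinearMap.proj_comp_single_ne L _ _ _ hq.symm, LinearMap.rTensor_zero]
    rfl
  · exact fun hp => absurd (Finset.mem_univ p) hp

theorem eq_sum_single_proj [Fintype ι] [DecidableEq ι] (x : (∀ i, φ i) ⊗[L] M) :
    x = ∑ q, (LinearMap.single L φ q).rTensor M ((LinearMap.proj (φ := φ) q).rTensor M x) := by
  induction x using TensorProduct.induction_on with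
  | zero => simp only [map_zero, Finset.sum_const_zero]
  | tmul a b =>
    simp only [LinearMap.rTensor_tmul, ← TensorProduct.sum_tmul]
    congr 1
    funext r
    simp [Finset.sum_apply, Pi.single_apply]
  | add x y hx hy =>
    conv_lhs => rw [hx, hy]
    simp only [map_add, Finset.sum_add_distrib]

theorem eq_zero_of_proj_rTensor [Fintype ι] [DecidableEq ι] (x : (∀ i, φ i) ⊗[L] M)
    (hx : ∀ p, (LinearMap.proj (φ := φ) p).rTensor M x = 0) : x = 0 := by
  rw [eq_sum_single_proj x]
  exact Finset.sum_eq_zero fun q _ => by rw [hx q, map_zero]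

theorem eq_zero_of_lid_rTensor (x : N ⊗[L] M) (hx : ∀ ℓ : N →ₗ[L] L, TensorProduct.lid L M (ℓ.rTensor M x) = 0) :
    x = 0 := by
  let b := Module.Free.chooseBasis L N
  let e : N ⊗[L] M ≃ₗ[L] Module.Free.ChooseBasisIndex L N →₀ M :=
    (TensorProduct.congr b.repr (LinearEquiv.refl L _)).trans (TensorProduct.finsuppScalarLeft L _ _)
  have key : ∀ j y, e y j = TensorProduct.lid L M ((b.coord j).rTensor M y) := by
    intro j y
    induction y using TensorProduct.induction_on with
    | zero => simp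
    | tmul a c => simp [e]
    | add y z hy hz => simp [hy, hz]
  refine e.injective (Finsupp.ext fun j => ?_)
  rw [key, map_zero, Finsupp.zero_apply]
  exact hx _

theorem apply_lid_rTensor (g : M →ₗ[L] L) (ℓ : N →ₗ[L] L) (x : N ⊗[L] M) :
    g (TensorProduct.lid L M (ℓ.rTensor M x)) = ℓ (TensorProduct.rid L N (g.lTensor N x)) := by
  induction x using TensorProduct.induction_on with
  | zero => simp only [map_zero]
  | tmul a b => simp [mul_comm]
  | add x y hx hy => simp only [map_add, hx, hy]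

theorem map_lid_rTensor (g : M →ₗ[L] M') (ℓ : N →ₗ[L] L) (x : N ⊗[L] M) :
    g (TensorProduct.lid L M (ℓ.rTensor M x)) = TensorProduct.lid L M' (ℓ.rTensor M' (g.lTensor N x)) := by
  induction x using TensorProduct.induction_on with
  | zero => simp only [map_zero]
  | tmul a b => simp
  | add x y hx hy => simp only [map_add, hx, hy]

theorem rTensor_lTensor_comm {N' : Type u} [AddCommGroup N'] [Module L N'] (f : N →ₗ[L] N') (g : M →ₗ[L] M')
    (x : N ⊗[L] M) : f.rTensor M' (g.lTensor N x) = g.lTensor N' (f.rTensor M x) := by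
  induction x using TensorProduct.induction_on with
  | zero => simp only [map_zero]
  | tmul a b => rfl
  | add x y hx hy => simp only [map_add, hx, hy]

theorem rid_lTensor_proj (g : M →ₗ[L] L) (p : ι) (x : (∀ i, φ i) ⊗[L] M) :
    TensorProduct.rid L (∀ i, φ i) (g.lTensor _ x) p =
      TensorProduct.rid L (φ p) (g.lTensor _ ((LinearMap.proj (φ := φ) p).rTensor M x)) := by
  induction x using TensorProduct.induction_on with
  | zero => simp only [map_zero]; rfl
  | tmul a b => simp only [LinearMap.lTensor_tmul, LinearMap.rTensor_tmul, TensorProduct.rid_tmul]; rfl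
  | add x y hx hy =>
    simp only [map_add]
    exact (congrArg₂ (· + ·) hx hy)

theorem exists_splitting {N' : Type u} [AddCommGroup N'] [Module L N'] (δ : N →ₗ[L] N') :
    ∃ Sd : N' →ₗ[L] N, ∀ q, δ (Sd (δ q)) = δ q := by
  obtain ⟨s, hs⟩ := LinearMap.exists_rightInverse_of_surjective δ.rangeRestrict δ.range_rangeRestrict
  obtain ⟨s', hs'⟩ := LinearMap.exists_extend s
  refine ⟨s', fun q => ?_⟩
  have h1 : s' (δ q) = s (δ.rangeRestrict q) := DFunLike.congr_fun hs' (δ.rangeRestrict q)
  rw [h1]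
  exact congrArg Subtype.val (DFunLike.congr_fun hs (δ.rangeRestrict q))

end LinAlg

variable {L : Type u} [Field L] {X Y : Over (Spec (CommRingCat.of L))}

theorem boxMap_rTensor {U U' : X.left.Opens} {V : Y.left.Opens} (hU : U' ≤ U)
    (e : Γ(X.left, U) ⊗[L] Γ(Y.left, V)) :
    boxMap U' V ((resAlg X hU).toLinearMap.rTensor _ e) = res (box_mono hU le_rfl) (boxMap U V e) := by
  rw [res_boxMap hU le_rfl]
  congr 1
  induction e using TensorProduct.induction_on with
  | zero => simp only [map_zero]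
  | tmul x y => simp [resAlg_apply, res_self]
  | add x y hx hy => rw [map_add, map_add, hx, hy]

theorem boxMap_lTensor {U : X.left.Opens} {V V' : Y.left.Opens} (hV : V' ≤ V)
    (e : Γ(X.left, U) ⊗[L] Γ(Y.left, V)) :
    boxMap U V' ((resAlg Y hV).toLinearMap.lTensor _ e) = res (box_mono le_rfl hV) (boxMap U V e) := by
  rw [res_boxMap le_rfl hV]
  congr 1
  induction e using TensorProduct.induction_on with
  | zero => simp only [map_zero]
  | tmul x y => simp [resAlg_apply, res_self]
  | add x y hx hy => rw [map_add, map_add, hx, hy]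

variable {I : Type u}

/-- The first differential of the Čech complex of a family of opens. -/
def cechδ (U : I → X.left.Opens) :
    (∀ i, Γ(X.left, U i)) →ₗ[L] ∀ p : I × I, Γ(X.left, U p.1 ⊓ U p.2) :=
  LinearMap.pi fun p =>
    (resAlg X (inf_le_left : U p.1 ⊓ U p.2 ≤ U p.1)).toLinearMap ∘ₗ LinearMap.proj p.1 -
      (resAlg X (inf_le_right : U p.1 ⊓ U p.2 ≤ U p.2)).toLinearMap ∘ₗ LinearMap.proj p.2

theorem cechδ_apply (U : I → X.left.Opens) (q : ∀ i, Γ(X.left, U i)) (p : I × I) :
    cechδ U q p = res inf_le_left (q p.1) - res inf_le_right (q p.2) := rfl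

theorem proj_rTensor_cechδ (U : I → X.left.Opens) {M : Type u} [AddCommGroup M] [Module L M]
    (γ : (∀ i, Γ(X.left, U i)) ⊗[L] M) (p : I × I) :
    (LinearMap.proj (φ := fun p : I × I => Γ(X.left, U p.1 ⊓ U p.2)) p).rTensor M ((cechδ U).rTensor M γ) =
      (resAlg X (inf_le_left : U p.1 ⊓ U p.2 ≤ U p.1)).toLinearMap.rTensor M
        ((LinearMap.proj (φ := fun i => Γ(X.left, U i)) p.1).rTensor M γ) -
      (resAlg X (inf_le_right : U p.1 ⊓ U p.2 ≤ U p.2)).toLinearMap.rTensor M
        ((LinearMap.proj (φ := fun i => Γ(X.left, U i)) p.2).rTensor M γ) := by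
  rw [← LinearMap.rTensor_comp_apply, ← LinearMap.rTensor_comp_apply, ← LinearMap.rTensor_comp_apply,
    ← LinearMap.sub_apply, ← LinearMap.rTensor_sub]
  rfl

variable {κ : Type u} {W : κ → (X ⊗ Y).left.Opens} {h : ∀ a b, Γ((X ⊗ Y).left, W a ⊓ W b)}
  {U : I → X.left.Opens} {V V' : Y.left.Opens}

/-- `E` records the differences of the trivialisations `t` over the boxes. -/
def IsDiff (U : I → X.left.Opens) (V : Y.left.Opens) (t : ∀ i a, Γ((X ⊗ Y).left, W a ⊓ box (U i) V))
    (E : (∀ p : I × I, Γ(X.left, U p.1 ⊓ U p.2)) ⊗[L] Γ(Y.left, V)) : Prop :=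
  ∀ p a, res inf_le_right (boxMap (U p.1 ⊓ U p.2) V
      ((LinearMap.proj (φ := fun p : I × I => Γ(X.left, U p.1 ⊓ U p.2)) p).rTensor Γ(Y.left, V) E)) =
    restrictTriv (box_mono inf_le_left le_rfl) (t p.1) a - restrictTriv (box_mono inf_le_right le_rfl) (t p.2) a

theorem exists_isDiff [X.left.IsSeparated] [Fintype I] (hW : ⨆ a, W a = ⊤) (hU : ∀ i, IsAffineOpen (U i))
    (hV : IsAffineOpen V) {t : ∀ i a, Γ((X ⊗ Y).left, W a ⊓ box (U i) V)}
    (ht : ∀ i, Trivs W h (box (U i) V) (t i)) : ∃ E, IsDiff U V t E := by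
  classical
  have he : ∀ p : I × I, ∃ ε : Γ(X.left, U p.1 ⊓ U p.2) ⊗[L] Γ(Y.left, V), ∀ a,
      res inf_le_right (boxMap (U p.1 ⊓ U p.2) V ε) =
        restrictTriv (box_mono inf_le_left le_rfl) (t p.1) a -
          restrictTriv (box_mono inf_le_right le_rfl) (t p.2) a := fun p => by
    obtain ⟨g, hg⟩ := ((ht p.1).restrict (box_mono inf_le_left le_rfl)).exists_diff hW
      ((ht p.2).restrict (box_mono inf_le_right le_rfl))
    obtain ⟨ε, hε⟩ := (bijective_boxMap ((hU p.1).inf (hU p.2)) hV).2 g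
    exact ⟨ε, fun a => by rw [hε]; exact hg a⟩
  choose ε hε using he
  refine ⟨∑ p, (LinearMap.single L (fun p : I × I => Γ(X.left, U p.1 ⊓ U p.2)) p).rTensor Γ(Y.left, V) (ε p),
    fun p a => ?_⟩
  rw [proj_rTensor_sum_single]
  exact hε p a

theorem IsDiff.sub_mem_range [X.left.IsSeparated] [Fintype I] (hW : ⨆ a, W a = ⊤) (hU : ∀ i, IsAffineOpen (U i))
    (hV' : IsAffineOpen V') (hVV : V' ≤ V)
    {t : ∀ i a, Γ((X ⊗ Y).left, W a ⊓ box (U i) V)} (ht : ∀ i, Trivs W h (box (U i) V) (t i))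
    {t' : ∀ i a, Γ((X ⊗ Y).left, W a ⊓ box (U i) V')} (ht' : ∀ i, Trivs W h (box (U i) V') (t' i))
    {E} (hE : IsDiff U V t E) {E'} (hE' : IsDiff U V' t' E') :
    E' - (resAlg Y hVV).toLinearMap.lTensor _ E ∈ LinearMap.range ((cechδ U).rTensor Γ(Y.left, V')) := by
  classical
  have hγ : ∀ i, ∃ γ : Γ(X.left, U i) ⊗[L] Γ(Y.left, V'), ∀ a,
      res inf_le_right (boxMap (U i) V' γ) = t' i a - restrictTriv (box_mono le_rfl hVV) (t i) a := fun i => by
    obtain ⟨g, hg⟩ := (ht' i).exists_diff hW ((ht i).restrict (box_mono le_rfl hVV))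
    obtain ⟨γ, hγ⟩ := (bijective_boxMap (hU i) hV').2 g
    exact ⟨γ, fun a => by rw [hγ]; exact hg a⟩
  choose γ hγ using hγ
  refine ⟨∑ i, (LinearMap.single L (fun i => Γ(X.left, U i)) i).rTensor _ (γ i), ?_⟩
  rw [← sub_eq_zero]
  refine eq_zero_of_proj_rTensor _ fun p => ?_
  rw [map_sub, map_sub, proj_rTensor_cechδ, proj_rTensor_sum_single, proj_rTensor_sum_single,
    rTensor_lTensor_comm, sub_eq_zero]
  apply (bijective_boxMap ((hU p.1).inf (hU p.2)) hV').1
  refine eq_of_pieces W hW fun a => ?_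
  simp only [map_sub, boxMap_rTensor, boxMap_lTensor, res_res]
  have q1 := congrArg (res (inf_le_inf_left (W a) (box_mono inf_le_left le_rfl) :
    W a ⊓ box (U p.1 ⊓ U p.2) V' ≤ W a ⊓ box (U p.1) V')) (hγ p.1 a)
  have q2 := congrArg (res (inf_le_inf_left (W a) (box_mono inf_le_right le_rfl) :
    W a ⊓ box (U p.1 ⊓ U p.2) V' ≤ W a ⊓ box (U p.2) V')) (hγ p.2 a)
  have q3 := congrArg (res (inf_le_inf_left (W a) (box_mono le_rfl hVV) :
    W a ⊓ box (U p.1 ⊓ U p.2) V' ≤ W a ⊓ box (U p.1 ⊓ U p.2) V)) (hE p a)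
  have q4 := hE' p a
  simp only [restrictTriv, map_sub, res_res] at q1 q2 q3 q4 ⊢
  linear_combination q1 - q2 + q3 - q4

/-- Differences which are coboundaries give a trivialisation over the preimage. -/
theorem IsDiff.exists_trivs (hUcov : ⨆ i, U i = ⊤) {t : ∀ i a, Γ((X ⊗ Y).left, W a ⊓ box (U i) V)}
    (ht : ∀ i, Trivs W h (box (U i) V) (t i)) {E} (hE : IsDiff U V t E)
    (hr : E ∈ LinearMap.range ((cechδ U).rTensor Γ(Y.left, V))) :
    ∃ T, Trivs W h ((snd X Y).left ⁻¹ᵁ V) T := by
  obtain ⟨S, rfl⟩ := hr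
  let τ := fun i => (LinearMap.proj (φ := fun i => Γ(X.left, U i)) i).rTensor Γ(Y.left, V) S
  let t' : ∀ i a, Γ((X ⊗ Y).left, W a ⊓ box (U i) V) := fun i a =>
    t i a - res inf_le_right (boxMap (U i) V (τ i))
  obtain ⟨T, hT, -⟩ := exists_trivs_glue (O := (snd X Y).left ⁻¹ᵁ V) (fun i => box (U i) V)
    (fun i => inf_le_right) (by
      rintro q hq
      obtain ⟨i, hi⟩ := Opens.mem_iSup.1 (hUcov.ge (Opens.mem_top ((fst X Y).left q)))
      exact Opens.mem_iSup.2 ⟨i, hi, hq⟩)
    (t := t') (fun i => (ht i).sub_const _) (fun i j => funext fun a => by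
      have hO : W a ⊓ (box (U i) V ⊓ box (U j) V) ≤ W a ⊓ box (U i ⊓ U j) V := by rw [box_inf]
      have h1 := congrArg (res hO) (hE (i, j) a)
      rw [proj_rTensor_cechδ, map_sub, boxMap_rTensor, boxMap_rTensor] at h1
      simp only [t', τ, restrictTriv, map_sub, res_res] at h1 ⊢
      linear_combination -h1)
  exact ⟨T, hT⟩

end GrothLib.Cube
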