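import Groth.Agent.Lib.Cube.Torsor
import Groth.Agent.Lib.Cube.Mod
import Mathlib.AlgebraicGeometry.PullbackCarrier

/-!
# Lifting trivialisations from a fibre of a proper flat family

A line bundle (given by a cocycle) on a proper flat scheme over a Noetherian ring, trivial on the zero
locus of a regular parameter in the Jacobson radical, is trivial as soon as it is trivial on enough
slices to detect `H¹` of the structure sheaf of the fibre.
-/

universe u

open CategoryTheory CategoryTheory.Limits Opposite TopologicalSpace AlgebraicGeometry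
open GrothLib.Ample
open GrothLib.InvExt (mres mres_smul mres_mres IsGen)

set_option backward.isDefEq.respectTransparency false

noncomputable section

namespace GrothLib.Cube

section Scalar

variable {X Y : Scheme.{u}} {κ : Type u}

/-- Scalar cocycles. -/
def SCoc (W : κ → X.Opens) (z : ∀ a b, Γ(X, W a ⊓ W b)) : Prop :=
  ∀ (a b c : κ) (V : X.Opens) (ha : V ≤ W a) (hb : V ≤ W b) (hc : V ≤ W c),
    res (le_inf ha hc) (z a c) = res (le_inf ha hb) (z a b) + res (le_inf hb hc) (z b c)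

/-- Scalar coboundaries. -/
def SCob (W : κ → X.Opens) (z : ∀ a b, Γ(X, W a ⊓ W b)) : Prop :=
  ∃ v : ∀ a, Γ(X, W a), ∀ a b, z a b = res inf_le_left (v a) - res inf_le_right (v b)

/-- Pullback of scalar cochains. -/
def spull (j : Y ⟶ X) (W : κ → X.Opens) (z : ∀ a b, Γ(X, W a ⊓ W b)) (a b : κ) :
    Γ(Y, j ⁻¹ᵁ W a ⊓ j ⁻¹ᵁ W b) :=
  (j.appLE (W a ⊓ W b) (j ⁻¹ᵁ W a ⊓ j ⁻¹ᵁ W b) le_rfl).hom (z a b)

theorem appLE_sq {X' Y' : Scheme.{u}} {a : Y' ⟶ Y} {b : Y ⟶ X} {a' : Y' ⟶ X'} {b' : X' ⟶ X} (h : a ≫ b = a' ≫ b')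
    {U : X.Opens} {V : Y.Opens} {V' : X'.Opens} {T : Y'.Opens} (e₁ : V ≤ b ⁻¹ᵁ U) (e₂ : T ≤ a ⁻¹ᵁ V)
    (e₁' : V' ≤ b' ⁻¹ᵁ U) (e₂' : T ≤ a' ⁻¹ᵁ V') (x : Γ(X, U)) :
    (a.appLE V T e₂).hom ((b.appLE U V e₁).hom x) = (a'.appLE V' T e₂').hom ((b'.appLE U V' e₁').hom x) := by
  show (b.appLE U V e₁ ≫ a.appLE V T e₂).hom x = (b'.appLE U V' e₁' ≫ a'.appLE V' T e₂').hom x
  simp only [Scheme.Hom.appLE_comp_appLE, h]

end Scalar

variable {R L : Type u} [CommRing R] [CommRing L] (φ : R →+* L) (π : R)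
  {P P₀ : Scheme.{u}} (f : P ⟶ Spec (CommRingCat.of R)) (j₀ : P₀ ⟶ P)
  (c : Cocycle P) {κ : Type u} (W : κ → P.Opens) (idx : κ → c.ι) (hle : ∀ a, W a ≤ c.D (idx a))

/-- The transition function between two pieces. -/
abbrev gg (a b : κ) : Γ(P, W a ⊓ W b) := c.G (idx a) (idx b) (inf_le_left.trans (hle a)) (inf_le_right.trans (hle b))

/-- The twisted difference of local functions. -/
def tdelta (s : ∀ a, Γ(P, W a)) (a b : κ) : Γ(P, W a ⊓ W b) :=
  res inf_le_left (s a) - gg c W idx hle a b * res inf_le_right (s b)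

/-- Twisted cocycles. -/
def IsTCoc (z : ∀ a b, Γ(P, W a ⊓ W b)) : Prop :=
  ∀ (a b d : κ) (V : P.Opens) (ha : V ≤ W a) (hb : V ≤ W b) (hd : V ≤ W d),
    res (le_inf ha hd) (z a d) = res (le_inf ha hb) (z a b) +
      c.G (idx a) (idx b) (ha.trans (hle a)) (hb.trans (hle b)) * res (le_inf hb hd) (z b d)

/-- A trivialisation modulo a power of the parameter. -/
def IsLevel (u : ∀ a, Γ(P₀, j₀ ⁻¹ᵁ W a)) (n : ℕ) (s : ∀ a, Γ(P, W a)) (z : ∀ a b, Γ(P, W a ⊓ W b)) : Prop :=
  (∀ a, (j₀.app (W a)).hom (s a) = u a) ∧ ∀ a b, tdelta c W idx hle s a b = cst f _ π ^ n * z a b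

theorem isTCoc_tdelta (s : ∀ a, Γ(P, W a)) : IsTCoc c W idx hle (tdelta c W idx hle s) := by
  intro a b d V ha hb hd
  simp only [tdelta, gg, map_sub, map_mul, res_res, Cocycle.res_G]
  rw [c.G_trans (idx a) (idx b) (idx d) (ha.trans (hle a)) (hb.trans (hle b)) (hd.trans (hle d))]
  ring

variable {π f j₀ c W idx hle}

theorem isTCoc_of_level [Flat f] (hπ : IsRightRegular π) {u} {n : ℕ} {s z} (h : IsLevel π f j₀ c W idx hle u n s z) :
    IsTCoc c W idx hle z := by
  intro a b d V ha hb hd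
  have hn : IsRightRegular (π ^ n) := hπ.pow n
  rw [← sub_eq_zero]
  refine cst_mul_injective f hn V ?_
  have := isTCoc_tdelta c W idx hle s a b d V ha hb hd
  simp only [h.2, map_mul, ← map_pow, res_cst] at this
  rw [mul_sub, sub_eq_zero, this]
  ring

section Levels

variable {p₀ : P₀ ⟶ Spec (CommRingCat.of L)} {φ}

theorem isAffineOpen_inf [IsSeparated f] {U V : P.Opens} (hU : IsAffineOpen U) (hV : IsAffineOpen V) :
    IsAffineOpen (U ⊓ V) := by
  haveI : P.IsSeparated := ⟨by rw [← terminal.comp_from f]; infer_instance⟩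
  exact hU.inf hV

/-- Trivialisations modulo every power of the parameter give a trivialisation. -/
theorem triv_of_levels [IsNoetherianRing R] [IsProper f] [Flat f]
    (H : IsPullback j₀ p₀ f (Spec.map (CommRingCat.ofHom φ))) (hφ : Function.Surjective φ)
    (hker : RingHom.ker φ = Ideal.span {π}) (hπ : IsRightRegular π) (hjac : π ∈ Ideal.jacobson (⊥ : Ideal R))
    (haff : ∀ a, IsAffineOpen (W a)) (hcov : ⨆ a, W a = ⊤)
    (u : ∀ a, Γ(P₀, j₀ ⁻¹ᵁ W a)) (hu : ∀ a, IsUnit (u a))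
    (hlev : ∀ n : ℕ, ∃ s z, IsLevel π f j₀ c W idx hle u (n + 1) s z) : Triv c := by
  letI : P.Over (Spec (CommRingCat.of R)) := ⟨f⟩
  haveI : IsProper (P ↘ Spec (CommRingCat.of R)) := ‹IsProper f›
  obtain ⟨s₁, z₁, h₁⟩ := hlev 0
  let M := c.twist 1
  let bs : ∀ (a : κ) {V : P.Opens}, V ≤ W a → Γ(M, V) := fun a V hV => c.base 1 (idx a) (hV.trans (hle a))
  have hbres : ∀ (a : κ) {V V' : P.Opens} (h : V' ≤ V) {hV : V ≤ W a}, mres M h (bs a hV) = bs a (h.trans hV) :=
    fun a V V' h hV => c.sectRes_base 1 (idx a) _ h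
  have hbb : ∀ (a b : κ) {V : P.Opens} (ha : V ≤ W a) (hb : V ≤ W b),
      bs b hb = c.G (idx a) (idx b) (ha.trans (hle a)) (hb.trans (hle b)) • bs a ha := fun a b V ha hb => by
    have := c.base_eq_smul_base 1 (idx a) (idx b) (ha.trans (hle a)) (hb.trans (hle b))
    rw [pow_one] at this
    exact this
  let em : (∀ a b, Γ(P, W a ⊓ W b)) → C1 W M := fun z a b => z a b • bs a inf_le_left
  have hem : ∀ z, IsTCoc c W idx hle z → IsCoc (em z) := by
    intro z hz a b d V ha hb hd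
    simp only [em, mres_smul, hbres]
    rw [hbb a b ha hb, smul_smul]
    show (res (le_inf ha hd) (z a d)) • _ = (res (le_inf ha hb) (z a b)) • _ + (res (le_inf hb hd) (z b d) * _) • _
    rw [hz a b d V ha hb hd, add_smul, mul_comm (res (le_inf hb hd) (z b d))]
  have hdelta : ∀ e : ∀ a, Γ(P, W a), delta (fun a => e a • bs a (le_refl (W a))) = em (tdelta c W idx hle e) := by
    intro e
    funext a b
    simp only [delta, em, mres_smul, hbres]
    rw [hbb a b inf_le_left inf_le_right, smul_smul, ← sub_smul, mul_comm]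
    rfl
  have hcoord : ∀ m : ∀ a, Γ(M, W a), ∃ e : ∀ a, Γ(P, W a), ∀ a, e a • bs a (le_refl (W a)) = m a := by
    intro m
    have : ∀ a, ∃ e : Γ(P, W a), e • bs a (le_refl (W a)) = m a := fun a => by
      obtain ⟨e, he⟩ := ((c.isGen_base 1 (idx a) (hle a)) (W a) le_rfl).2 (m a)
      refine ⟨e, ?_⟩
      rw [← he]
      show _ = e • mres M _ (bs a (le_refl (W a)))
      rw [hbres a _ (hV := le_rfl)]
    choose e he using this
    exact ⟨e, he⟩
  have hMcoh : Coh.IsCoh M := Euler.isCoh_of_isInvertible (c.isInvertible_twist 1)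
  have hglob : ∀ (r : R) (V : P.Opens),
      InvExt.fres P (le_top : V ≤ ⊤) (Coh.toGlobal (P ↘ Spec (CommRingCat.of R)) r : Γ(P, ⊤)) = cst f V r := fun r V => rfl
  have hz₁ : IsTCoc c W idx hle z₁ := isTCoc_of_level hπ h₁
  have hdiv : ∀ n : ℕ, ∃ w, IsCoc w ∧ IsCob (em z₁ - fun a b =>
      InvExt.fres P (le_top : W a ⊓ W b ≤ ⊤) (Coh.toGlobal (P ↘ Spec (CommRingCat.of R)) (π ^ n) : Γ(P, ⊤)) • w a b) := by
    intro n
    obtain ⟨s, z, h⟩ := hlev n
    refine ⟨em z, hem z (isTCoc_of_level hπ h), ?_⟩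
    have he : ∀ a, ∃ e, s a - s₁ a = cst f (W a) π * e := fun a => exists_eq_mul φ H hφ hker (haff a) _ (by
      rw [map_sub, h.1 a, h₁.1 a, sub_self])
    choose e he using he
    refine ⟨fun a => (- e a) • bs a (le_refl (W a)), ?_⟩
    rw [hdelta (fun a => - e a)]
    funext a b
    have key : z₁ a b = cst f (W a ⊓ W b) (π ^ n) * z a b + tdelta c W idx hle (fun a => - e a) a b := by
      rw [← sub_eq_zero]
      refine cst_mul_injective f hπ _ ?_
      have h2 := h.2 a b
      have h3 := h₁.2 a b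
      have e1 : s a = s₁ a + cst f (W a) π * e a := by rw [← he a]; ring
      have e2 : s b = s₁ b + cst f (W b) π * e b := by rw [← he b]; ring
      simp only [tdelta, e1, e2, map_add, map_mul, res_cst, map_neg] at h2 h3 ⊢
      rw [map_pow, pow_succ] at *
      linear_combination -h3 + h2
    simp only [em, Pi.sub_apply, smul_smul]
    rw [key, add_smul, map_pow]
    show _ = _ - (InvExt.fres P _ _ * z a b) • _
    rw [← map_pow (cst f (W a ⊓ W b)), ← hglob (π ^ n) (W a ⊓ W b)]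
    abel
  obtain ⟨m, hm⟩ := isCob_of_divisible R hMcoh hcov π hjac (hem z₁ hz₁) hdiv
  obtain ⟨e₀, he₀⟩ := hcoord m
  have hz0 : ∀ a b, z₁ a b = tdelta c W idx hle e₀ a b := fun a b => by
    have h4 : delta (fun a => e₀ a • bs a (le_refl (W a))) = em z₁ := by rw [funext he₀]; exact hm
    rw [hdelta] at h4
    have h5 := congrFun (congrFun h4 a) b
    refine ((c.isGen_base 1 (idx a) (hle a)) (W a ⊓ W b) inf_le_left).1 ?_
    show _ • mres M _ (bs a (le_refl (W a))) = _ • mres M _ (bs a (le_refl (W a)))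
    rw [hbres a _ (hV := le_rfl)]
    exact h5.symm
  let s : ∀ a, Γ(P, W a) := fun a => s₁ a - cst f (W a) π * e₀ a
  have hs : ∀ a b, tdelta c W idx hle s a b = 0 := fun a b => by
    have h3 := h₁.2 a b
    rw [hz0 a b, pow_one] at h3
    simp only [tdelta, s, map_sub, map_mul, res_cst] at h3 ⊢
    linear_combination h3
  obtain ⟨t, ht, -⟩ := TopCat.Sheaf.existsUnique_gluing' ⟨M.presheaf, M.isSheaf⟩ W ⊤ (fun a => homOfLE le_top)
    (by rw [hcov]) (fun a => s a • bs a (le_refl (W a))) (fun a b => by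
      show mres M inf_le_left (s a • bs a (le_refl (W a))) = mres M inf_le_right (s b • bs b (le_refl (W b)))
      rw [mres_smul, mres_smul, hbres a _ (hV := le_rfl), hbres b _ (hV := le_rfl), hbb a b inf_le_left inf_le_right, smul_smul]
      refine congrArg (· • _) ?_
      have := hs a b
      rw [tdelta, sub_eq_zero] at this
      exact this.trans (mul_comm _ _))
  let α : c.sect 1 ⊤ := t
  refine ⟨α, ?_⟩
  have hcomp : ∀ a, res (le_inf le_top (hle a)) (α.1 (idx a)) = s a := fun a => by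
    have h4 : c.sectRes (le_top : W a ≤ ⊤) α = s a • c.base 1 (idx a) (hle a) := ht a
    have h5 := congrArg (fun x : c.sect 1 (W a) => res (le_inf le_rfl (hle a)) (x.1 (idx a))) h4
    simp only [Cocycle.sectRes_apply, Cocycle.smul_apply, Cocycle.base_self, mul_one, res_res, res_self] at h5
    exact h5
  have hfib : ∀ y₀ : P₀, j₀ y₀ ∈ c.locus α := by
    intro y₀
    obtain ⟨a, ha⟩ := Opens.mem_iSup.1 (hcov ▸ Opens.mem_top (j₀ y₀) : j₀ y₀ ∈ ⨆ a, W a)
    rw [c.mem_locus_iff α (hle a ha)]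
    have hb : y₀ ∈ P₀.basicOpen ((j₀.app (W a)).hom (s a)) := by
      have : (j₀.app (W a)).hom (s a) = u a := by
        have h0 : (j₀.app (W a)).hom (cst f (W a) π) = 0 := by
          rw [Scheme.Hom.app_eq_appLE, appLE_cst, H.w, ← appLE_cst p₀ (Spec.map (CommRingCat.ofHom φ)) (V := ⊤) le_top]
          have : cst (Spec.map (CommRingCat.ofHom φ)) ⊤ π = 0 := by
            show ((Scheme.ΓSpecIso (CommRingCat.of R)).inv ≫ (Spec.map (CommRingCat.ofHom φ)).appLE ⊤ ⊤ le_top).hom π = 0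
            rw [show (Spec.map (CommRingCat.ofHom φ)).appLE ⊤ ⊤ le_top = (Spec.map (CommRingCat.ofHom φ)).appTop
              from Scheme.Hom.appLE_eq_app _, ← Scheme.ΓSpecIso_inv_naturality]
            have hπ0 : φ π = 0 := by
              rw [← RingHom.mem_ker, hker]; exact Ideal.mem_span_singleton_self π
            show (Scheme.ΓSpecIso (CommRingCat.of L)).inv.hom (φ π) = 0
            rw [hπ0, map_zero]
          rw [this, map_zero]
        rw [show s a = s₁ a - cst f (W a) π * e₀ a from rfl, map_sub, map_mul, h0, zero_mul, sub_zero, h₁.1]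
      rw [this, Scheme.basicOpen_of_isUnit _ (hu a)]
      exact ha
    rw [← Scheme.preimage_basicOpen] at hb
    rw [← hcomp a, Scheme.basicOpen_res] at hb
    exact hb.2
  refine top_le_iff.1 fun y _ => by_contra fun hy => ?_
  have hcl : IsClosed (f '' ((c.locus α : Set P)ᶜ)) := f.isClosedMap _ (c.locus α).isOpen.isClosed_compl
  obtain ⟨x, hx, hxc⟩ := IsClosed.exists_closed_singleton (X := PrimeSpectrum R) hcl ⟨f y, y, hy, rfl⟩
  obtain ⟨y', hy', rfl⟩ := hx
  have hmax : (PrimeSpectrum.asIdeal (R := R) (f y')).IsMaximal :=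
    (PrimeSpectrum.isClosed_singleton_iff_isMaximal _).1 hxc
  have hmem : π ∈ (PrimeSpectrum.asIdeal (R := R) (f y')) := by
    rw [Ideal.jacobson, Ideal.mem_sInf] at hjac
    exact hjac ⟨bot_le, hmax⟩
  have hrange : f y' ∈ Set.range (Spec.map (CommRingCat.ofHom φ)) := by
    show f y' ∈ Set.range (PrimeSpectrum.comap φ)
    rw [range_comap_of_surjective _ φ hφ, hker, PrimeSpectrum.mem_zeroLocus,
      SetLike.coe_subset_coe, Ideal.span_singleton_le_iff_mem]
    exact hmem
  obtain ⟨l, hl⟩ := hrange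
  obtain ⟨y₀, hy₀, -⟩ := Scheme.Pullback.exists_preimage_pullback (f := f) (g := Spec.map (CommRingCat.ofHom φ)) y' l hl.symm
  refine hy' ?_
  rw [show y' = j₀ (H.isoPullback.inv y₀) by rw [← Scheme.Hom.comp_apply, H.isoPullback_inv_fst, hy₀]]
  exact hfib _

end Levels

end GrothLib.Cube
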