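import Groth.Agent.Lib.Cube.AmpleCrit
import Groth.Agent.Lib.Cube.AmpleDescent

/-!
# Effective classes with affine complement are ample
-/

universe u

open CategoryTheory CategoryTheory.Limits Opposite TopologicalSpace AlgebraicGeometry
open MonoidalCategory CartesianMonoidalCategory MonObj
open GrothLib.Ample
open scoped CategoryTheory.Obj

set_option backward.isDefEq.respectTransparency false

noncomputable section

namespace GrothLib.Cube

variable {K : Type u} [Field K] {A : Over (Spec (CommRingCat.of K))}

/-- On an abelian variety over a field, a class with a section whose locus is affine and nonempty is ample. -/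
theorem isAmple_of_isAffineOpen_locus_field [GrpObj A] [IsProper A.hom] [GeometricallyIntegral A.hom]
    {L : A.left.Modules} (hL : PicF.IsInvertible L) {U : A.left.Opens} (hs : HasSec (clsMod hL) U)
    (hne : (U : Set A.left).Nonempty) (hU : IsAffineOpen U) : CohB1.IsAmple L := by
  let φ : Spec (CommRingCat.of (AlgebraicClosure K)) ⟶ Spec (CommRingCat.of K) :=
    Spec.map (CommRingCat.ofHom (algebraMap K (AlgebraicClosure K)))
  let P := Over.pullback φ
  have : IsProper (P.obj A).hom := by dsimp [P]; infer_instance
  have : GeometricallyIntegral (P.obj A).hom := by dsimp [P]; infer_instance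
  let g : (P.obj A).left ⟶ A.left := pullback.fst A.hom φ
  haveI : Surjective φ := inferInstance
  haveI : Surjective g := MorphismProperty.pullback_fst _ _ ‹Surjective φ›
  haveI : IsAffineHom g := MorphismProperty.pullback_fst _ _ (inferInstance : IsAffineHom φ)
  refine isAmple_of_baseChange_field (f' := (P.obj A).hom) (g := g) (IsPullback.of_hasPullback A.hom φ) hL ?_
  refine isAmple_of_isAffineOpen_locus (A := P.obj A) (isInvertible_pullback g hL) (U := g ⁻¹ᵁ U) ?_ ?_ (hU.preimage g)
  · rw [clsMod_pullback g hL]
    exact hasSec_pull g hs
  · obtain ⟨q, hq⟩ := hne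
    obtain ⟨q', rfl⟩ := g.surjective q
    exact ⟨q', hq⟩

end GrothLib.Cube
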