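import Groth.Agent.Lib.Cube.Fibre
import Groth.Agent.Lib.Cube.HeightOne
import Groth.Agent.Lib.NormalExt.Basic

/-!
# From the generic point to a normal base

A line bundle on a flat family over a normal integral base with integral fibres and only constant functions, trivial on the
generic fibre and along a section, is trivial.
-/

universe u

open CategoryTheory CategoryTheory.Limits Opposite TopologicalSpace AlgebraicGeometry
open GrothLib.Ample

set_option backward.isDefEq.respectTransparency false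

noncomputable section

namespace GrothLib.Cube

section Rel

variable {P Y : Scheme.{u}} (c : Cocycle P) {κ : Type u} (W : κ → P.Opens) (idx : κ → c.ι)
  (hle : ∀ a, W a ≤ c.D (idx a))

/-- Local functions glueing to a section of the line bundle. -/
def Rel (s : ∀ a, Γ(P, W a)) : Prop :=
  ∀ (a b : κ) (O : P.Opens) (ha : O ≤ W a) (hb : O ≤ W b),
    res ha (s a) = c.G (idx a) (idx b) (ha.trans (hle a)) (hb.trans (hle b)) * res hb (s b)

/-- Local functions glueing to a section of the inverse bundle. -/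
def RelInv (t : ∀ a, Γ(P, W a)) : Prop :=
  ∀ (a b : κ) (O : P.Opens) (ha : O ≤ W a) (hb : O ≤ W b),
    res hb (t b) = c.G (idx a) (idx b) (ha.trans (hle a)) (hb.trans (hle b)) * res ha (t a)

variable {c W idx hle}

theorem Rel.pull {s : ∀ a, Γ(P, W a)} (hs : Rel c W idx hle s) (f : Y ⟶ P) :
    Rel (c.comap f) (fun a => f ⁻¹ᵁ W a) idx (fun a => f.preimage_mono (hle a))
      (fun a => (f.app (W a)).hom (s a)) := by
  intro a b O ha hb
  have e : O ≤ f ⁻¹ᵁ (W a ⊓ W b) := le_inf ha hb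
  have h1 := congrArg (f.appLE _ O e).hom (hs a b _ inf_le_left inf_le_right)
  simp only [map_mul, appLE_res, c.appLE_G] at h1
  simp only [Scheme.Hom.app_eq_appLE, res_appLE]
  exact h1

theorem RelInv.pull {t : ∀ a, Γ(P, W a)} (ht : RelInv c W idx hle t) (f : Y ⟶ P) :
    RelInv (c.comap f) (fun a => f ⁻¹ᵁ W a) idx (fun a => f.preimage_mono (hle a))
      (fun a => (f.app (W a)).hom (t a)) := by
  intro a b O ha hb
  have e : O ≤ f ⁻¹ᵁ (W a ⊓ W b) := le_inf ha hb
  have h1 := congrArg (f.appLE _ O e).hom (ht a b _ inf_le_left inf_le_right)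
  simp only [map_mul, appLE_res, c.appLE_G] at h1
  simp only [Scheme.Hom.app_eq_appLE, res_appLE]
  exact h1

/-- On an integral scheme, opposite sections with vanishing products vanish on one side. -/
theorem eq_zero_or_eq_zero [IsIntegral P] {x y : ∀ a, Γ(P, W a)} (hx : Rel c W idx hle x)
    (hy : RelInv c W idx hle y) (hxy : ∀ a, x a * y a = 0) : (∀ a, x a = 0) ∨ ∀ a, y a = 0 := by
  by_contra hc
  push_neg at hc
  obtain ⟨⟨a, ha⟩, b, hb⟩ := hc
  have ne : ∀ (d : κ) (z : Γ(P, W d)), z ≠ 0 → (W d : Set P).Nonempty := fun d z hz => by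
    rw [Set.nonempty_iff_ne_empty]
    intro h
    haveI : Subsingleton Γ(P, W d) := by
      rw [show W d = ⊥ from SetLike.coe_injective (by simpa using h)]; infer_instance
    exact hz (Subsingleton.elim _ _)
  obtain ⟨q, hqa, hqb⟩ := nonempty_preirreducible_inter (W a).isOpen (W b).isOpen (ne a _ ha) (ne b _ hb)
  haveI : Nonempty (W a ⊓ W b : P.Opens) := ⟨⟨q, hqa, hqb⟩⟩
  have inj : ∀ {d : κ} (h : W a ⊓ W b ≤ W d) (z : Γ(P, W d)), res h z = 0 → z = 0 := fun h z hz =>
    map_injective_of_isIntegral P (homOfLE h) (hz.trans (map_zero _).symm)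
  have h1 : res (inf_le_left : W a ⊓ W b ≤ W a) (x a) ≠ 0 := fun h => ha (inj inf_le_left _ h)
  have h2 : res (inf_le_right : W a ⊓ W b ≤ W b) (y b) ≠ 0 := fun h => hb (inj inf_le_right _ h)
  rw [hx a b _ inf_le_left inf_le_right] at h1
  have h3 : res (inf_le_right : W a ⊓ W b ≤ W b) (x b) * res inf_le_right (y b) = 0 := by
    rw [← map_mul, hxy b, map_zero]
  rcases mul_eq_zero.1 h3 with h | h
  · exact h1 (by rw [h, mul_zero])
  · exact h2 h

end Rel

variable {P Z : Scheme.{u}} (p : P ⟶ Z) {V : Z.Opens} (hV : IsAffineOpen V)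

theorem pc_mul_cancel [Flat p] [IsDomain Γ(Z, V)] (hV : IsAffineOpen V) {O : P.Opens} (e : O ≤ p ⁻¹ᵁ V)
    {d : Γ(Z, V)} (hd : d ≠ 0) {x : Γ(P, O)} (hx : pc p e d * x = 0) : x = 0 := by
  refine eq_of_cover (fun W : {W : P.affineOpens // W.1 ≤ O} => W.1.1) (fun W => W.2) (fun y hy => ?_) fun W => ?_
  · obtain ⟨W, hW, hyW, hWO⟩ := exists_isAffineOpen_mem_and_subset hy
    exact Opens.mem_iSup.2 ⟨⟨⟨W, hW⟩, hWO⟩, hyW⟩
  · rw [map_zero]
    have eW : W.1.1 ≤ p ⁻¹ᵁ V := W.2.trans e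
    have hx' : pc p eW d * res W.2 x = 0 := by
      have := congrArg (res W.2) hx
      rwa [map_mul, res_appLE, map_zero] at this
    have hf := p.flat_appLE hV W.1.2 eW
    algebraize [(p.appLE V W.1.1 eW).hom]
    have hreg : IsSMulRegular Γ(P, W.1.1) d :=
      (show IsSMulRegular Γ(Z, V) d from fun x y h => mul_left_cancel₀ hd h).of_flat (S := Γ(P, W.1.1))
    refine hreg ?_
    simp only [Algebra.smul_def, mul_zero]
    exact hx'

theorem res_pc {O O' : P.Opens} (h : O' ≤ O) (e : O ≤ p ⁻¹ᵁ V) (d : Γ(Z, V)) :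
    res h (pc p e d) = pc p (h.trans e) d := res_appLE p h e d

variable {c : Cocycle P} {κ : Type u} [Fintype κ] {W : κ → P.Opens} {idx : κ → c.ι} {hle : ∀ a, W a ≤ c.D (idx a)}

include hV in
/-- Splitting off the power of the uniformiser at a height one prime. -/
theorem exists_pow_factor [Flat p] [IsDomain Γ(Z, V)] (haff : ∀ a, IsAffineOpen (W a)) (heV : ∀ a, W a ≤ p ⁻¹ᵁ V)
    (hint : ∀ (K : Type u) [Field K] (g : Spec (CommRingCat.of K) ⟶ Z), IsIntegral (pullback p g))
    (𝔭 : Ideal Γ(Z, V)) [𝔭.IsPrime] {π : Γ(Z, V)} (hπ : π ∈ 𝔭) (hπ0 : π ≠ 0)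
    (hgen : ∀ x ∈ 𝔭, ∃ u y : Γ(Z, V), u ∉ 𝔭 ∧ u * x = π * y)
    (N : ℕ) : ∀ (u : Γ(Z, V)) (s t : ∀ a, Γ(P, W a)), u ∉ 𝔭 → Rel c W idx hle s → RelInv c W idx hle t →
      (∀ a, s a * t a = pc p (heV a) (u * π ^ N)) →
      ∃ (m : ℕ) (σ u' : Γ(Z, V)) (s' t' : ∀ a, Γ(P, W a)), σ ∉ 𝔭 ∧ u' ∉ 𝔭 ∧
        (∀ a, pc p (heV a) σ * s a = pc p (heV a) (π ^ m) * s' a) ∧
        Rel c W idx hle s' ∧ RelInv c W idx hle t' ∧ ∀ a, s' a * t' a = pc p (heV a) u' := by
  induction N with
  | zero =>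
    intro u s t hu hs ht hst
    exact ⟨0, 1, u, s, t, fun h => 𝔭.ne_top_iff_one.1 ‹𝔭.IsPrime›.ne_top h, hu, fun a => by simp, hs, ht,
      fun a => by rw [hst a, pow_zero, mul_one]⟩
  | succ N ih =>
    intro u s t hu hs ht hst
    classical
    let K := 𝔭.ResidueField
    let θ : Γ(Z, V) →+* K := algebraMap Γ(Z, V) K
    have hθ : RingHom.ker θ = 𝔭 := 𝔭.ker_algebraMap_residueField
    have hfrac : ∀ x : K, ∃ r s : Γ(Z, V), θ s ≠ 0 ∧ x * θ s = θ r := by
      intro x
      obtain ⟨r, s, hs, rfl⟩ := IsFractionRing.div_surjective (A := Γ(Z, V) ⧸ 𝔭) x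
      obtain ⟨r, rfl⟩ := Ideal.Quotient.mk_surjective r
      obtain ⟨s, rfl⟩ := Ideal.Quotient.mk_surjective s
      have e : ∀ a : Γ(Z, V), algebraMap (Γ(Z, V) ⧸ 𝔭) K (Ideal.Quotient.mk 𝔭 a) = θ a := fun a => rfl
      have hs0 : θ s ≠ 0 := by
        rw [← e]; exact IsFractionRing.to_map_ne_zero_of_mem_nonZeroDivisors hs
      exact ⟨r, s, hs0, by rw [e, e, div_mul_cancel₀ _ hs0]⟩
    let g := Spec.map (CommRingCat.ofHom θ) ≫ hV.fromSpec
    haveI := hint K g
    let j := pullback.fst p g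
    have hπθ : θ π = 0 := RingHom.mem_ker.1 (hθ.symm ▸ hπ)
    have hzero : ∀ a, (j.app (W a)).hom (pc p (heV a) π) = 0 := by
      intro a
      obtain ⟨b, s, hs, hb⟩ := (fibre_structure p hV θ (IsPullback.of_hasPullback p g) hfrac (haff a) (heV a)).1 1
      have hgV : (⊤ : (Spec (CommRingCat.of K)).Opens) ≤ g ⁻¹ᵁ V := fun q _ => by
        show hV.fromSpec (Spec.map (CommRingCat.ofHom θ) q) ∈ V
        have := Set.mem_range_self (f := hV.fromSpec) (Spec.map (CommRingCat.ofHom θ) q)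
        rwa [hV.range_fromSpec] at this
      have hgπ : (g.appLE V ⊤ hgV).hom π = 0 := by
        show ((Spec.map (CommRingCat.ofHom θ) ≫ hV.fromSpec).appLE V ⊤ hgV).hom π = 0
        rw [← Scheme.Hom.appLE_comp_appLE _ _ V ⊤ ⊤ (by rw [IsAffineOpen.fromSpec_preimage_self]) le_top,
          show (Spec.map (CommRingCat.ofHom θ)).appLE ⊤ ⊤ le_top = (Spec.map (CommRingCat.ofHom θ)).appTop
            from Scheme.Hom.appLE_eq_app _,
          show hV.fromSpec.appLE V ⊤ (by rw [IsAffineOpen.fromSpec_preimage_self]) =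
            (Scheme.ΓSpecIso Γ(Z, V)).inv from by
              simp [Scheme.Hom.appLE, IsAffineOpen.fromSpec_app_self, ← Functor.map_comp],
          ← Scheme.ΓSpecIso_inv_naturality]
        show (Scheme.ΓSpecIso (CommRingCat.of K)).inv.hom (θ π) = 0
        rw [hπθ, map_zero]
      have h2 : (g.appLE V ⊤ hgV).hom π = 0 → ((pullback.snd p g).appLE ⊤ (j ⁻¹ᵁ W a) le_top).hom
          ((g.appLE V ⊤ hgV).hom π) = 0 := fun h => by rw [h, map_zero]
      rw [Scheme.Hom.app_eq_appLE]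
      exact (appLE_sq pullback.condition (heV a) le_rfl hgV le_top π).trans (h2 hgπ)
    have hdiv : ∀ (s : ∀ a, Γ(P, W a)), (∀ a, (j.app (W a)).hom (s a) = 0) →
        ∃ (σ : Γ(Z, V)) (s₁ : ∀ a, Γ(P, W a)), σ ∉ 𝔭 ∧ ∀ a, pc p (heV a) σ * s a = pc p (heV a) π * s₁ a := by
      intro s hs0
      have h1 : ∀ a, ∃ (σ : Γ(Z, V)) (y : Γ(P, W a)), σ ∉ 𝔭 ∧ pc p (heV a) σ * s a = pc p (heV a) π * y := by
        intro a
        obtain ⟨σ, hσ, hmem⟩ :=
          (fibre_structure p hV θ (IsPullback.of_hasPullback p g) hfrac (haff a) (heV a)).2 _ (hs0 a)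
        rw [hθ] at hmem
        have hJ : ∀ x ∈ Ideal.map (pc p (heV a)) 𝔭, ∃ (τ : Γ(Z, V)) (y : Γ(P, W a)), τ ∉ 𝔭 ∧
            pc p (heV a) τ * x = pc p (heV a) π * y := by
          intro x hx
          refine Submodule.span_induction ?_ ?_ ?_ ?_ hx
          · rintro _ ⟨x, hx, rfl⟩
            obtain ⟨v, y, hv, hvy⟩ := hgen x hx
            exact ⟨v, pc p (heV a) y, hv, by rw [← map_mul, hvy, map_mul]⟩
          · exact ⟨1, 0, fun h => 𝔭.ne_top_iff_one.1 ‹𝔭.IsPrime›.ne_top h, by simp⟩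
          · rintro x y - - ⟨τ, y₁, hτ, h₁⟩ ⟨τ', y₂, hτ', h₂⟩
            refine ⟨τ * τ', pc p (heV a) τ' * y₁ + pc p (heV a) τ * y₂,
              fun h => (‹𝔭.IsPrime›.mem_or_mem h).elim hτ hτ', ?_⟩
            rw [map_mul]
            linear_combination (pc p (heV a) τ') * h₁ + (pc p (heV a) τ) * h₂
          · rintro r x - ⟨τ, y₁, hτ, h₁⟩
            refine ⟨τ, r * y₁, hτ, ?_⟩
            rw [smul_eq_mul]
            linear_combination r * h₁
        obtain ⟨τ, y, hτ, hy⟩ := hJ _ hmem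
        refine ⟨τ * σ, y, fun h => (‹𝔭.IsPrime›.mem_or_mem h).elim hτ (fun h' => hσ ?_), ?_⟩
        · exact RingHom.mem_ker.1 (hθ.symm ▸ h')
        · rw [map_mul, mul_assoc]; exact hy
      choose σ y hσ hy using h1
      refine ⟨∏ a, σ a, fun a => pc p (heV a) (∏ b ∈ Finset.univ.erase a, σ b) * y a,
        fun h => by
          obtain ⟨a, -, ha⟩ := ‹𝔭.IsPrime›.prod_mem_iff.1 h
          exact hσ a ha, fun a => ?_⟩
      rw [← Finset.mul_prod_erase _ _ (Finset.mem_univ a), map_mul]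
      linear_combination (pc p (heV a) (∏ b ∈ Finset.univ.erase a, σ b)) * hy a
    have hxy : ∀ a, (j.app (W a)).hom (s a) * (j.app (W a)).hom (t a) = 0 := fun a => by
      rw [← map_mul, hst a, map_mul, map_pow, map_mul, map_pow, hzero a, zero_pow (Nat.succ_ne_zero N), mul_zero]
    rcases eq_zero_or_eq_zero (hs.pull j) (ht.pull j) hxy with h | h
    · obtain ⟨σ, s₁, hσ, hs₁⟩ := hdiv s h
      have hrel : Rel c W idx hle s₁ := fun a b O ha hb => by
        rw [← sub_eq_zero]
        refine pc_mul_cancel p hV (ha.trans (heV a)) hπ0 ?_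
        have e1 := congrArg (res ha) (hs₁ a)
        have e2 := congrArg (res hb) (hs₁ b)
        simp only [map_mul, res_pc] at e1 e2
        have := hs a b O ha hb
        linear_combination (pc p (ha.trans (heV a)) σ) * this - e1 +
          (c.G (idx a) (idx b) (ha.trans (hle a)) (hb.trans (hle b))) * e2
      have hprod : ∀ a, s₁ a * t a = pc p (heV a) (σ * u * π ^ N) := fun a => by
        rw [← sub_eq_zero]
        refine pc_mul_cancel p hV (heV a) hπ0 ?_
        have e2 := hst a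
        rw [map_mul, map_pow, pow_succ] at e2
        rw [map_mul, map_mul, map_pow]
        linear_combination (pc p (heV a) σ) * e2 - (t a) * hs₁ a
      obtain ⟨m, σ', u', s', t', hσ', hu', hsσ, hs', ht', hst'⟩ := ih (σ * u) s₁ t
        (fun h => (‹𝔭.IsPrime›.mem_or_mem h).elim hσ hu) hrel ht hprod
      refine ⟨m + 1, σ' * σ, u', s', t', fun h => (‹𝔭.IsPrime›.mem_or_mem h).elim hσ' hσ, hu', fun a => ?_,
        hs', ht', hst'⟩
      rw [map_mul, pow_succ, map_mul]
      linear_combination (pc p (heV a) σ') * hs₁ a + (pc p (heV a) π) * hsσ a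
    · obtain ⟨σ, t₁, hσ, ht₁⟩ := hdiv t h
      have hrel : RelInv c W idx hle t₁ := fun a b O ha hb => by
        rw [← sub_eq_zero]
        refine pc_mul_cancel p hV (hb.trans (heV b)) hπ0 ?_
        have e1 := congrArg (res ha) (ht₁ a)
        have e2 := congrArg (res hb) (ht₁ b)
        simp only [map_mul, res_pc] at e1 e2
        have := ht a b O ha hb
        linear_combination (pc p (hb.trans (heV b)) σ) * this - e2 +
          (c.G (idx a) (idx b) (ha.trans (hle a)) (hb.trans (hle b))) * e1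
      have hprod : ∀ a, s a * t₁ a = pc p (heV a) (σ * u * π ^ N) := fun a => by
        rw [← sub_eq_zero]
        refine pc_mul_cancel p hV (heV a) hπ0 ?_
        have e2 := hst a
        rw [map_mul, map_pow, pow_succ] at e2
        rw [map_mul, map_mul, map_pow]
        linear_combination (pc p (heV a) σ) * e2 - (s a) * ht₁ a
      exact ih (σ * u) s t₁ (fun h => (‹𝔭.IsPrime›.mem_or_mem h).elim hσ hu) hs hrel hprod

variable {ε : Z ⟶ P} (hεp : ε ≫ p = 𝟙 Z)

omit [Fintype κ] in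
include hεp in
theorem le_of_section (heV : ∀ a, W a ≤ p ⁻¹ᵁ V) (a : κ) : ε ⁻¹ᵁ W a ≤ V := by
  refine (ε.preimage_mono (heV a)).trans (le_of_eq ?_)
  rw [← Scheme.Hom.comp_preimage, hεp]
  rfl

omit [Fintype κ] in
include hεp in
theorem app_section_pc (heV : ∀ a, W a ≤ p ⁻¹ᵁ V) (a : κ) (d : Γ(Z, V)) :
    (ε.app (W a)).hom (pc p (heV a) d) = res (le_of_section p hεp heV a) d := by
  rw [Scheme.Hom.app_eq_appLE, ← CommRingCat.comp_apply, Scheme.Hom.appLE_comp_appLE]
  have : ∀ (f : Z ⟶ Z), f = 𝟙 Z → ∀ e, (f.appLE V (ε ⁻¹ᵁ W a) e).hom d = res (le_of_section p hεp heV a) d := by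
    intro f hf e
    subst hf
    simp [Scheme.Hom.appLE, res]
  exact this _ hεp _

include hV hεp in
/-- The criterion over one affine open. -/
theorem exists_unit_family [IsIntegral Z] [IsLocallyNoetherian Z] [Flat p] [Nonempty V]
    (hnorm : ∀ z : Z, IsIntegrallyClosed (Z.presheaf.stalk z))
    (hint : ∀ (K : Type u) [Field K] (g : Spec (CommRingCat.of K) ⟶ Z), IsIntegral (pullback p g))
    (haff : ∀ a, IsAffineOpen (W a)) (heV : ∀ a, W a ≤ p ⁻¹ᵁ V) (hcov : p ⁻¹ᵁ V ≤ ⨆ a, W a)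
    (hη : Triv (c.comap (pullback.fst p (Z.fromSpecStalk (genericPoint Z)))))
    (T T' : ∀ a, Γ(Z, ε ⁻¹ᵁ W a)) (hTT : ∀ a, T a * T' a = 1)
    (hT : Rel (c.comap ε) (fun a => ε ⁻¹ᵁ W a) idx (fun a => ε.preimage_mono (hle a)) T) :
    ∃ s : ∀ a, Γ(P, W a), (∀ a, IsUnit (s a)) ∧ Rel c W idx hle s ∧ ∀ a, (ε.app (W a)).hom (s a) = T a := by
  classical
  haveI := NormalExt.isIntegrallyClosed_Γ hnorm V hV
  haveI : IsNoetherianRing Γ(Z, V) := IsLocallyNoetherian.component_noetherian ⟨V, hV⟩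
  have hT' : RelInv (c.comap ε) (fun a => ε ⁻¹ᵁ W a) idx (fun a => ε.preimage_mono (hle a)) T' := by
    intro a b O ha hb
    have e := hT a b O ha hb
    have ea : res ha (T a) * res ha (T' a) = 1 := by rw [← map_mul, hTT a, map_one]
    have eb : res hb (T b) * res hb (T' b) = 1 := by rw [← map_mul, hTT b, map_one]
    linear_combination (res hb (T' b) * res ha (T' a)) * e - (res hb (T' b)) * ea +
      ((c.comap ε).G (idx a) (idx b) (ha.trans (ε.preimage_mono (hle a))) (hb.trans (ε.preimage_mono (hle b))) *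
        res ha (T' a)) * eb
  -- values along the section
  have hV' : V ≤ ⨆ a, ε ⁻¹ᵁ W a := by
    rw [← Scheme.Hom.preimage_iSup]
    refine le_trans (le_of_eq ?_) (ε.preimage_mono hcov)
    rw [← Scheme.Hom.comp_preimage, hεp]
    rfl
  have hev : ∀ (s : ∀ a, Γ(P, W a)) (U U' : ∀ a, Γ(Z, ε ⁻¹ᵁ W a)), (∀ a, U a * U' a = 1) →
      (∀ a b O (ha : O ≤ ε ⁻¹ᵁ W a) (hb : O ≤ ε ⁻¹ᵁ W b),
        res ha ((ε.app (W a)).hom (s a) * U' a) = res hb ((ε.app (W b)).hom (s b) * U' b)) →
      ∃ e : Γ(Z, V), ∀ a, (ε.app (W a)).hom (s a) = res (le_of_section p hεp heV a) e * U a := by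
    intro s U U' hUU hag
    obtain ⟨e, he⟩ := exists_glue (fun a => ε ⁻¹ᵁ W a) (le_of_section p hεp heV) hV'
      (fun a => (ε.app (W a)).hom (s a) * U' a) (fun a b => hag a b _ inf_le_left inf_le_right)
    refine ⟨e, fun a => ?_⟩
    rw [he a, mul_assoc, mul_comm (U' a), hUU a, mul_one]
  have hevS : ∀ s, Rel c W idx hle s →
      ∃ e : Γ(Z, V), ∀ a, (ε.app (W a)).hom (s a) = res (le_of_section p hεp heV a) e * T a := fun s hs =>
    hev s T T' hTT fun a b O ha hb => by
      have e1 := hs.pull ε a b O ha hb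
      have e2 := hT' a b O ha hb
      simp only [map_mul]
      linear_combination (res ha (T' a)) * e1 - (res hb ((ε.app (W b)).hom (s b))) * e2
  have hevT : ∀ t, RelInv c W idx hle t →
      ∃ e : Γ(Z, V), ∀ a, (ε.app (W a)).hom (t a) = res (le_of_section p hεp heV a) e * T' a := fun t ht =>
    hev t T' T (fun a => by rw [mul_comm, hTT a]) fun a b O ha hb => by
      have e1 := ht.pull ε a b O ha hb
      have e2 := hT a b O ha hb
      simp only [map_mul]
      linear_combination (res ha ((ε.app (W a)).hom (t a))) * e2 - (res hb (T b)) * e1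
  have huniq : ∀ x y : Γ(Z, V), (∀ a, res (le_of_section p hεp heV a) x = res (le_of_section p hεp heV a) y) → x = y :=
    fun x y h => eq_of_cover _ (le_of_section p hεp heV) hV' h
  have hprod : ∀ (s t : ∀ a, Γ(P, W a)) (D e e' : Γ(Z, V)), (∀ a, s a * t a = pc p (heV a) D) →
      (∀ a, (ε.app (W a)).hom (s a) = res (le_of_section p hεp heV a) e * T a) →
      (∀ a, (ε.app (W a)).hom (t a) = res (le_of_section p hεp heV a) e' * T' a) → e * e' = D := by
    intro s t D e e' hst hs ht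
    refine huniq _ _ fun a => ?_
    rw [← app_section_pc p hεp heV a D, ← hst a, map_mul, map_mul, hs a, ht a]
    linear_combination -(res (le_of_section p hεp heV a) e * res (le_of_section p hεp heV a) e') * hTT a
  -- denominators on the generic fibre
  let η := genericPoint Z
  have hηV : η ∈ V := ((genericPoint_spec Z).mem_open_set_iff V.isOpen).2 (by simpa using ‹Nonempty V›)
  let θ : Γ(Z, V) →+* Z.functionField := (Z.presheaf.germ V η hηV).hom
  haveI := functionField_isFractionRing_of_isAffineOpen Z V hV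
  have hθi : Function.Injective θ := IsFractionRing.injective Γ(Z, V) Z.functionField
  have hfrac : ∀ x : Z.functionField, ∃ r s : Γ(Z, V), θ s ≠ 0 ∧ x * θ s = θ r := fun x => by
    obtain ⟨r, s, hs, rfl⟩ := IsFractionRing.div_surjective (A := Γ(Z, V)) x
    have hs0 : θ s ≠ 0 := (map_ne_zero_iff θ hθi).2 (nonZeroDivisors.ne_zero hs)
    exact ⟨r, s, hs0, div_mul_cancel₀ _ hs0⟩
  let j := pullback.fst p (Z.fromSpecStalk η)
  have H : IsPullback j (pullback.snd p (Z.fromSpecStalk η)) p (Spec.map (CommRingCat.ofHom θ) ≫ hV.fromSpec) := by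
    rw [show Spec.map (CommRingCat.ofHom θ) ≫ hV.fromSpec = Z.fromSpecStalk η from
      hV.fromSpecStalk_eq_fromSpecStalk hηV]
    exact IsPullback.of_hasPullback _ _
  obtain ⟨α, hα⟩ := hη
  let hD : ∀ a, j ⁻¹ᵁ W a ≤ (c.comap j).D (idx a) := fun a => j.preimage_mono (hle a)
  let x : ∀ a, Γ(pullback p (Z.fromSpecStalk η), j ⁻¹ᵁ W a) := fun a => res (le_inf le_top (hD a)) (α.1 (idx a))
  have hx : Rel (c.comap j) (fun a => j ⁻¹ᵁ W a) idx hD x := fun a b O ha hb => by
    simp only [x, res_res]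
    have := (c.comap j).sect_spec α (idx a) (idx b) (W := O)
      (le_inf le_top (ha.trans (hD a))) (le_inf le_top (hb.trans (hD b)))
    rwa [pow_one] at this
  choose y hy using fun a => (isUnit_component hα (idx a) (hD a)).exists_right_inv
  have hcl : ∀ x : (∀ a, Γ(pullback p (Z.fromSpecStalk η), j ⁻¹ᵁ W a)), ∃ (d : Γ(Z, V)) (b : ∀ a, Γ(P, W a)), d ≠ 0 ∧
      ∀ a, (j.app (W a)).hom (pc p (heV a) d) * x a = (j.app (W a)).hom (b a) := by
    intro x
    choose b d hd hb using fun a => (fibre_structure p hV θ H hfrac (haff a) (heV a)).1 (x a)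
    refine ⟨∏ a, d a, fun a => pc p (heV a) (∏ i ∈ Finset.univ.erase a, d i) * b a,
      Finset.prod_ne_zero_iff.2 fun a _ h => hd a (by rw [h, map_zero]), fun a => ?_⟩
    rw [← Finset.mul_prod_erase _ _ (Finset.mem_univ a), map_mul, map_mul, map_mul]
    linear_combination ((j.app (W a)).hom (pc p (heV a) (∏ i ∈ Finset.univ.erase a, d i))) * hb a
  obtain ⟨d, s₀, hd, hs₀⟩ := hcl x
  obtain ⟨d', t₀, hd', ht₀⟩ := hcl y
  have hinj : ∀ {O : P.Opens} (e : O ≤ p ⁻¹ᵁ V) (b : Γ(P, O)), (j.app O).hom b = 0 → b = 0 := fun e b hb =>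
    eq_zero_of_app_eq_zero p hV θ H hfrac ((RingHom.injective_iff_ker_eq_bot θ).1 hθi) e hb
  have happ : ∀ {O O' : P.Opens} (h : O' ≤ O) (b : Γ(P, O)),
      (j.app O').hom (res h b) = res (j.preimage_mono h) ((j.app O).hom b) := fun h b => by
    rw [Scheme.Hom.app_eq_appLE, Scheme.Hom.app_eq_appLE, appLE_res, res_appLE]
  have hG : ∀ (a b : κ) (O : P.Opens) (ha : O ≤ W a) (hb : O ≤ W b),
      (j.app O).hom (c.G (idx a) (idx b) (ha.trans (hle a)) (hb.trans (hle b))) =
        (c.comap j).G (idx a) (idx b) ((j.preimage_mono ha).trans (hD a)) ((j.preimage_mono hb).trans (hD b)) :=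
    fun a b O ha hb => by
      rw [Scheme.Hom.app_eq_appLE]; exact c.appLE_G j (idx a) (idx b) _ _ le_rfl
  have hs : Rel c W idx hle s₀ := fun a b O ha hb => by
    rw [← sub_eq_zero]
    refine hinj (ha.trans (heV a)) _ ?_
    rw [map_sub, map_mul, happ, happ, ← hs₀ a, ← hs₀ b, hG a b O ha hb, map_mul, map_mul]
    have hc1 : res (j.preimage_mono ha) ((j.app (W a)).hom (pc p (heV a) d)) =
        res (j.preimage_mono hb) ((j.app (W b)).hom (pc p (heV b) d)) := by
      rw [← happ ha, ← happ hb, res_pc, res_pc]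
    rw [hx a b (j ⁻¹ᵁ O) (j.preimage_mono ha) (j.preimage_mono hb), hc1]
    ring
  have hy' : RelInv (c.comap j) (fun a => j ⁻¹ᵁ W a) idx hD y := fun a b O ha hb => by
    have e := hx a b O ha hb
    have ea : res ha (x a) * res ha (y a) = 1 := by rw [← map_mul, hy a, map_one]
    have eb : res hb (x b) * res hb (y b) = 1 := by rw [← map_mul, hy b, map_one]
    linear_combination (res hb (y b) * res ha (y a)) * e - (res hb (y b)) * ea +
      ((c.comap j).G (idx a) (idx b) (ha.trans (hD a)) (hb.trans (hD b)) * res ha (y a)) * eb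
  have ht : RelInv c W idx hle t₀ := fun a b O ha hb => by
    rw [← sub_eq_zero]
    refine hinj (ha.trans (heV a)) _ ?_
    rw [map_sub, map_mul, happ, happ, ← ht₀ a, ← ht₀ b, hG a b O ha hb, map_mul, map_mul]
    have hc1 : res (j.preimage_mono ha) ((j.app (W a)).hom (pc p (heV a) d')) =
        res (j.preimage_mono hb) ((j.app (W b)).hom (pc p (heV b) d')) := by
      rw [← happ ha, ← happ hb, res_pc, res_pc]
    rw [hy' a b (j ⁻¹ᵁ O) (j.preimage_mono ha) (j.preimage_mono hb), hc1]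
    ring
  have hst : ∀ a, s₀ a * t₀ a = pc p (heV a) (d * d') := fun a => by
    rw [← sub_eq_zero]
    refine hinj (heV a) _ ?_
    rw [map_sub, map_mul, ← hs₀ a, ← ht₀ a, map_mul, map_mul]
    linear_combination ((j.app (W a)).hom (pc p (heV a) d) * (j.app (W a)).hom (pc p (heV a) d')) * hy a
  obtain ⟨e, he⟩ := hevS s₀ hs
  obtain ⟨e', he'⟩ := hevT t₀ ht
  have hee : e * e' = d * d' := hprod s₀ t₀ _ e e' hst he he'
  have hdd : d * d' ≠ 0 := mul_ne_zero hd hd'
  have he0 : e ≠ 0 := left_ne_zero_of_mul (hee ▸ hdd)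
  have he0' : e' ≠ 0 := right_ne_zero_of_mul (hee ▸ hdd)
  -- divisibility by the value along the section
  have hdivS : ∀ a, ∃ b, s₀ a = pc p (heV a) e * b ∧ ∃ b', t₀ a = pc p (heV a) e' * b' := by
    intro a
    have hf := p.flat_appLE hV (haff a) (heV a)
    algebraize [(p.appLE V (W a) (heV a)).hom]
    have key : ∀ (𝔭 : Ideal Γ(Z, V)), 𝔭.IsPrime → 𝔭.height = 1 →
        (∃ σ, σ ∉ 𝔭 ∧ pc p (heV a) σ * s₀ a ∈ Ideal.span {pc p (heV a) e}) ∧
        ∃ σ, σ ∉ 𝔭 ∧ pc p (heV a) σ * t₀ a ∈ Ideal.span {pc p (heV a) e'} := by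
      intro 𝔭 _ h1
      obtain ⟨π, hπ, hπ0, hfac, hgen⟩ := exists_uniformiser h1
      obtain ⟨N, u₁, v, hu₁, hv, huv⟩ := hfac _ hdd
      have hs1 : Rel c W idx hle fun a => pc p (heV a) u₁ * s₀ a := fun a b O ha hb => by
        simp only [map_mul, res_pc]
        linear_combination (pc p (ha.trans (heV a)) u₁) * hs a b O ha hb
      obtain ⟨m, σ, u', s', t', hσ, hu', hsσ, hs', ht', hst'⟩ := exists_pow_factor p hV haff heV hint 𝔭 hπ hπ0 hgen N
        v _ t₀ hv hs1 ht (fun a => by rw [mul_assoc, hst a, ← map_mul, huv])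
      obtain ⟨f, hf⟩ := hevS s' hs'
      obtain ⟨f', hf'⟩ := hevT t' ht'
      have hff : f * f' = u' := hprod s' t' u' f f' hst' hf hf'
      have hfp : f ∉ 𝔭 := fun h => hu' (hff ▸ 𝔭.mul_mem_right f' h)
      have hkey : σ * u₁ * e = π ^ m * f := huniq _ _ fun b => by
        have h2 := congrArg (ε.app (W b)).hom (hsσ b)
        simp only [map_mul, app_section_pc p hεp heV b, he b, hf b] at h2
        rw [map_mul, map_mul, map_mul]
        linear_combination (T' b) * h2 -
          (res (le_of_section p hεp heV b) σ * res (le_of_section p hεp heV b) u₁ * res (le_of_section p hεp heV b) e -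
            res (le_of_section p hεp heV b) (π ^ m) * res (le_of_section p hεp heV b) f) * hTT b
      have hpi : (pc p (heV a)) (σ * u₁ * e) = pc p (heV a) (π ^ m * f) := congrArg _ hkey
      rw [map_mul, map_mul, map_mul] at hpi
      refine ⟨⟨σ * u₁ * f, fun h => ((‹𝔭.IsPrime›.mem_or_mem h).elim
        (fun h => (‹𝔭.IsPrime›.mem_or_mem h).elim hσ hu₁) hfp), ?_⟩, ?_⟩
      · rw [Ideal.mem_span_singleton]
        refine ⟨pc p (heV a) σ * pc p (heV a) u₁ * s' a, ?_⟩
        rw [map_mul, map_mul]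
        linear_combination (pc p (heV a) f) * hsσ a - (s' a) * hpi
      · refine ⟨σ * u₁ * u', fun h => ((‹𝔭.IsPrime›.mem_or_mem h).elim
          (fun h => (‹𝔭.IsPrime›.mem_or_mem h).elim hσ hu₁) hu'), ?_⟩
        rw [Ideal.mem_span_singleton]
        refine ⟨pc p (heV a) f * (pc p (heV a) σ * pc p (heV a) u₁) * t' a, ?_⟩
        have e3 : pc p (heV a) σ * pc p (heV a) u₁ * (pc p (heV a) (e * e')) =
            pc p (heV a) (π ^ m) * (s' a * t₀ a) := by
          rw [hee, ← hst a]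
          linear_combination (t₀ a) * hsσ a
        rw [← sub_eq_zero]
        refine pc_mul_cancel p hV (heV a) (pow_ne_zero m hπ0) ?_
        rw [map_mul] at e3
        rw [map_mul, map_mul]
        linear_combination (pc p (heV a) σ * pc p (heV a) u₁ * pc p (heV a) e' * t' a) * hpi -
          (pc p (heV a) σ * pc p (heV a) u₁ * t' a) * e3 -
          (pc p (heV a) (π ^ m) * pc p (heV a) σ * pc p (heV a) u₁ * t₀ a) * hst' a
    have h1 := mem_span_of_forall_height_one (B := Γ(P, W a)) he0 (s₀ a) fun 𝔭 hp hh => (key 𝔭 hp hh).1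
    have h2 := mem_span_of_forall_height_one (B := Γ(P, W a)) he0' (t₀ a) fun 𝔭 hp hh => (key 𝔭 hp hh).2
    obtain ⟨b, hb⟩ := Ideal.mem_span_singleton.1 h1
    obtain ⟨b', hb'⟩ := Ideal.mem_span_singleton.1 h2
    exact ⟨b, hb, b', hb'⟩
  choose s hs1 t ht1 using hdivS
  refine ⟨s, fun a => IsUnit.of_mul_eq_one (t a) ?_, fun a b O ha hb => ?_, fun a => ?_⟩
  · rw [← sub_eq_zero]
    refine pc_mul_cancel p hV (heV a) hdd ?_
    have h2 := hst a
    rw [hs1 a, ht1 a] at h2
    have h3 : pc p (heV a) e * pc p (heV a) e' = pc p (heV a) (d * d') := by rw [← map_mul, hee]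
    linear_combination h2 - (s a * t a) * h3
  · rw [← sub_eq_zero]
    refine pc_mul_cancel p hV (ha.trans (heV a)) he0 ?_
    have h2 := hs a b O ha hb
    rw [hs1 a, hs1 b] at h2
    simp only [map_mul, res_pc] at h2
    linear_combination h2
  · have h2 := he a
    rw [hs1 a, map_mul, app_section_pc p hεp heV a e] at h2
    rw [← sub_eq_zero]
    have h3 : res (le_of_section p hεp heV a) e * ((ε.app (W a)).hom (s a) - T a) = 0 := by
      linear_combination h2
    by_cases hne : (ε ⁻¹ᵁ W a : Set Z).Nonempty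
    · haveI : Nonempty (ε ⁻¹ᵁ W a : Z.Opens) := hne.to_subtype
      exact (mul_eq_zero.1 h3).resolve_left fun h =>
        he0 (map_injective_of_isIntegral Z (homOfLE _) (h.trans (map_zero _).symm))
    · haveI : Subsingleton Γ(Z, ε ⁻¹ᵁ W a) := by
        rw [show ε ⁻¹ᵁ W a = ⊥ from SetLike.coe_injective (by simpa [Set.not_nonempty_iff_eq_empty] using hne)]
        infer_instance
      exact Subsingleton.elim _ _

end GrothLib.Cube
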