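import Groth.Agent.Lib.Cube.Lift

/-!
# The obstruction to lifting a trivialisation one level, and its restriction to slices
-/

universe u

open CategoryTheory CategoryTheory.Limits Opposite TopologicalSpace AlgebraicGeometry
open GrothLib.Ample

set_option backward.isDefEq.respectTransparency false

noncomputable section

namespace GrothLib.Cube

variable {R L : Type u} [CommRing R] [CommRing L] {φ : R →+* L} {π : R}
  {P P₀ : Scheme.{u}} {f : P ⟶ Spec (CommRingCat.of R)} {j₀ : P₀ ⟶ P}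
  {p₀ : P₀ ⟶ Spec (CommRingCat.of L)}
  {c : Cocycle P} {κ : Type u} {W : κ → P.Opens} {idx : κ → c.ι} {hle : ∀ a, W a ≤ c.D (idx a)}

variable (j₀) in
/-- The obstruction class of a level, normalised by inverses `w` of the trivialisation of the fibre. -/
def obs (W : κ → P.Opens) (w : ∀ a, Γ(P₀, j₀ ⁻¹ᵁ W a)) (z : ∀ a b, Γ(P, W a ⊓ W b)) (a b : κ) :
    Γ(P₀, j₀ ⁻¹ᵁ W a ⊓ j₀ ⁻¹ᵁ W b) :=
  (j₀.appLE (W a ⊓ W b) (j₀ ⁻¹ᵁ W a ⊓ j₀ ⁻¹ᵁ W b) le_rfl).hom (z a b) * res inf_le_left (w a)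

/-- Constants vanishing on the base of the fibre vanish on the fibre. -/
theorem cst_fibre_eq_zero {Y Y₀ : Scheme.{u}} {g : Y ⟶ Spec (CommRingCat.of R)} {j : Y₀ ⟶ Y}
    {p : Y₀ ⟶ Spec (CommRingCat.of L)} (H : IsPullback j p g (Spec.map (CommRingCat.ofHom φ)))
    {r : R} (hr : φ r = 0) {V : Y.Opens} {V₀ : Y₀.Opens} (e : V₀ ≤ j ⁻¹ᵁ V) :
    (j.appLE V V₀ e).hom (cst g V r) = 0 := by
  rw [appLE_cst, H.w, ← appLE_cst p (Spec.map (CommRingCat.ofHom φ)) (V := ⊤) le_top]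
  have : cst (Spec.map (CommRingCat.ofHom φ)) ⊤ r = 0 := by
    show ((Scheme.ΓSpecIso (CommRingCat.of R)).inv ≫ (Spec.map (CommRingCat.ofHom φ)).appLE ⊤ ⊤ le_top).hom r = 0
    rw [show (Spec.map (CommRingCat.ofHom φ)).appLE ⊤ ⊤ le_top = (Spec.map (CommRingCat.ofHom φ)).appTop
      from Scheme.Hom.appLE_eq_app _, ← Scheme.ΓSpecIso_inv_naturality]
    show (Scheme.ΓSpecIso (CommRingCat.of L)).inv.hom (φ r) = 0
    rw [hr, map_zero]
  rw [this, map_zero]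

/-- Lifts of a trivialisation of the fibre. -/
theorem exists_level_one [IsSeparated f] (H : IsPullback j₀ p₀ f (Spec.map (CommRingCat.ofHom φ)))
    (hφ : Function.Surjective φ) (hker : RingHom.ker φ = Ideal.span {π}) (haff : ∀ a, IsAffineOpen (W a))
    (u : ∀ a, Γ(P₀, j₀ ⁻¹ᵁ W a))
    (hrel : ∀ a b, res inf_le_left (u a) =
      (c.comap j₀).G (idx a) (idx b) (inf_le_left.trans (j₀.preimage_mono (hle a)))
        (inf_le_right.trans (j₀.preimage_mono (hle b))) * (res inf_le_right (u b) : Γ(P₀, j₀ ⁻¹ᵁ W a ⊓ j₀ ⁻¹ᵁ W b))) :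
    ∃ s z, IsLevel π f j₀ c W idx hle u 1 s z := by
  haveI : IsClosedImmersion j₀ := MorphismProperty.of_isPullback H.flip
    (show IsClosedImmersion (Spec.map (CommRingCat.ofHom φ)) from
      IsClosedImmersion.spec_of_surjective _ hφ)
  have hs : ∀ a, ∃ s, (j₀.app (W a)).hom s = u a := fun a => j₀.app_surjective (W a) (haff a) (u a)
  choose s hs using hs
  have hz : ∀ a b, ∃ z, tdelta c W idx hle s a b = cst f (W a ⊓ W b) π * z := fun a b => by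
    refine exists_eq_mul φ H hφ hker (isAffineOpen_inf (f := f) (haff a) (haff b)) _ ?_
    rw [Scheme.Hom.app_eq_appLE]
    show (j₀.appLE (W a ⊓ W b) (j₀ ⁻¹ᵁ W a ⊓ j₀ ⁻¹ᵁ W b) le_rfl).hom _ = 0
    simp only [tdelta, gg, map_sub, map_mul, appLE_res, c.appLE_G]
    have ea : (j₀.appLE (W a) (j₀ ⁻¹ᵁ W a ⊓ j₀ ⁻¹ᵁ W b) inf_le_left).hom (s a) =
        res (inf_le_left : j₀ ⁻¹ᵁ W a ⊓ j₀ ⁻¹ᵁ W b ≤ j₀ ⁻¹ᵁ W a) (u a) := by
      rw [← hs a, Scheme.Hom.app_eq_appLE, res_appLE]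
    have eb : (j₀.appLE (W b) (j₀ ⁻¹ᵁ W a ⊓ j₀ ⁻¹ᵁ W b) inf_le_right).hom (s b) =
        res (inf_le_right : j₀ ⁻¹ᵁ W a ⊓ j₀ ⁻¹ᵁ W b ≤ j₀ ⁻¹ᵁ W b) (u b) := by
      rw [← hs b, Scheme.Hom.app_eq_appLE, res_appLE]
    rw [ea, eb, sub_eq_zero]
    exact hrel a b
  choose z hz using hz
  exact ⟨s, z, hs, fun a b => by rw [pow_one]; exact hz a b⟩

/-- One step of lifting when the obstruction vanishes. -/
theorem exists_level_succ [Flat f] [IsSeparated f] (H : IsPullback j₀ p₀ f (Spec.map (CommRingCat.ofHom φ)))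
    (hφ : Function.Surjective φ) (hker : RingHom.ker φ = Ideal.span {π}) (haff : ∀ a, IsAffineOpen (W a))
    (u w : ∀ a, Γ(P₀, j₀ ⁻¹ᵁ W a)) (huw : ∀ a, u a * w a = 1)
    (hrel : ∀ a b, res inf_le_left (u a) =
      (c.comap j₀).G (idx a) (idx b) (inf_le_left.trans (j₀.preimage_mono (hle a)))
        (inf_le_right.trans (j₀.preimage_mono (hle b))) * (res inf_le_right (u b) : Γ(P₀, j₀ ⁻¹ᵁ W a ⊓ j₀ ⁻¹ᵁ W b)))
    {n : ℕ} {s z} (h : IsLevel π f j₀ c W idx hle u (n + 1) s z)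
    (hobs : SCob (fun a => j₀ ⁻¹ᵁ W a) (obs j₀ W w z)) :
    ∃ s' z', IsLevel π f j₀ c W idx hle u (n + 2) s' z' := by
  haveI : IsClosedImmersion j₀ := MorphismProperty.of_isPullback H.flip
    (show IsClosedImmersion (Spec.map (CommRingCat.ofHom φ)) from
      IsClosedImmersion.spec_of_surjective _ hφ)
  have hφπ : φ π = 0 := by rw [← RingHom.mem_ker, hker]; exact Ideal.mem_span_singleton_self π
  obtain ⟨v, hv⟩ := hobs
  have hV : ∀ a, ∃ V, (j₀.app (W a)).hom V = v a := fun a => j₀.app_surjective (W a) (haff a) (v a)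
  choose V hV using hV
  let e : ∀ a, Γ(P, W a) := fun a => V a * s a
  have hkey : ∀ a b, ∃ z', z a b - tdelta c W idx hle e a b = cst f (W a ⊓ W b) π * z' := fun a b => by
    refine exists_eq_mul φ H hφ hker (isAffineOpen_inf (f := f) (haff a) (haff b)) _ ?_
    rw [Scheme.Hom.app_eq_appLE]
    show (j₀.appLE (W a ⊓ W b) (j₀ ⁻¹ᵁ W a ⊓ j₀ ⁻¹ᵁ W b) le_rfl).hom _ = 0
    simp only [tdelta, e, gg, map_sub, map_mul, appLE_res, c.appLE_G]
    have ea : (j₀.appLE (W a) (j₀ ⁻¹ᵁ W a ⊓ j₀ ⁻¹ᵁ W b) inf_le_left).hom (s a) =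
        res (inf_le_left : j₀ ⁻¹ᵁ W a ⊓ j₀ ⁻¹ᵁ W b ≤ j₀ ⁻¹ᵁ W a) (u a) := by
      rw [← h.1 a, Scheme.Hom.app_eq_appLE, res_appLE]
    have eb : (j₀.appLE (W b) (j₀ ⁻¹ᵁ W a ⊓ j₀ ⁻¹ᵁ W b) inf_le_right).hom (s b) =
        res (inf_le_right : j₀ ⁻¹ᵁ W a ⊓ j₀ ⁻¹ᵁ W b ≤ j₀ ⁻¹ᵁ W b) (u b) := by
      rw [← h.1 b, Scheme.Hom.app_eq_appLE, res_appLE]
    have va : (j₀.appLE (W a) (j₀ ⁻¹ᵁ W a ⊓ j₀ ⁻¹ᵁ W b) inf_le_left).hom (V a) =
        res (inf_le_left : j₀ ⁻¹ᵁ W a ⊓ j₀ ⁻¹ᵁ W b ≤ j₀ ⁻¹ᵁ W a) (v a) := by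
      rw [← hV a, Scheme.Hom.app_eq_appLE, res_appLE]
    have vb : (j₀.appLE (W b) (j₀ ⁻¹ᵁ W a ⊓ j₀ ⁻¹ᵁ W b) inf_le_right).hom (V b) =
        res (inf_le_right : j₀ ⁻¹ᵁ W a ⊓ j₀ ⁻¹ᵁ W b ≤ j₀ ⁻¹ᵁ W b) (v b) := by
      rw [← hV b, Scheme.Hom.app_eq_appLE, res_appLE]
    rw [ea, eb, va, vb]
    have h1 : res (inf_le_left : j₀ ⁻¹ᵁ W a ⊓ j₀ ⁻¹ᵁ W b ≤ j₀ ⁻¹ᵁ W a) (u a) * res inf_le_left (w a) = 1 := by
      rw [← map_mul, huw a, map_one]
    have h2 := hv a b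
    have h3 := hrel a b
    simp only [obs] at h2
    linear_combination (res (inf_le_left : j₀ ⁻¹ᵁ W a ⊓ j₀ ⁻¹ᵁ W b ≤ j₀ ⁻¹ᵁ W a) (u a)) * h2 -
      ((j₀.appLE (W a ⊓ W b) (j₀ ⁻¹ᵁ W a ⊓ j₀ ⁻¹ᵁ W b) le_rfl).hom (z a b)) * h1 -
      (res (inf_le_right : j₀ ⁻¹ᵁ W a ⊓ j₀ ⁻¹ᵁ W b ≤ j₀ ⁻¹ᵁ W b) (v b)) * h3
  choose z' hz' using hkey
  refine ⟨fun a => s a - cst f (W a) (π ^ (n + 1)) * e a, z', fun a => ?_, fun a b => ?_⟩
  · rw [map_sub, map_mul, Scheme.Hom.app_eq_appLE, cst_fibre_eq_zero H (by rw [map_pow, hφπ, zero_pow (by omega)]),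
      zero_mul, sub_zero, ← Scheme.Hom.app_eq_appLE, h.1]
  · have h2 := h.2 a b
    have h3 := hz' a b
    simp only [tdelta, map_sub, map_mul, res_cst, map_pow] at h2 h3 ⊢
    rw [pow_succ _ (n + 1)]
    linear_combination h2 + (cst f (W a ⊓ W b) π ^ (n + 1)) * h3

/-- The obstruction restricts to a coboundary on a slice along which the cocycle is trivial. -/
theorem sCob_obs_slice [Flat f] (H : IsPullback j₀ p₀ f (Spec.map (CommRingCat.ofHom φ)))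
    (hφ : Function.Surjective φ) (hker : RingHom.ker φ = Ideal.span {π}) (hπ : IsRightRegular π)
    (haff : ∀ a, IsAffineOpen (W a)) (hcov : ⨆ a, W a = ⊤)
    (u w : ∀ a, Γ(P₀, j₀ ⁻¹ᵁ W a)) (huw : ∀ a, u a * w a = 1)
    (hrel : ∀ a b, res inf_le_left (u a) =
      (c.comap j₀).G (idx a) (idx b) (inf_le_left.trans (j₀.preimage_mono (hle a)))
        (inf_le_right.trans (j₀.preimage_mono (hle b))) * (res inf_le_right (u b) : Γ(P₀, j₀ ⁻¹ᵁ W a ⊓ j₀ ⁻¹ᵁ W b)))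
    {n : ℕ} {s z} (h : IsLevel π f j₀ c W idx hle u n s z)
    {Y Y₀ : Scheme.{u}} (σ : Y ⟶ P) [IsAffineHom σ] [Flat (σ ≫ f)] {jY : Y₀ ⟶ Y}
    {pY : Y₀ ⟶ Spec (CommRingCat.of L)} (HY : IsPullback jY pY (σ ≫ f) (Spec.map (CommRingCat.ofHom φ)))
    (hΓ : Function.Surjective pY.appTop.hom) (hσ : Triv (c.comap σ))
    (σ₀ : Y₀ ⟶ P₀) (hsq : σ₀ ≫ j₀ = jY ≫ σ) :
    SCob (fun a => σ₀ ⁻¹ᵁ (j₀ ⁻¹ᵁ W a)) (spull σ₀ (fun a => j₀ ⁻¹ᵁ W a) (obs j₀ W w z)) := by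
  obtain ⟨α, hα⟩ := hσ
  let g := σ ≫ f
  let V : κ → Y.Opens := fun a => σ ⁻¹ᵁ W a
  have hVD : ∀ a, V a ≤ (c.comap σ).D (idx a) := fun a => σ.preimage_mono (hle a)
  let T : ∀ a, Γ(Y, V a) := fun a => res (le_inf le_top (hVD a)) (α.1 (idx a))
  have hT : ∀ a, IsUnit (T a) := fun a => isUnit_component hα (idx a) (hVD a)
  choose T' hT' using fun a => (hT a).exists_right_inv
  have hTT : ∀ a b (O : Y.Opens) (ha : O ≤ V a) (hb : O ≤ V b), res ha (T a) =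
      (c.comap σ).G (idx a) (idx b) (ha.trans (hVD a)) (hb.trans (hVD b)) * res hb (T b) := fun a b O ha hb => by
    simp only [T, res_res]
    have := (c.comap σ).sect_spec α (idx a) (idx b) (W := O)
      (le_inf le_top (ha.trans (hVD a))) (le_inf le_top (hb.trans (hVD b)))
    rwa [pow_one] at this
  have hT'' : ∀ a b (O : Y.Opens) (ha : O ≤ V a) (hb : O ≤ V b), res hb (T' b) =
      (c.comap σ).G (idx a) (idx b) (ha.trans (hVD a)) (hb.trans (hVD b)) * res ha (T' a) := fun a b O ha hb => by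
    have ea : res ha (T a) * res ha (T' a) = 1 := by rw [← map_mul, hT' a, map_one]
    have eb : res hb (T b) * res hb (T' b) = 1 := by rw [← map_mul, hT' b, map_one]
    have := hTT a b O ha hb
    linear_combination (res hb (T' b) * res ha (T' a)) * this - (res hb (T' b)) * ea +
      ((c.comap σ).G (idx a) (idx b) (ha.trans (hVD a)) (hb.trans (hVD b)) * res ha (T' a)) * eb
  let fa : ∀ a, Γ(Y, V a) := fun a => (σ.appLE (W a) (V a) le_rfl).hom (s a) * T' a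
  let ω : ∀ a b, Γ(Y, V a ⊓ V b) := fun a b =>
    (σ.appLE (W a ⊓ W b) (V a ⊓ V b) le_rfl).hom (z a b) * res inf_le_left (T' a)
  have hfa : ∀ a b, res inf_le_left (fa a) - res inf_le_right (fa b) = cst g (V a ⊓ V b) (π ^ n) * ω a b := by
    intro a b
    have h2 := congrArg (σ.appLE (W a ⊓ W b) (V a ⊓ V b) le_rfl).hom (h.2 a b)
    rw [← map_pow] at h2
    simp only [tdelta, gg, map_sub, map_mul, appLE_res, c.appLE_G, appLE_cst] at h2
    simp only [fa, ω, map_mul, res_appLE]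
    rw [hT'' a b _ inf_le_left inf_le_right]
    linear_combination (res (inf_le_left : V a ⊓ V b ≤ V a) (T' a)) * h2
  have hind : ∀ m ≤ n, ∃ (r : R) (e : ∀ a, Γ(Y, V a)), ∀ a, fa a = cst g (V a) r + cst g (V a) (π ^ m) * e a := by
    intro m hm
    induction m with
    | zero => exact ⟨0, fa, fun a => by rw [pow_zero, map_zero, map_one, zero_add, one_mul]⟩
    | succ m ih =>
      obtain ⟨r, e, he⟩ := ih (by omega)
      obtain ⟨d, rfl⟩ : ∃ d, n = m + (d + 1) := ⟨n - m - 1, by omega⟩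
      have hed : ∀ a b, res inf_le_left (e a) - res inf_le_right (e b) = cst g (V a ⊓ V b) (π ^ (d + 1)) * ω a b := by
        intro a b
        rw [← sub_eq_zero]
        refine cst_mul_injective g (hπ.pow m) _ ?_
        have h2 := hfa a b
        rw [he a, he b, pow_add, map_mul] at h2
        simp only [map_add, map_mul, res_cst] at h2
        linear_combination h2
      let V₀ : κ → Y₀.Opens := fun a => jY ⁻¹ᵁ V a
      obtain ⟨ε, hε, -⟩ := Y₀.sheaf.existsUnique_gluing' V₀ ⊤ (fun a => homOfLE le_top)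
        (by rw [← Scheme.Hom.preimage_iSup, show (⨆ a, V a) = σ ⁻¹ᵁ ⨆ a, W a from (σ.preimage_iSup _).symm, hcov]; rfl)
        (fun a => (jY.app (V a)).hom (e a)) (fun a b => by
          show res inf_le_left ((jY.app (V a)).hom (e a)) = res inf_le_right ((jY.app (V b)).hom (e b))
          rw [← sub_eq_zero, Scheme.Hom.app_eq_appLE, Scheme.Hom.app_eq_appLE, res_appLE, res_appLE]
          have h3 := congrArg (jY.appLE (V a ⊓ V b) (V₀ a ⊓ V₀ b) le_rfl).hom (hed a b)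
          rw [map_sub, appLE_res, appLE_res, map_mul, cst_fibre_eq_zero HY (by
            rw [map_pow, ← RingHom.mem_ker.1 (hker ▸ Ideal.mem_span_singleton_self π : π ∈ RingHom.ker φ)]
            rw [show φ π = 0 from RingHom.mem_ker.1 (hker ▸ Ideal.mem_span_singleton_self π), zero_pow (by omega)]),
            zero_mul] at h3
          exact h3)
      obtain ⟨l, hl⟩ := hΓ ε
      obtain ⟨r', hr'⟩ := hφ ((Scheme.ΓSpecIso (CommRingCat.of L)).hom.hom l)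
      have he' : ∀ a, ∃ e', e a - cst g (V a) r' = cst g (V a) π * e' := fun a => by
        refine exists_eq_mul φ HY hφ hker ((haff a).preimage σ) _ ?_
        rw [map_sub, sub_eq_zero]
        refine ((hε a).symm.trans ?_)
        show res le_top ε = _
        rw [Scheme.Hom.app_eq_appLE, appLE_cst, HY.w, ← appLE_cst pY (Spec.map (CommRingCat.ofHom φ)) (V := ⊤) le_top]
        have hl' : cst (Spec.map (CommRingCat.ofHom φ)) ⊤ r' = l := by
          show ((Scheme.ΓSpecIso (CommRingCat.of R)).inv ≫ (Spec.map (CommRingCat.ofHom φ)).appLE ⊤ ⊤ le_top).hom r' = l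
          rw [show (Spec.map (CommRingCat.ofHom φ)).appLE ⊤ ⊤ le_top = (Spec.map (CommRingCat.ofHom φ)).appTop
            from Scheme.Hom.appLE_eq_app _, ← Scheme.ΓSpecIso_inv_naturality]
          show (Scheme.ΓSpecIso (CommRingCat.of L)).inv.hom (φ r') = l
          rw [hr', ← CommRingCat.comp_apply, Iso.hom_inv_id]
          rfl
        rw [hl', ← hl]
        show res le_top ((pY.app ⊤).hom l) = _
        rw [Scheme.Hom.app_eq_appLE]
        exact res_appLE pY le_top _ l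
      choose e' he' using he'
      refine ⟨r + π ^ m * r', e', fun a => ?_⟩
      rw [he a, map_add, map_mul, pow_succ, map_mul]
      linear_combination (cst g (V a) (π ^ m)) * he' a
  obtain ⟨r, e, he⟩ := hind n le_rfl
  have hed : ∀ a b, res inf_le_left (e a) - res inf_le_right (e b) = ω a b := by
    intro a b
    rw [← sub_eq_zero]
    refine cst_mul_injective g (hπ.pow n) _ ?_
    have h2 := hfa a b
    rw [he a, he b] at h2
    simp only [map_add, map_mul, res_cst] at h2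
    linear_combination h2
  let U : κ → Y₀.Opens := fun a => σ₀ ⁻¹ᵁ (j₀ ⁻¹ᵁ W a)
  have hUV : ∀ a, U a ≤ jY ⁻¹ᵁ V a := fun a => by
    show σ₀ ⁻¹ᵁ (j₀ ⁻¹ᵁ W a) ≤ jY ⁻¹ᵁ (σ ⁻¹ᵁ W a)
    rw [← Scheme.Hom.comp_preimage, ← Scheme.Hom.comp_preimage, hsq]
  let μ : ∀ a, Γ(Y₀, U a) := fun a =>
    (σ₀.appLE (j₀ ⁻¹ᵁ W a) (U a) le_rfl).hom (w a) * (jY.appLE (V a) (U a) (hUV a)).hom (T a)
  have hG : ∀ a b (O : Y₀.Opens) (ha : O ≤ U a) (hb : O ≤ U b),
      ((c.comap j₀).comap σ₀).G (idx a) (idx b) (ha.trans (σ₀.preimage_mono (j₀.preimage_mono (hle a))))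
        (hb.trans (σ₀.preimage_mono (j₀.preimage_mono (hle b)))) =
      ((c.comap σ).comap jY).G (idx a) (idx b) ((ha.trans (hUV a)).trans (jY.preimage_mono (hVD a)))
        ((hb.trans (hUV b)).trans (jY.preimage_mono (hVD b))) := by
    intro a b O ha hb
    simp only [Cocycle.comap_G]
    exact appLE_sq hsq _ _ _ _ (c.g (idx a) (idx b))
  have hμ : ∀ a b, res inf_le_left (μ a) = (res inf_le_right (μ b) : Γ(Y₀, U a ⊓ U b)) := by
    intro a b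
    simp only [μ, map_mul, res_appLE]
    have h1 := congrArg (σ₀.appLE (j₀ ⁻¹ᵁ W a ⊓ j₀ ⁻¹ᵁ W b) (U a ⊓ U b) le_rfl).hom (hrel a b)
    have hwa : res inf_le_left (u a) * res inf_le_left (w a) = (1 : Γ(P₀, j₀ ⁻¹ᵁ W a ⊓ j₀ ⁻¹ᵁ W b)) := by
      rw [← map_mul, huw a, map_one]
    have hwb : res inf_le_right (u b) * res inf_le_right (w b) = (1 : Γ(P₀, j₀ ⁻¹ᵁ W a ⊓ j₀ ⁻¹ᵁ W b)) := by
      rw [← map_mul, huw b, map_one]
    have hwa' := congrArg (σ₀.appLE (j₀ ⁻¹ᵁ W a ⊓ j₀ ⁻¹ᵁ W b) (U a ⊓ U b) le_rfl).hom hwa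
    have hwb' := congrArg (σ₀.appLE (j₀ ⁻¹ᵁ W a ⊓ j₀ ⁻¹ᵁ W b) (U a ⊓ U b) le_rfl).hom hwb
    have h2 := congrArg (jY.appLE (V a ⊓ V b) (U a ⊓ U b) (le_inf (inf_le_left.trans (hUV a)) (inf_le_right.trans (hUV b)))).hom
      (hTT a b _ inf_le_left inf_le_right)
    simp only [map_mul, map_one, appLE_res, Cocycle.appLE_G] at h1 h2 hwa' hwb'
    rw [hG a b _ inf_le_left inf_le_right] at h1
    set Ta := (jY.appLE (V a) (U a ⊓ U b) (inf_le_left.trans (hUV a))).hom (T a)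
    set Tb := (jY.appLE (V b) (U a ⊓ U b) (inf_le_right.trans (hUV b))).hom (T b)
    set wa := (σ₀.appLE (j₀ ⁻¹ᵁ W a) (U a ⊓ U b) inf_le_left).hom (w a)
    set wb := (σ₀.appLE (j₀ ⁻¹ᵁ W b) (U a ⊓ U b) inf_le_right).hom (w b)
    set Gab := ((c.comap σ).comap jY).G (idx a) (idx b) ((inf_le_left.trans (hUV a)).trans (jY.preimage_mono (hVD a)))
      ((inf_le_right.trans (hUV b)).trans (jY.preimage_mono (hVD b)) : U a ⊓ U b ≤ jY ⁻¹ᵁ (σ ⁻¹ᵁ c.D (idx b)))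
    linear_combination wa * h2 - Tb * (wa * wb * h1 - wb * hwa' + Gab * wa * hwb')
  let v : ∀ a, Γ(Y₀, U a) := fun a => μ a * (jY.appLE (V a) (U a) (hUV a)).hom (e a)
  refine ⟨v, fun a b => ?_⟩
  simp only [v, map_mul]
  rw [← hμ a b, ← mul_sub]
  have h3 := congrArg (jY.appLE (V a ⊓ V b) (U a ⊓ U b) (le_inf (inf_le_left.trans (hUV a)) (inf_le_right.trans (hUV b)))).hom (hed a b)
  simp only [ω, map_sub, map_mul, appLE_res] at h3
  simp only [μ, spull, obs, map_mul, res_appLE, appLE_res]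
  have h4 : (σ₀.appLE (j₀ ⁻¹ᵁ W a ⊓ j₀ ⁻¹ᵁ W b) (U a ⊓ U b) le_rfl).hom
        ((j₀.appLE (W a ⊓ W b) (j₀ ⁻¹ᵁ W a ⊓ j₀ ⁻¹ᵁ W b) le_rfl).hom (z a b)) =
      (jY.appLE (V a ⊓ V b) (U a ⊓ U b) (le_inf (inf_le_left.trans (hUV a)) (inf_le_right.trans (hUV b)))).hom
        ((σ.appLE (W a ⊓ W b) (V a ⊓ V b) le_rfl).hom (z a b)) := appLE_sq hsq _ _ _ _ _
  have hTT1 : (jY.appLE (V a) (U a ⊓ U b) (inf_le_left.trans (hUV a))).hom (T a) *
      (jY.appLE (V a) (U a ⊓ U b) (inf_le_left.trans (hUV a))).hom (T' a) = 1 := by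
    rw [← map_mul, hT' a, map_one]
  simp only [U, res_appLE] at h3 h4 hTT1 ⊢
  linear_combination ((σ₀.appLE (j₀ ⁻¹ᵁ W a) (U a ⊓ U b) inf_le_left).hom (w a)) * h4 -
    ((σ₀.appLE (j₀ ⁻¹ᵁ W a) (U a ⊓ U b) inf_le_left).hom (w a)) *
      ((jY.appLE (V a ⊓ V b) (U a ⊓ U b) (le_inf (inf_le_left.trans (hUV a)) (inf_le_right.trans (hUV b)))).hom
        ((σ.appLE (W a ⊓ W b) (V a ⊓ V b) le_rfl).hom (z a b))) * hTT1 -
    ((σ₀.appLE (j₀ ⁻¹ᵁ W a) (U a ⊓ U b) inf_le_left).hom (w a)) *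
      ((jY.appLE (V a) (U a ⊓ U b) (inf_le_left.trans (hUV a))).hom (T a)) * h3

/-- Main lifting theorem: trivial on the fibre and on enough slices implies trivial. -/
theorem triv_of_slices [IsNoetherianRing R] [IsProper f] [Flat f]
    (H : IsPullback j₀ p₀ f (Spec.map (CommRingCat.ofHom φ))) (hφ : Function.Surjective φ)
    (hker : RingHom.ker φ = Ideal.span {π}) (hπ : IsRightRegular π) (hjac : π ∈ Ideal.jacobson (⊥ : Ideal R))
    (c : Cocycle P) (h₀ : Triv (c.comap j₀))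
    {J : Type*} (Y Y₀ : J → Scheme.{u}) (σ : ∀ j, Y j ⟶ P) [∀ j, IsAffineHom (σ j)] [∀ j, Flat (σ j ≫ f)]
    (jY : ∀ j, Y₀ j ⟶ Y j) (pY : ∀ j, Y₀ j ⟶ Spec (CommRingCat.of L))
    (HY : ∀ j, IsPullback (jY j) (pY j) (σ j ≫ f) (Spec.map (CommRingCat.ofHom φ)))
    (hΓ : ∀ j, Function.Surjective (pY j).appTop.hom) (hσ : ∀ j, Triv (c.comap (σ j)))
    (σ₀ : ∀ j, Y₀ j ⟶ P₀) (hsq : ∀ j, σ₀ j ≫ j₀ = jY j ≫ σ j)
    (hH1 : ∀ (κ : Type u) (U : κ → P₀.Opens), (∀ a, IsAffineOpen (U a)) → (⨆ a, U a = ⊤) →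
      ∀ h, SCoc U h → (∀ j, SCob (fun a => σ₀ j ⁻¹ᵁ U a) (spull (σ₀ j) U h)) → SCob U h) :
    Triv c := by
  haveI : P.IsSeparated := ⟨by rw [← terminal.comp_from f]; infer_instance⟩
  have hex : ∀ x : P, ∃ (i : c.ι) (W : P.Opens), IsAffineOpen W ∧ x ∈ W ∧ W ≤ c.D i := fun x => by
    obtain ⟨i, hi⟩ := c.exists_mem x
    obtain ⟨W, hW, hxW, hWi⟩ := exists_isAffineOpen_mem_and_subset hi
    exact ⟨i, W, hW, hxW, hWi⟩
  choose idx W haff hxW hle using hex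
  have hcov : ⨆ x, W x = ⊤ := top_le_iff.1 fun x _ => Opens.mem_iSup.2 ⟨x, hxW x⟩
  haveI : IsClosedImmersion j₀ := MorphismProperty.of_isPullback H.flip
    (show IsClosedImmersion (Spec.map (CommRingCat.ofHom φ)) from
      IsClosedImmersion.spec_of_surjective _ hφ)
  obtain ⟨α, hα⟩ := h₀
  have hD : ∀ a, j₀ ⁻¹ᵁ W a ≤ (c.comap j₀).D (idx a) := fun a => j₀.preimage_mono (hle a)
  let u : ∀ a, Γ(P₀, j₀ ⁻¹ᵁ W a) := fun a => res (le_inf le_top (hD a)) (α.1 (idx a))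
  have hu : ∀ a, IsUnit (u a) := fun a => isUnit_component hα (idx a) (hD a)
  choose w hw using fun a => (hu a).exists_right_inv
  have hrel : ∀ a b, res inf_le_left (u a) =
      (c.comap j₀).G (idx a) (idx b) (inf_le_left.trans (hD a))
        (inf_le_right.trans (hD b)) * (res inf_le_right (u b) : Γ(P₀, j₀ ⁻¹ᵁ W a ⊓ j₀ ⁻¹ᵁ W b)) := fun a b => by
    simp only [u, res_res]
    have := (c.comap j₀).sect_spec α (idx a) (idx b) (W := j₀ ⁻¹ᵁ W a ⊓ j₀ ⁻¹ᵁ W b)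
      (le_inf le_top (inf_le_left.trans (hD a))) (le_inf le_top (inf_le_right.trans (hD b)))
    rwa [pow_one] at this
  refine triv_of_levels (W := W) (idx := idx) (hle := hle) H hφ hker hπ hjac haff hcov u hu fun n => ?_
  induction n with
  | zero => exact exists_level_one H hφ hker haff u hrel
  | succ n ih =>
    obtain ⟨s, z, h⟩ := ih
    refine exists_level_succ H hφ hker haff u w hw hrel h ?_
    refine hH1 P (fun a => j₀ ⁻¹ᵁ W a) (fun a => (haff a).preimage j₀)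
      (by rw [← Scheme.Hom.preimage_iSup, hcov]; rfl) _ ?_
      (fun j => sCob_obs_slice H hφ hker hπ haff hcov u w hw hrel h (σ j) (HY j) (hΓ j) (hσ j) (σ₀ j) (hsq j))
    intro a b d V ha hb hd
    have hz := isTCoc_of_level hπ h
    have e : V ≤ j₀ ⁻¹ᵁ (W a ⊓ W b ⊓ W d) := le_inf (le_inf ha hb) hd
    have h1 := congrArg (j₀.appLE (W a ⊓ W b ⊓ W d) V e).hom
      (hz a b d (W a ⊓ W b ⊓ W d) (inf_le_left.trans inf_le_left) (inf_le_left.trans inf_le_right) inf_le_right)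
    simp only [map_add, map_mul, appLE_res, Cocycle.appLE_G] at h1
    have hwa : res ha (u a) * res ha (w a) = 1 := by rw [← map_mul, hw a, map_one]
    have hwb : res hb (u b) * res hb (w b) = 1 := by rw [← map_mul, hw b, map_one]
    have h3 := congrArg (res (le_inf ha hb)) (hrel a b)
    simp only [map_mul, res_res, Cocycle.res_G] at h3
    simp only [obs, map_mul, res_res, res_appLE]
    linear_combination (res ha (w a)) * h1 -
      ((j₀.appLE (W b ⊓ W d) V (le_inf hb hd)).hom (z b d)) *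
        ((res ha (w a) * res hb (w b)) * h3 - (res hb (w b)) * hwa +
          ((c.comap j₀).G (idx a) (idx b) (ha.trans (hD a)) (hb.trans (hD b)) * res ha (w a)) * hwb)

end GrothLib.Cube
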