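import Groth.Agent.Lib.ProjCoh.Finite
import Groth.Agent.Lib.Cohom.Affine
import Groth.Agent.Lib.QCoh.Extension
import Groth.Agent.Lib.Euler.Coh
import Groth.Agent.Lib.InvExt.Gen
import Mathlib.RingTheory.Filtration

/-!
# Čech one-cocycles embed into first cohomology

For an arbitrary open cover `W` of a scheme and a module `M`, a cocycle `z a b ∈ M(W a ⊓ W b)` has a class in
`H¹(X, M)` which vanishes exactly on coboundaries.
-/

universe u

open CategoryTheory CategoryTheory.Limits Opposite TopologicalSpace AlgebraicGeometry Abelian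
open GrothLib.InvExt (mres mres_mres mres_smul mres_self fres)

set_option backward.isDefEq.respectTransparency false

noncomputable section

namespace GrothLib.Cube

variable {X : Scheme.{u}} {κ : Type u} (W : κ → X.Opens) (M : X.Modules)

/-- Cochains of degree one. -/
abbrev C1 : Type u := ∀ a b, Γ(M, W a ⊓ W b)

variable {W M}

/-- The cocycle condition. -/
def IsCoc (z : C1 W M) : Prop :=
  ∀ (a b c : κ) (V : X.Opens) (ha : V ≤ W a) (hb : V ≤ W b) (hc : V ≤ W c),
    mres M (le_inf ha hc) (z a c) = mres M (le_inf ha hb) (z a b) + mres M (le_inf hb hc) (z b c)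

/-- The coboundary of a zero cochain. -/
def delta (m : ∀ a, Γ(M, W a)) : C1 W M :=
  fun a b => mres M inf_le_left (m a) - mres M inf_le_right (m b)

/-- Being a coboundary. -/
def IsCob (z : C1 W M) : Prop := ∃ m, delta m = z

theorem isCoc_delta (m : ∀ a, Γ(M, W a)) : IsCoc (delta m) := by
  intro a b c V ha hb hc
  simp only [delta, mres, map_sub]
  show mres M _ (mres M _ _) - mres M _ (mres M _ _) = (mres M _ (mres M _ _) - mres M _ (mres M _ _)) +
    (mres M _ (mres M _ _) - mres M _ (mres M _ _))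
  simp only [mres_mres]
  abel

theorem IsCoc.self {z : C1 W M} (hz : IsCoc z) (a : κ) {V : X.Opens} (h : V ≤ W a) :
    mres M (le_inf h h) (z a a) = 0 := by
  have := hz a a a V h h h
  simpa using this

section Godement

variable (W M)

/-- Families of sections over the pieces of the cover. -/
def famAb : TopCat.Presheaf AddCommGrpCat.{u} X.carrier where
  obj V := AddCommGrpCat.of (∀ c, Γ(M, V.unop ⊓ W c))
  map {V V'} i := AddCommGrpCat.ofHom
    { toFun := fun t c => mres M (inf_le_inf_right _ (leOfHom i.unop)) (t c)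
      map_zero' := funext fun c => map_zero _
      map_add' := fun s t => funext fun c => map_add _ _ _ }
  map_id V := by
    ext t c
    exact mres_self M (t c)
  map_comp i j := by
    ext t c
    exact (mres_mres M _ _ (t c)).symm

theorem isSheaf_famAb : (famAb W M).IsSheaf := by
  rw [TopCat.Presheaf.isSheaf_iff_isSheafUniqueGluing]
  intro ι V sf hsf
  have key : ∀ c, ∃! t : Γ(M, iSup V ⊓ W c), ∀ k, mres M (inf_le_inf_right _ (le_iSup V k)) t = sf k c := by
    intro c
    refine TopCat.Sheaf.existsUnique_gluing' ⟨M.presheaf, M.isSheaf⟩ (fun k => V k ⊓ W c) (iSup V ⊓ W c)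
      (fun k => homOfLE (inf_le_inf_right _ (le_iSup V k))) (le_of_eq (iSup_inf_eq V (W c))) _ fun k l => ?_
    have h1 : (fun c => mres M (inf_le_inf_right (W c) (inf_le_left : V k ⊓ V l ≤ V k)) (sf k c)) =
        fun c => mres M (inf_le_inf_right (W c) (inf_le_right : V k ⊓ V l ≤ V l)) (sf l c) := hsf k l
    have hle : (V k ⊓ W c) ⊓ (V l ⊓ W c) ≤ V k ⊓ V l ⊓ W c :=
      le_inf (inf_le_inf inf_le_left inf_le_left) (inf_le_left.trans inf_le_right)
    have h2 := congrArg (mres M hle) (congrFun h1 c)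
    rw [mres_mres, mres_mres] at h2
    exact h2
  choose t ht htu using key
  exact ⟨t, fun k => funext fun c => ht c k, fun s hs => funext fun c => htu c _ fun k => congrFun (hs k) c⟩

/-- Families form a module over the functions. -/
def famModule (V : X.Opens) : Module Γ(X, V) (∀ c, Γ(M, V ⊓ W c)) :=
  letI : ∀ c, Module Γ(X, V) Γ(M, V ⊓ W c) := fun c =>
    Module.compHom _ (X.presheaf.map (homOfLE (inf_le_left : V ⊓ W c ≤ V)).op).hom
  Pi.module _ _ _

/-- The first term of the Čech resolution. -/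
def fam : X.Modules where
  val :=
    letI (V : (Opens X)ᵒᵖ) : Module (X.ringCatSheaf.obj.obj V) ((famAb W M).obj V) := famModule W M V.unop
    PresheafOfModules.ofPresheaf (famAb W M) fun V V' i (r : Γ(X, V.unop)) t => funext fun c =>
      (mres_smul M _ (fres X (inf_le_left : V.unop ⊓ W c ≤ V.unop) r) (t c)).trans
        (congrArg (fun x : Γ(X, V'.unop ⊓ W c) => x • mres M (inf_le_inf_right _ (leOfHom i.unop)) (t c))
          ((InvExt.fres_fres _ _ r).trans (InvExt.fres_fres (leOfHom i.unop) inf_le_left r).symm))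
  isSheaf := isSheaf_famAb W M

/-- The inclusion into families. -/
def toFam : M ⟶ fam W M :=
  ⟨{ app := fun V => ModuleCat.ofHom (X := (M.val.obj V : Type u)) (Y := ((fam W M).val.obj V : Type u))
      { toFun := fun (m : Γ(M, V.unop)) c => mres M inf_le_left m
        map_add' := fun a b => funext fun c => map_add _ _ _
        map_smul' := fun (r : Γ(X, V.unop)) (a : Γ(M, V.unop)) => funext fun c => mres_smul M _ r a }
     naturality := fun {V V'} i => by
      ext (m : Γ(M, V.unop))
      funext c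
      exact (mres_mres M _ _ m).trans (mres_mres M _ _ m).symm }⟩

variable {W} in
theorem mono_toFam (hW : ⨆ a, W a = ⊤) : Mono (toFam W M) := by
  refine ⟨fun {N} g h hgh => Scheme.Modules.hom_ext g h fun V => ?_⟩
  ext (s : Γ(N, V))
  refine TopCat.Sheaf.eq_of_locally_eq' ⟨M.presheaf, M.isSheaf⟩ (fun c => V ⊓ W c) V
    (fun c => homOfLE inf_le_left) (by rw [← inf_iSup_eq, hW, inf_top_eq]) _ _ fun c => ?_
  have := congrArg (fun φ : N ⟶ fam W M => φ.app V s) hgh
  exact congrFun this c

variable {W} in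
/-- Classes of cocycles in first cohomology. -/
theorem exists_classMap (A : Type u) [CommRing A] [X.Over (Spec (CommRingCat.of A))] (hW : ⨆ a, W a = ⊤) :
    ∃ φ : ∀ z : C1 W M, IsCoc z → Coh.HH X M 1,
      (∀ z hz, φ z hz = 0 ↔ IsCob z) ∧
      (∀ z z' hz hz' hs, φ (z + z') hs = φ z hz + φ z' hz') ∧
      ∀ (r : A) z hz hs,
        φ (fun a b => fres X (le_top : W a ⊓ W b ≤ ⊤) (Coh.toGlobal (X ↘ Spec (CommRingCat.of A)) r : Γ(X, ⊤)) • z a b) hs =
          r • φ z hz := by
  have := mono_toFam M hW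
  let S : ShortComplex X.Modules := ShortComplex.mk (toFam W M) (cokernel.π (toFam W M)) (cokernel.condition _)
  have hS : S.ShortExact := ShortComplex.ShortExact.mk (ShortComplex.exact_cokernel _)
  let b : C1 W M → ∀ a, Γ(fam W M, W a) := fun z a c => z a c
  have hmres : ∀ {V V' : X.Opens} (h : V' ≤ V) (t : Γ(fam W M, V)) (c : κ),
      (mres (fam W M) h t : ∀ c, Γ(M, V' ⊓ W c)) c = mres M (inf_le_inf_right _ h) ((t : ∀ c, Γ(M, V ⊓ W c)) c) :=
    fun h t c => rfl
  have hg : ∀ {V V' : X.Opens} (h : V' ≤ V) (t : Γ(fam W M, V)),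
      mres S.X₃ h (S.g.app V t) = S.g.app V' (mres (fam W M) h t) :=
    fun h t => (PresheafOfModules.naturality_apply S.g.val (homOfLE h).op t).symm
  have hf : ∀ {V : X.Opens} (m : Γ(M, V)) (c : κ), (S.f.app V m : ∀ c, Γ(M, V ⊓ W c)) c = mres M inf_le_left m :=
    fun m c => rfl
  have hq : ∀ z : C1 W M, IsCoc z →
      ∃! q : Γ(S.X₃, ⊤), ∀ a, mres S.X₃ le_top q = S.g.app (W a) (b z a) := by
    intro z hz
    refine TopCat.Sheaf.existsUnique_gluing' ⟨S.X₃.presheaf, S.X₃.isSheaf⟩ W ⊤ (fun a => homOfLE le_top)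
      (by rw [hW]) _ fun a a' => ?_
    show mres S.X₃ inf_le_left (S.g.app (W a) (b z a)) = mres S.X₃ inf_le_right (S.g.app (W a') (b z a'))
    rw [hg, hg, ← sub_eq_zero, ← map_sub]
    have : mres (fam W M) inf_le_left (b z a) - mres (fam W M) inf_le_right (b z a') = S.f.app _ (z a a') := by
      refine funext fun c => ?_
      show mres M _ (z a c) - mres M _ (z a' c) = mres M _ (z a a')
      rw [sub_eq_iff_eq_add]
      exact (hz a a' c _ (inf_le_left.trans inf_le_left) (inf_le_left.trans inf_le_right) inf_le_right)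
    rw [this]
    exact QCoh.app_comp_zero _ _
  choose q hq hqu using hq
  have hadd : ∀ z z' hz hz' hs, q (z + z') hs = q z hz + q z' hz' := by
    intro z z' hz hz' hs
    refine (hqu _ hs _ fun a => ?_).symm
    show mres S.X₃ le_top (q z hz + q z' hz') = _
    rw [show b (z + z') a = b z a + b z' a from rfl, map_add]
    exact (map_add _ _ _).trans (congrArg₂ (· + ·) (hq z hz a) (hq z' hz' a))
  have hsm : ∀ (ρ : Γ(X, ⊤)) z hz hs, q (fun a b => fres X (le_top : W a ⊓ W b ≤ ⊤) ρ • z a b) hs = ρ • q z hz := by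
    intro ρ z hz hs
    refine (hqu _ hs _ fun a => ?_).symm
    show mres S.X₃ le_top (ρ • q z hz) = _
    rw [mres_smul, hq z hz a, ← Scheme.Modules.Hom.app_smul]
    congr 1
    funext c
    show fres X (inf_le_left : W a ⊓ W c ≤ W a) (fres X (le_top : W a ≤ ⊤) ρ) • z a c = fres X (le_top : W a ⊓ W c ≤ ⊤) ρ • z a c
    rw [InvExt.fres_fres]
  have hzero : ∀ z hz, (∃ t : Γ(fam W M, ⊤), S.g.app ⊤ t = q z hz) ↔ IsCob z := by
    intro z hz
    constructor
    · rintro ⟨t, ht⟩
      have : ∀ a, ∃ m : Γ(M, W a), S.f.app (W a) m = b z a - mres (fam W M) le_top t := fun a => by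
        refine QCoh.app_exact hS _ _ ?_
        rw [map_sub, ← hg, ht, hq z hz a, sub_self]
      choose m hm using this
      refine ⟨m, funext fun a => funext fun a' => ?_⟩
      refine TopCat.Sheaf.eq_of_locally_eq' ⟨M.presheaf, M.isSheaf⟩ (fun c => (W a ⊓ W a') ⊓ W c) _
        (fun c => homOfLE inf_le_left) (by rw [← inf_iSup_eq, hW, inf_top_eq]) _ _ fun c => ?_
      show mres M inf_le_left (delta m a a') = mres M inf_le_left (z a a')
      have e1 := congrArg (fun s : ∀ c, Γ(M, W a ⊓ W c) => mres M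
        (inf_le_inf_right (W c) inf_le_left : (W a ⊓ W a') ⊓ W c ≤ W a ⊓ W c) (s c)) (hm a)
      have e2 := congrArg (fun s : ∀ c, Γ(M, W a' ⊓ W c) => mres M
        (inf_le_inf_right (W c) inf_le_right : (W a ⊓ W a') ⊓ W c ≤ W a' ⊓ W c) (s c)) (hm a')
      simp only [hf, mres_mres] at e1 e2
      have e3 := hz a a' c ((W a ⊓ W a') ⊓ W c) (inf_le_left.trans inf_le_left)
        (inf_le_left.trans inf_le_right) inf_le_right
      simp only [delta]
      show mres M _ (mres M inf_le_left (m a) - mres M inf_le_right (m a')) = _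
      rw [show ∀ (V V' : X.Opens) (h : V' ≤ V) (x y : Γ(M, V)), mres M h (x - y) = mres M h x - mres M h y from
        fun _ _ _ _ _ => map_sub _ _ _, mres_mres, mres_mres, e1, e2]
      show mres M _ (z a c - mres M _ _) - mres M _ (z a' c - mres M _ _) = _
      rw [show ∀ (V V' : X.Opens) (h : V' ≤ V) (x y : Γ(M, V)), mres M h (x - y) = mres M h x - mres M h y from
        fun _ _ _ _ _ => map_sub _ _ _, show ∀ (V V' : X.Opens) (h : V' ≤ V) (x y : Γ(M, V)), mres M h (x - y) = mres M h x - mres M h y from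
        fun _ _ _ _ _ => map_sub _ _ _, mres_mres, mres_mres, e3]
      abel
    · rintro ⟨m, rfl⟩
      let t : Γ(fam W M, ⊤) := fun c => - mres M (inf_le_right : ⊤ ⊓ W c ≤ W c) (m c)
      refine ⟨t, (hqu _ hz _ fun a => ?_)⟩
      show mres S.X₃ le_top (S.g.app ⊤ t) = _
      rw [hg, ← sub_eq_zero, ← map_sub]
      have : mres (fam W M) le_top t - b (delta m) a = S.f.app (W a) (- m a) := by
        refine funext fun c => ?_
        show mres M _ (- mres M _ (m c)) - (mres M _ (m a) - mres M _ (m c)) = mres M _ (- m a)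
        simp only [mres, map_neg]
        show - mres M _ (mres M _ (m c)) - (mres M _ (m a) - mres M _ (m c)) = - mres M _ (m a)
        rw [mres_mres]
        abel
      rw [this]
      exact QCoh.app_comp_zero _ _
  refine ⟨fun z hz => Cohom.hhDelta A hS 0 ((ProjCoh.H0top S.X₃).symm (q z hz)), ?_, ?_, ?_⟩
  · intro z hz
    rw [← hzero z hz]
    refine (Cohom.exact₃ (A := A) hS 0 _).trans ⟨?_, ?_⟩
    · rintro ⟨y, hy⟩
      refine ⟨ProjCoh.H0top S.X₂ y, ?_⟩
      have := congrArg (ProjCoh.H0top S.X₃) hy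
      rw [AddEquiv.apply_symm_apply] at this
      exact (ProjCoh.H0top_map _ y).symm.trans this
    · rintro ⟨t, ht⟩
      refine ⟨(ProjCoh.H0top S.X₂).symm t, (ProjCoh.H0top S.X₃).injective ?_⟩
      rw [AddEquiv.apply_symm_apply, ← ht]
      refine (ProjCoh.H0top_map _ _).trans ?_
      exact congrArg (fun x => S.g.app ⊤ x) ((ProjCoh.H0top S.X₂).apply_symm_apply t)
  · intro z z' hz hz' hs
    show Cohom.hhDelta A hS 0 _ = _
    rw [hadd z z' hz hz' hs, map_add, map_add]
  · intro r z hz hs
    show Cohom.hhDelta A hS 0 _ = r • Cohom.hhDelta A hS 0 _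
    rw [hsm _ z hz hs, ← map_smul]
    congr 1
    rw [AddEquiv.symm_apply_eq, ProjCoh.H0top_smul, AddEquiv.apply_symm_apply]

end Godement

/-- On an affine scheme every cocycle of a quasi-coherent module is a coboundary. -/
theorem isCob_of_isAffine [IsAffine X] [M.IsQuasicoherent] (hW : ⨆ a, W a = ⊤) {z : C1 W M} (hz : IsCoc z) :
    IsCob z := by
  letI : X.Over (Spec (CommRingCat.of Γ(X, ⊤))) := ⟨X.isoSpec.hom⟩
  obtain ⟨φ, h0, -, -⟩ := exists_classMap M Γ(X, ⊤) hW
  have := Cohom.subsingleton_HH_of_isAffine M 1 one_pos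
  exact (h0 z hz).1 (@Subsingleton.elim _ this _ _)

/-- A cocycle class which is divisible by every power of an element of the Jacobson radical vanishes, on a
proper scheme over a Noetherian ring. -/
theorem isCob_of_divisible (A : Type u) [CommRing A] [IsNoetherianRing A] [X.Over (Spec (CommRingCat.of A))]
    [IsProper (X ↘ Spec (CommRingCat.of A))] (hM : Coh.IsCoh M) (hW : ⨆ a, W a = ⊤)
    (π : A) (hπ : π ∈ Ideal.jacobson (⊥ : Ideal A)) {z : C1 W M} (hz : IsCoc z)
    (hdiv : ∀ n : ℕ, ∃ w, IsCoc w ∧ IsCob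
      (z - fun a b => fres X (le_top : W a ⊓ W b ≤ ⊤) (Coh.toGlobal (X ↘ Spec (CommRingCat.of A)) (π ^ n) : Γ(X, ⊤)) • w a b)) :
    IsCob z := by
  obtain ⟨φ, h0, hadd, hsm⟩ := exists_classMap M A hW
  have := ProjCoh.moduleFinite_HH A M hM 1
  refine (h0 z hz).1 ?_
  have hmem : φ z hz ∈ (⨅ n : ℕ, (Ideal.span {π}) ^ n • ⊤ : Submodule A (Coh.HH X M 1)) := by
    refine (Submodule.mem_iInf _).2 fun n => ?_
    obtain ⟨w, hw, hcob⟩ := hdiv n
    set ρ : Γ(X, ⊤) := Coh.toGlobal (X ↘ Spec (CommRingCat.of A)) (π ^ n)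
    set u : C1 W M := fun a b => fres X (le_top : W a ⊓ W b ≤ ⊤) ρ • w a b with hu
    have hu1 : IsCoc u := fun a b c V ha hb hc => by
      simp only [hu, mres_smul, InvExt.fres_fres, hw a b c V ha hb hc, smul_add]
    obtain ⟨m, hm⟩ := hcob
    have hd : IsCoc (z - u) := hm ▸ isCoc_delta m
    have hz2 : φ z hz = φ (z - u) hd + φ u hu1 := by
      have hs : IsCoc ((z - u) + u) := by rwa [sub_add_cancel]
      rw [← hadd (z - u) u hd hu1 hs]
      congr 1
      rw [sub_add_cancel]
    rw [hz2, (h0 _ hd).2 ⟨m, hm⟩, zero_add, hsm (π ^ n) w hw hu1]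
    exact Submodule.smul_mem_smul (Ideal.pow_mem_pow (Ideal.mem_span_singleton_self π) n) Submodule.mem_top
  rwa [Ideal.iInf_pow_smul_eq_bot_of_le_jacobson _ ((Ideal.span_singleton_le_iff_mem _).2 hπ),
    Submodule.mem_bot] at hmem

end GrothLib.Cube
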